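import Cfsg.Agent.FusionNormal.FixFocal
import Cfsg.Agent.Fusion.CentralizerSubsystemClosure

/-!
The focal subgroup of `C_F(T)` is centralized by a normal subsystem over `T`.
-/

set_option autoImplicit false

universe u

namespace CfsgLib.FusionNormal

open Cfsg Cfsg.FusionSystem CfsgLib.Fusion
open scoped commutatorElement

variable {Ω : Type u} [Group Ω] {S T R : Subgroup Ω} {F : FusionSystem S} {E : FusionSystem T}
  {p : ℕ} [Finite S] [Fact p.Prime]

omit [Finite S] [Fact p.Prime] in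
theorem le_autInducedBy_apply {K : Subgroup Ω} (g : K) (hg : (g : Ω) ∈ Subgroup.normalizer (R : Set Ω)) :
    (R.normalizerMonoidHom ⟨g, hg⟩ : MulAut R) ∈ autInducedBy K R :=
  mem_autInducedBy_iff.2 ⟨g, g.2, hg, fun _ => rfl⟩

/-- An automorphism of `R C_S(R)` preserving `R` preserves `C_S(R)`. -/
theorem apply_mem_centralizerIn (hRS : R ≤ S) {β : MulAut ↥(R ⊔ centralizerIn S R)}
    (hR : ∀ w : ↥(R ⊔ centralizerIn S R), (w : Ω) ∈ R → (β w : Ω) ∈ R)
    (w : ↥(R ⊔ centralizerIn S R)) (hw : (w : Ω) ∈ centralizerIn S R) :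
    (β w : Ω) ∈ centralizerIn S R := by
  haveI := finite_of_le hRS
  have hWS : R ⊔ centralizerIn S R ≤ S := sup_le hRS (centralizerIn_le S R)
  refine mem_centralizerIn.2 ⟨hWS (β w).2, fun r hr => ?_⟩
  have hsurj : Function.Surjective (fun r : R =>
      (⟨β ⟨r, Subgroup.mem_sup_left r.2⟩, hR _ r.2⟩ : R)) :=
    Finite.injective_iff_surjective.1 fun a b e => Subtype.ext (congrArg Subtype.val
      (β.injective (Subtype.ext (congrArg (Subtype.val : R → Ω) e))) :)
  obtain ⟨q, hq⟩ := hsurj ⟨r, hr⟩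
  have hq' : (β ⟨q, Subgroup.mem_sup_left q.2⟩ : Ω) = r := congrArg Subtype.val hq
  rw [← hq', ← Subgroup.coe_mul, ← Subgroup.coe_mul, ← map_mul, ← map_mul]
  exact congrArg (fun z : ↥(R ⊔ centralizerIn S R) => (β z : Ω))
    (Subtype.ext ((mem_centralizerIn.1 hw).2 q q.2))

/-- An automorphism of a receptive subgroup extends to the product with its centralizer. -/
theorem exists_lift (hRr : F.IsReceptive R) {α : MulAut R} (hα : α ∈ F.autGroup R) :
    ∃ β ∈ F.autGroup (R ⊔ centralizerIn S R), (∀ r : R, (β ⟨r, Subgroup.mem_sup_left r.2⟩ : Ω) = α r) ∧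
      ∀ w : ↥(R ⊔ centralizerIn S R), (w : Ω) ∈ R → (β w : Ω) ∈ R := by
  have hRS : R ≤ S := hRr.1
  have hI := (mem_autGroup_iff hRS).1 hα
  have hle : R ⊔ centralizerIn S R ≤ extender S R (R.subtype.comp α.toMonoidHom) :=
    sup_le (le_extender hRS fun x => hRS (α x).2) (centralizerIn_le_extender _)
  obtain ⟨ω, hω, hωQ⟩ := exists_extension hRr hI hle
  have hv : ∀ q : R, ω ⟨q, Subgroup.mem_sup_left q.2⟩ = (α q : Ω) :=
    fun q => hωQ q (Subgroup.mem_sup_left q.2)
  obtain ⟨β, hβ, hβv⟩ := Fusion.exists_aut_restrict hω le_rfl fun x hx =>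
    forall_mem_sup ω le_sup_left le_sup_right
      (fun y hy => Subgroup.mem_sup_left ((hv ⟨y, hy⟩).symm ▸ (α _).2))
      (fun y hy => by
        refine Subgroup.mem_sup_right (mem_centralizerIn.2 ⟨apply_mem hω _, fun r hr => ?_⟩)
        obtain ⟨q, hq⟩ := α.surjective ⟨r, hr⟩
        have hq' : ω ⟨q, Subgroup.mem_sup_left q.2⟩ = r := by rw [hv, hq]
        rw [← hq', ← map_mul, ← map_mul]
        exact congrArg ω (Subtype.ext ((mem_centralizerIn.1 hy).2 q q.2))) hx hx
  exact ⟨β, hβ, fun r => (hβv _).trans (hv r), fun w hw => by rw [hβv]; exact (hv ⟨w, hw⟩).symm ▸ (α _).2⟩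

/-- The automorphisms in `E` of a subgroup fully normalized in `F` extend fixing `X`. -/
theorem autGroup_le_fixSystem (hS : IsPGroup p S) (hF : F.IsSaturated p) (hE : E.IsNormalIn F p)
    {X : Subgroup Ω} (hTS : T ≤ S) (hX : X ≤ centralizerIn S T)
    (hXfoc : ∀ (U : Subgroup Ω), U ≤ T → ∀ D : FusionSystem (centralizerIn S U),
      F.IsCentralizerSystem U D → X ≤ D.focalSubgroup)
    (hRE : E.IsFullyNormalized R) (hRn : F.IsFullyNormalized R) (hcen : centralizerIn T R ≤ R)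
    (IH : ∀ R' : Subgroup Ω, Nat.card R < Nat.card R' →
      E.Hom R' ⊆ (fixSystem F E X hTS hX).Hom R') :
    E.autGroup R ≤ (fixSystem F E X hTS hX).autGroup R := by
  classical
  obtain ⟨⟨hEs, -, hinv⟩, hext⟩ := hE
  have hsc := hinv.2.1
  have hRT : R ≤ T := hRE.1
  have hRS : R ≤ S := hRT.trans hTS
  haveI := finite_of_le hTS
  haveI := finite_of_le hRS
  have hTp : IsPGroup p T := hS.to_le hTS
  obtain ⟨hFa, hFr⟩ := automized_receptive hS hF hRn
  set Y := E.autGroup R with hY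
  obtain ⟨⟨-, P, hP⟩, hEr⟩ := automized_receptive hTp hEs hRE
  have hRc : F.IsFullyCentralized R := isFullyCentralized_of_receptive hFr
  set K := fixSystem F E X hTS hX with hK
  have hWS : R ⊔ centralizerIn S R ≤ S := sup_le hRS (centralizerIn_le S R)
  haveI := finite_of_le hWS
  have hXR : X ≤ centralizerIn S R := hX.trans (centralizerIn_anti hRT)
  obtain ⟨D, hD⟩ := exists_isCentralizerSystem F hRS
  -- automorphisms of `R` with a lift trivial modulo `R` on the centralizer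
  let Good : MulAut ↥(R ⊔ centralizerIn S R) → Prop := fun γ =>
    γ ∈ F.autGroup (R ⊔ centralizerIn S R) ∧
    (∀ w : ↥(R ⊔ centralizerIn S R), (w : Ω) ∈ R → (γ w : Ω) ∈ R) ∧
    ∀ w : ↥(R ⊔ centralizerIn S R), (w : Ω) ∈ centralizerIn S R → (w : Ω)⁻¹ * (γ w : Ω) ∈ R
  have hGmul : ∀ a b, Good a → Good b → Good (a * b) := by
    rintro a b ⟨ha, haR, haC⟩ ⟨hb, hbR, hbC⟩
    refine ⟨mul_mem ha hb, fun w hw => haR _ (hbR w hw), fun w hw => ?_⟩
    have h1 := hbC w hw
    have h2 := haC (b w) (apply_mem_centralizerIn hRS hbR w hw)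
    have h3 := R.mul_mem h1 h2
    rw [MulAut.mul_apply]
    simpa [mul_assoc] using h3
  have hG1 : Good 1 := ⟨one_mem _, fun w hw => hw, fun w _ => by simp⟩
  have hGpow : ∀ a, Good a → ∀ n : ℕ, Good (a ^ n) := fun a ha n => by
    induction n with
    | zero => rw [pow_zero]; exact hG1
    | succ n ih => rw [pow_succ]; exact hGmul _ _ ih ha
  let Lift : MulAut R → MulAut ↥(R ⊔ centralizerIn S R) → Prop := fun a γ =>
    ∀ r : R, (γ ⟨r, Subgroup.mem_sup_left r.2⟩ : Ω) = a r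
  have hLmul : ∀ a b γ δ, Lift a γ → Lift b δ → Lift (a * b) (γ * δ) := fun a b γ δ h1 h2 r => by
    rw [MulAut.mul_apply, show δ ⟨r, Subgroup.mem_sup_left r.2⟩ =
      ⟨(b r : Ω), Subgroup.mem_sup_left (b r).2⟩ from Subtype.ext (h2 r)]
    exact h1 (b r)
  have hLpow : ∀ a γ, Lift a γ → ∀ n : ℕ, Lift (a ^ n) (γ ^ n) := fun a γ h n => by
    induction n with
    | zero => exact fun r => rfl
    | succ n ih => rw [pow_succ, pow_succ]; exact hLmul _ _ _ _ ih h
  let Bim : Subgroup (MulAut R) :=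
    { carrier := {a | ∃ γ, Good γ ∧ Lift a γ}
      one_mem' := ⟨1, hG1, fun r => rfl⟩
      mul_mem' := fun {a b} ⟨γ, h1, h2⟩ ⟨δ, h3, h4⟩ => ⟨γ * δ, hGmul _ _ h1 h3, hLmul _ _ _ _ h2 h4⟩
      inv_mem' := fun {a} ⟨γ, h1, h2⟩ => by
        have e : a⁻¹ = a ^ (orderOf a - 1) := inv_eq_of_mul_eq_one_right (by
          rw [← pow_succ', Nat.sub_add_cancel (orderOf_pos a), pow_orderOf_eq_one])
        rw [e]
        exact ⟨γ ^ _, hGpow _ h1 _, hLpow _ _ h2 _⟩ }
  have hYF : Y ≤ F.autGroup R := fun a ha =>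
    (mem_autGroup_iff hRS).2 (hinv.1 R ((mem_autGroup_iff hRT).1 ha))
  let Y₀ : Subgroup Y := Bim.subgroupOf Y
  haveI hY₀n : Y₀.Normal := ⟨fun a ha d => by
    obtain ⟨γ, ⟨hγF, hγR, hγC⟩, hγL⟩ := Subgroup.mem_subgroupOf.1 ha
    obtain ⟨δ, hδ, hδv, hδR⟩ := exists_lift hFr (hYF d.2)
    obtain ⟨δ', hδ', hδ'v, hδ'R⟩ := exists_lift hFr (hYF (inv_mem d.2))
    refine Subgroup.mem_subgroupOf.2 ⟨δ * γ * δ⁻¹,
      ⟨mul_mem (mul_mem hδ hγF) (inv_mem hδ), ?_, ?_⟩, ?_⟩
    · intro w hw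
      rw [MulAut.mul_apply, MulAut.mul_apply]
      have h1 : ((δ⁻¹ w : ↥(R ⊔ centralizerIn S R)) : Ω) ∈ R := by
        obtain ⟨q, hq⟩ := (d : MulAut R).surjective ⟨w, hw⟩
        have e : δ⁻¹ w = ⟨q, Subgroup.mem_sup_left q.2⟩ := by
          apply δ.injective
          rw [MulAut.apply_inv_self]
          exact Subtype.ext ((congrArg Subtype.val hq).symm.trans (hδv q).symm)
        rw [e]; exact q.2
      exact hδR _ (hγR _ h1)
    · intro w hw
      set v : ↥(R ⊔ centralizerIn S R) := δ⁻¹ w with hv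
      have hvC : (v : Ω) ∈ centralizerIn S R := by
        have hδi : ∀ z : ↥(R ⊔ centralizerIn S R), (z : Ω) ∈ R → ((δ⁻¹ z : ↥(R ⊔ centralizerIn S R)) : Ω) ∈ R :=
          fun z hz => by
            obtain ⟨q, hq⟩ := (d : MulAut R).surjective ⟨z, hz⟩
            have e : δ⁻¹ z = ⟨q, Subgroup.mem_sup_left q.2⟩ := by
              apply δ.injective
              rw [MulAut.apply_inv_self]
              exact Subtype.ext ((congrArg Subtype.val hq).symm.trans (hδv q).symm)
            rw [e]; exact q.2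
        exact apply_mem_centralizerIn hRS hδi w hw
      have h1 : ((v⁻¹ * γ v : ↥(R ⊔ centralizerIn S R)) : Ω) ∈ R := hγC v hvC
      have h2 := hδR _ h1
      rw [map_mul, map_inv, hv, MulAut.apply_inv_self] at h2
      rw [MulAut.mul_apply, MulAut.mul_apply]
      exact h2
    · have hi : Lift (d : MulAut R)⁻¹ δ⁻¹ := fun r => by
        have e : δ⁻¹ ⟨r, Subgroup.mem_sup_left r.2⟩ =
            ⟨((d : MulAut R)⁻¹ r : Ω), Subgroup.mem_sup_left ((d : MulAut R)⁻¹ r).2⟩ := by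
          apply δ.injective
          rw [MulAut.apply_inv_self]
          exact Subtype.ext (by rw [hδv, MulAut.apply_inv_self])
        rw [e]
      exact hLmul _ _ _ _ (hLmul _ _ _ _ hδv hγL) hi⟩
  -- the Sylow subgroup has lifts and lies in the fixing system
  have hPB : (P : Subgroup Y) ≤ Y₀ := fun a ha => by
    rw [hP] at ha
    obtain ⟨t, ht, htN, hv⟩ := mem_autInducedBy_iff.1 (Subgroup.mem_subgroupOf.1 ha)
    have htS : t ∈ S := hTS ht
    have hC : ∀ c ∈ centralizerIn S R, t * c * t⁻¹ ∈ centralizerIn S R := by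
      intro c hc
      refine mem_centralizerIn.2 ⟨S.mul_mem (S.mul_mem htS hc.1) (S.inv_mem htS), fun r hr => ?_⟩
      have h1 := (mem_centralizerIn.1 hc).2 _ ((Subgroup.mem_normalizer_iff''.1 htN r).1 hr)
      calc r * (t * c * t⁻¹) = t * ((t⁻¹ * r * t) * c) * t⁻¹ := by group
        _ = t * (c * (t⁻¹ * r * t)) * t⁻¹ := by rw [h1]
        _ = t * c * t⁻¹ * r := by group
    have hWmem : ∀ w ∈ R ⊔ centralizerIn S R, t * w * t⁻¹ ∈ R ⊔ centralizerIn S R := fun w hw =>
      forall_mem_sup (conjHom (R ⊔ centralizerIn S R) t) le_sup_left le_sup_right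
        (fun y hy => Subgroup.mem_sup_left ((Subgroup.mem_normalizer_iff.1 htN y).1 hy))
        (fun y hy => Subgroup.mem_sup_right (hC y hy)) hw hw
    obtain ⟨γ, hγ, hγv⟩ := Fusion.exists_aut_restrict (F.conj_mem hWS htS) le_rfl fun w hw => hWmem w hw
    refine Subgroup.mem_subgroupOf.2 ⟨γ, ⟨hγ, fun w hw => ?_, fun w hw => ?_⟩, fun r => ?_⟩
    · rw [hγv]; exact (Subgroup.mem_normalizer_iff.1 htN w).1 hw
    · rw [hγv]
      refine hcen (mem_centralizerIn.2 ⟨?_, fun r hr => ?_⟩)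
      · show (w : Ω)⁻¹ * (t * (w : Ω) * t⁻¹) ∈ T
        rw [← mul_assoc, ← mul_assoc]
        refine T.mul_mem ?_ (T.inv_mem ht)
        exact (Subgroup.mem_normalizer_iff''.1 (stronglyClosed_le_normalizer hsc hw.1) t).1 ht
      · exact (mem_centralizerIn.1 ((centralizerIn S R).mul_mem ((centralizerIn S R).inv_mem hw)
          (hC w hw))).2 r hr
    · rw [hγv, hv]; rfl
  have hPK : (P : Subgroup Y) ≤ (K.autGroup R).subgroupOf Y := fun a ha => by
    rw [hP] at ha
    exact Subgroup.mem_subgroupOf.2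
      (autInducedBy_le_autGroup hRT (Subgroup.mem_subgroupOf.1 ha))
  -- elements with lifts are in the fixing system
  have hgood : Y₀ ≤ (K.autGroup R).subgroupOf Y := by
    suffices h : ((K.autGroup R).subgroupOf Y).subgroupOf Y₀ = ⊤ from fun a ha => by
      have h1 : (⟨a, ha⟩ : Y₀) ∈ ((K.autGroup R).subgroupOf Y).subgroupOf Y₀ := by
        rw [h]; exact Subgroup.mem_top _
      exact Subgroup.mem_subgroupOf.1 h1
    refine eq_top_of_sylow_le (p := p) (P.subtype hPB) ?_ fun a ha => ?_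
    · rw [Sylow.coe_subtype]
      exact fun z hz => Subgroup.mem_subgroupOf.2 (hPK (Subgroup.mem_subgroupOf.1 hz))
    · obtain ⟨γ, hγ, hγL⟩ := Subgroup.mem_subgroupOf.1 a.2
      obtain ⟨j, hj, hj1⟩ := exists_pow_coprime (p := p) γ ha
      have haj : ((a : Y) : MulAut R) ^ j = ((a : Y) : MulAut R) := by
        have h1 : a ^ j = a ^ 1 := pow_eq_pow_iff_modEq.2 hj1
        rw [pow_one] at h1
        exact congrArg (fun z : Y₀ => ((z : Y) : MulAut R)) h1
      have hL := hLpow _ _ hγL j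
      rw [haj] at hL
      obtain ⟨hβ, hβR, hβC⟩ := hGpow _ hγ j
      have hfix : ∀ x : X, (γ ^ j) ⟨x, Subgroup.mem_sup_right (hXR x.2)⟩ =
          ⟨x, Subgroup.mem_sup_right (hXR x.2)⟩ := fun x =>
        aut_fixes_focal hS hF hRc hD hβ hj hβR
          (fun w hw => ⟨apply_mem_centralizerIn hRS hβR w hw, hβC w hw⟩) _ (hXfoc R hRT D hD x.2)
      refine Subgroup.mem_subgroupOf.2 (Subgroup.mem_subgroupOf.2 ((mem_autGroup_iff hRT).2
        ⟨(mem_autGroup_iff hRT).1 (a : Y).2,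
          restrictHom ((R ⊔ centralizerIn S R).subtype.comp (γ ^ j).toMonoidHom) (sup_le_sup_left hXR R),
          Fusion.restrict_mem ((mem_autGroup_iff hWS).1 hβ) _, fun r => hL r,
          fun x => congrArg Subtype.val (hfix x)⟩))
  intro a ha
  suffices h : (K.autGroup R).subgroupOf Y = ⊤ from
    Subgroup.mem_subgroupOf.1 (show (⟨a, ha⟩ : Y) ∈ (K.autGroup R).subgroupOf Y by
      rw [h]; exact Subgroup.mem_top _)
  by_cases hRT' : R = T
  · subst hRT'
    refine top_le_iff.1 (le_trans ?_ hgood)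
    intro b _
    obtain ⟨β, hβ, hβT, hβC⟩ := hext b b.2
    exact Subgroup.mem_subgroupOf.2 ⟨β, ⟨hβ, fun w hw => by
      rw [show β w = β (Subgroup.inclusion le_sup_left ⟨(w : Ω), hw⟩) from rfl, hβT]
      exact ((b : MulAut R) _).2, fun w hw => (hβC w hw).1⟩, fun r => hβT r⟩
  refine top_le_iff.1 ((Sylow.normalizer_sup_eq_top' P hPB).ge.trans (sup_le ?_ hgood))
  intro b hb
  have hlt : R < T := lt_of_le_of_ne hRT hRT'
  obtain ⟨g, hg, hgR⟩ := (SetLike.lt_iff_le_and_exists.1 (lt_normalizerIn hTp hlt)).2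
  have hgP : (⟨(R.normalizerMonoidHom ⟨g, hg.2⟩ : MulAut R),
      autInducedBy_le_autGroup hRT (le_autInducedBy_apply ⟨g, hg.1⟩ hg.2)⟩ : Y) ∈ (P : Subgroup Y) := by
    rw [hP]
    exact le_autInducedBy_apply (K := T) ⟨g, hg.1⟩ hg.2
  have hconj := (Subgroup.mem_normalizer_iff.1 hb _).1 hgP
  rw [hP] at hconj
  obtain ⟨Q, hRQ, φ, hφ, hφv⟩ := mem_extendable_of_congr hEr b.2 hg hgR
    (β := R.normalizerMonoidHom ⟨g, hg.2⟩) (fun x => rfl) (Subgroup.mem_subgroupOf.1 hconj)
  haveI : Finite Q := finite_of_le (le_left hφ)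
  exact Subgroup.mem_subgroupOf.2 (mem_autGroup_of_le_of_eq hRT
    (Fusion.restrict_mem (IH Q (Set.Finite.card_lt_card (Set.toFinite _) hRQ) hφ) hRQ.le)
    fun x => (hφv x).symm)

/-- **The focal subgroup of `C_F(T)` is centralized by every normal subsystem over `T`.** -/
theorem subset_centralizerHom_focal (hS : IsPGroup p S) (hF : F.IsSaturated p)
    (hE : E.IsNormalIn F p) {D : FusionSystem (centralizerIn S T)}
    (hD : F.IsCentralizerSystem T D) (P : Subgroup Ω) :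
    E.Hom P ⊆ F.centralizerHom D.focalSubgroup P := by
  classical
  obtain ⟨⟨hEs, -, hinv⟩, -⟩ := id hE
  have hsc := hinv.2.1
  have hTS : T ≤ S := hsc.1
  haveI := finite_of_le hTS
  have hTp : IsPGroup p T := hS.to_le hTS
  set X := D.focalSubgroup with hXdef
  have hX : X ≤ centralizerIn S T := (Subgroup.closure_le _).2 fun _ ⟨Q, φ, x, hφ, hy⟩ =>
    hy ▸ Subgroup.mul_mem _ (Subgroup.inv_mem _ (le_left hφ x.2)) (apply_mem hφ x)
  have hXfoc : ∀ (U : Subgroup Ω), U ≤ T → ∀ D' : FusionSystem (centralizerIn S U),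
      F.IsCentralizerSystem U D' → X ≤ D'.focalSubgroup := by
    intro U hU D' hD'
    refine (Subgroup.closure_le _).2 ?_
    rintro _ ⟨Q, φ, x, hφ, rfl⟩
    refine Subgroup.subset_closure ⟨Q, φ, x, ?_, rfl⟩
    rw [hD Q] at hφ
    obtain ⟨hφF, hQ, hφQ, ψ, hψ, h1, h2⟩ := hφ
    rw [hD' Q]
    have hle : centralizerIn S T ≤ centralizerIn S U := centralizerIn_anti hU
    exact ⟨hφF, hQ.trans hle, fun z => hle (hφQ z), restrictHom ψ (sup_le_sup_left hU Q),
      Fusion.restrict_mem hψ _, fun z => h1 z, fun q => h2 ⟨q, hU q.2⟩⟩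
  set K := fixSystem F E X hTS hX with hK
  have hTn : F.IsFullyNormalized T := ⟨hTS, fun Q' _ => by
    haveI := finite_of_le (normalizerIn_le S T)
    exact Subgroup.card_le_of_le fun x hx => ⟨hx.1, stronglyClosed_le_normalizer hsc hx.1⟩⟩
  have hEK : E ≤ K := by
    refine le_of_essential_step hTp hEs fun R hR hR' IH => ?_
    by_cases hRT' : R = T
    · subst hRT'
      exact autGroup_le_fixSystem hS hF hE hTS hX hXfoc hR hTn
        (centralizerIn_le_of_centric (isCentric_self (F := E))) IH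
    have hess : E.IsEssential p R := hR'.resolve_left hRT'
    have hRS : R ≤ S := hR.1.trans hTS
    obtain ⟨Rn, hconj, hRn⟩ := exists_fullyNormalized (F := F) hRS
    obtain ⟨hRna, hRnr⟩ := automized_receptive hS hF hRn
    obtain ⟨η, hη, -, hηR⟩ := exists_map_normalizerIn hS hRna hRnr hconj
    have hNle : normalizerIn T R ≤ normalizerIn S R := fun x hx => ⟨hTS hx.1, hx.2⟩
    have hRnE : E.IsFullyNormalized Rn := hηR ▸ fullyNormalized_image hsc hinv hR hη hNle
    -- split off an automorphism of `T`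
    obtain ⟨φ, hφ, hφr⟩ := hconj
    obtain ⟨α, hα, φ₀, hφ₀, hφ₀v⟩ := hinv.2.2.2 R hR.1 φ hφ
    set R₀ := φ₀.range with hR₀
    have hR₀T : R₀ ≤ T := range_le hφ₀
    have hconj₀ : E.IsConj R R₀ := ⟨φ₀, hφ₀, rfl⟩
    have hαR : ∀ y : T, (y : Ω) ∈ R₀ ↔ ((α y : T) : Ω) ∈ Rn := by
      intro y
      constructor
      · rintro ⟨x, hx⟩
        rw [← hφr]
        exact ⟨x, (hφ₀v x (apply_mem hφ₀ x)).trans
          (congrArg (fun z : T => ((α z : T) : Ω)) (Subtype.ext hx))⟩
      · intro hy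
        rw [← hφr] at hy
        obtain ⟨x, hx⟩ := hy
        have h1 := (hφ₀v x (apply_mem hφ₀ x)).symm.trans hx
        exact ⟨x, (congrArg Subtype.val (α.injective (Subtype.ext h1)) :)⟩
    have hR₀c : centralizerIn T R₀ ≤ R₀ :=
      centralizerIn_le_of_centric (isCentric_of_isConj hess.1 hconj₀)
    have hcen : centralizerIn T Rn ≤ Rn := by
      intro z hz
      obtain ⟨y, hy⟩ := α.surjective ⟨z, hz.1⟩
      have h1 : (y : Ω) ∈ centralizerIn T R₀ := mem_centralizerIn.2 ⟨y.2, fun r hr => by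
        have h2 := (mem_centralizerIn.1 hz).2 _ ((hαR ⟨r, hR₀T hr⟩).1 hr)
        rw [show z = ((α y : T) : Ω) from (congrArg Subtype.val hy).symm, ← Subgroup.coe_mul,
          ← Subgroup.coe_mul, ← map_mul, ← map_mul] at h2
        exact congrArg Subtype.val (α.injective (Subtype.ext h2))⟩
      have h3 := (hαR y).1 (hR₀c h1)
      rwa [hy] at h3
    have hgood : E.autGroup Rn ≤ K.autGroup Rn :=
      autGroup_le_fixSystem hS hF hE hTS hX hXfoc hRnE hRn hcen fun R' h => IH R' (by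
        rwa [card_eq_of_isConj (⟨φ, hφ, hφr⟩ : F.IsConj R Rn)])
    -- back to `R₀` along a lift of `α`
    obtain ⟨β, hβ, hβT, hβT'⟩ := exists_lift (automized_receptive hS hF hTn).2 hα
    have hTW : T ⊔ centralizerIn S T ≤ S := sup_le hTS (centralizerIn_le S T)
    haveI := finite_of_le hTW
    have hβI := (mem_autGroup_iff hTW).1 hβ
    have hβX : ∀ x (hx : x ∈ X), (β ⟨x, Subgroup.mem_sup_right (hX hx)⟩ : Ω) ∈ X := by
      intro x hx
      have hle : X ≤ (X.comap ((T ⊔ centralizerIn S T).subtype.comp β.toMonoidHom)).map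
          (T ⊔ centralizerIn S T).subtype := by
        refine (Subgroup.closure_le _).2 ?_
        rintro _ ⟨Q, ψ, z, hψ, rfl⟩
        have hzC : ∀ w : Q, (w : Ω) ∈ centralizerIn S T := fun w => le_left hψ w.2
        refine ⟨⟨_, Subgroup.mem_sup_right (Subgroup.mul_mem _ (Subgroup.inv_mem _ (hzC z))
          (apply_mem hψ z))⟩, ?_, rfl⟩
        rw [hD Q] at hψ
        obtain ⟨hψF, hQ, hψQ, ω, hω, h1, h2⟩ := hψ
        have hQW : Q ⊔ T ≤ T ⊔ centralizerIn S T :=
          sup_le (hQ.trans le_sup_right) le_sup_left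
        obtain ⟨e, he, hev⟩ := exists_iso_restrict
          (φ := (T ⊔ centralizerIn S T).subtype.comp β.toMonoidHom) hβI hQW
        have hωW : ∀ w, ω w ∈ T ⊔ centralizerIn S T := fun w =>
          forall_mem_sup ω le_sup_left le_sup_right
            (fun y hy => Subgroup.mem_sup_right ((h1 ⟨y, hy⟩).symm ▸ hψQ ⟨y, hy⟩))
            (fun y hy => Subgroup.mem_sup_left ((h2 ⟨y, hy⟩).symm ▸ hy)) w.2 w.2
        set Q' := imgHom ((T ⊔ centralizerIn S T).subtype.comp β.toMonoidHom) Q with hQ'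
        have hle' : Q' ⊔ T ≤ imgHom ((T ⊔ centralizerIn S T).subtype.comp β.toMonoidHom) (Q ⊔ T) := by
          refine sup_le (imgHom_mono _ le_sup_left) fun t ht => ?_
          obtain ⟨q, hq⟩ := α.surjective ⟨t, ht⟩
          exact ⟨⟨q, Subgroup.mem_sup_left q.2⟩, Subgroup.mem_sup_right q.2,
            (hβT q).trans (congrArg Subtype.val hq)⟩
        set θ := ((T ⊔ centralizerIn S T).subtype.comp β.toMonoidHom).comp
          ((ω.comp e.symm.toMonoidHom).codRestrict _ fun w => hωW _) with hθ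
        have hθm : θ ∈ F.Hom _ := F.comp_mem (IsIso.comp_hom he.symm hω) hβI _
        have hθT : ∀ (t : Ω) (ht : t ∈ T) h, θ ⟨t, h⟩ = t := by
          intro t ht h
          obtain ⟨q, hq⟩ := α.surjective ⟨t, ht⟩
          have e1 : (e ⟨q, Subgroup.mem_sup_right q.2⟩ : Ω) = t := by
            rw [hev]; exact (hβT q).trans (congrArg Subtype.val hq)
          show (β ⟨ω (e.symm ⟨t, h⟩), hωW _⟩ : Ω) = t
          have e3 : ω (e.symm ⟨t, h⟩) = q := by
            rw [show e.symm ⟨t, h⟩ = ⟨q, Subgroup.mem_sup_right q.2⟩ from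
              (MulEquiv.symm_apply_eq e).2 (Subtype.ext e1.symm)]
            exact h2 q
          refine Eq.trans ?_ ((hβT q).trans (congrArg Subtype.val hq))
          exact congrArg (fun w => (β w : Ω)) (Subtype.ext e3)
        have hQ'C : ∀ y ∈ Q', y ∈ centralizerIn S T := by
          rintro _ ⟨w, hw, rfl⟩
          exact apply_mem_centralizerIn hTS hβT' w (hQ hw)
        have hθQ : ∀ (y : Ω) (hy : y ∈ Q') h, θ ⟨y, h⟩ ∈ centralizerIn S T := by
          intro y hy h
          obtain ⟨w, hw, hwy⟩ := hy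
          show (β ⟨ω (e.symm ⟨y, h⟩), hωW _⟩ : Ω) ∈ _
          refine apply_mem_centralizerIn hTS hβT' _ ?_
          rw [show e.symm ⟨y, h⟩ = Subgroup.inclusion le_sup_left ⟨(w : Ω), hw⟩ from
            (MulEquiv.symm_apply_eq e).2 (Subtype.ext (by rw [hev]; exact hwy.symm))]
          show ω _ ∈ centralizerIn S T
          rw [h1]
          exact hψQ _
        have hχ : restrictHom θ ((le_sup_left : Q' ≤ Q' ⊔ T).trans hle') ∈ D.Hom Q' := by
          rw [hD Q']
          exact ⟨Fusion.restrict_mem hθm _, hQ'C, fun y => hθQ y y.2 _, restrictHom θ hle',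
            Fusion.restrict_mem hθm _, fun y => rfl, fun t => hθT t t.2 _⟩
        have hzQ' : (β ⟨z, Subgroup.mem_sup_right (hzC z)⟩ : Ω) ∈ Q' := ⟨_, z.2, rfl⟩
        have hgen : (β ⟨z, Subgroup.mem_sup_right (hzC z)⟩ : Ω)⁻¹ *
            restrictHom θ ((le_sup_left : Q' ≤ Q' ⊔ T).trans hle') ⟨_, hzQ'⟩ ∈ X :=
          Subgroup.subset_closure ⟨Q', _, ⟨_, hzQ'⟩, hχ, rfl⟩
        refine Subgroup.mem_comap.2 ?_
        convert hgen using 1
        rw [restrictHom_apply]
        show (β _ : Ω) = _ * (β ⟨ω (e.symm _), hωW _⟩ : Ω)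
        rw [← Subgroup.coe_inv (T ⊔ centralizerIn S T), ← map_inv, ← Subgroup.coe_mul (T ⊔ centralizerIn S T), ← map_mul]
        refine congrArg (fun w => (β w : Ω)) (Subtype.ext ?_)
        show (z : Ω)⁻¹ * _ = (z : Ω)⁻¹ * ω (e.symm _)
        rw [show e.symm _ = Subgroup.inclusion le_sup_left z from
          (MulEquiv.symm_apply_eq e).2 (Subtype.ext (hev (Subgroup.inclusion le_sup_left z)).symm), h1]
      obtain ⟨w, hw, hwx⟩ := hle hx
      subst hwx
      exact hw
    have hR₀W : R₀ ⊔ X ≤ T ⊔ centralizerIn S T := sup_le_sup hR₀T hX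
    obtain ⟨εe, hεe, hεev⟩ := exists_iso_restrict
      (φ := (T ⊔ centralizerIn S T).subtype.comp β.toMonoidHom) hβI hR₀W
    obtain ⟨eα, heα, heαv⟩ : ∃ eα : R₀ ≃* Rn, IsIso F eα ∧
        ∀ y : R₀, (eα y : Ω) = ((α ⟨y, hR₀T y.2⟩ : T) : Ω) := by
      obtain ⟨e, he, hev⟩ := exists_iso (Q := Rn)
        (Fusion.restrict_mem (φ := T.subtype.comp α.toMonoidHom) ((mem_autGroup_iff hTS).1 hα) hR₀T) (by
          ext z
          constructor
          · rintro ⟨y, rfl⟩
            exact (hαR ⟨y, hR₀T y.2⟩).1 y.2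
          · intro hz
            obtain ⟨y, hy⟩ := α.surjective ⟨z, hRnE.1 hz⟩
            exact ⟨⟨y, (hαR y).2 (by rw [hy]; exact hz)⟩, congrArg Subtype.val hy⟩)
      exact ⟨e, he, fun y => hev y⟩
    have hK₀ : E.autGroup R₀ ≤ K.autGroup R₀ := by
      intro b hb
      have hf := congr_mem_of_invariant (strongInvariant_of_invariant hinv) hR₀T hRnE.1 heα hb
      have hf' : Rn.subtype.comp (MulAut.congr eα b).toMonoidHom ∈ K.Hom Rn :=
        (mem_autGroup_iff hRnE.1).1 (hgood hf)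
      obtain ⟨-, ψ, hψ, hψ1, hψ2⟩ := hf'
      have himg : Rn ⊔ X ≤ imgHom ((T ⊔ centralizerIn S T).subtype.comp β.toMonoidHom) (R₀ ⊔ X) := by
        refine sup_le (fun z hz => ?_) fun x hx => ?_
        · obtain ⟨y, hy⟩ := α.surjective ⟨z, hRnE.1 hz⟩
          exact ⟨⟨y, Subgroup.mem_sup_left y.2⟩,
            Subgroup.mem_sup_left ((hαR y).2 (by rw [hy]; exact hz)),
            (hβT y).trans (congrArg Subtype.val hy)⟩
        · haveI := finite_of_le ((hX.trans le_sup_right).trans hTW)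
          have hsurj : Function.Surjective (fun x : X =>
              (⟨β ⟨x, Subgroup.mem_sup_right (hX x.2)⟩, hβX x x.2⟩ : X)) :=
            Finite.injective_iff_surjective.1 fun a b e => Subtype.ext (congrArg Subtype.val
              (β.injective (Subtype.ext (congrArg (Subtype.val : X → Ω) e))) :)
          obtain ⟨q, hq⟩ := hsurj ⟨x, hx⟩
          exact ⟨⟨q, Subgroup.mem_sup_right (hX q.2)⟩, Subgroup.mem_sup_right q.2,
            congrArg Subtype.val hq⟩
      have himg' : imgHom ((T ⊔ centralizerIn S T).subtype.comp β.toMonoidHom) (R₀ ⊔ X) ≤ Rn ⊔ X := by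
        rintro _ ⟨w, hw, rfl⟩
        exact forall_mem_sup ((T ⊔ centralizerIn S T).subtype.comp β.toMonoidHom)
          (hR₀T.trans le_sup_left) (hX.trans le_sup_right)
          (fun y hy => Subgroup.mem_sup_left (by
            show (β _ : Ω) ∈ Rn
            rw [hβT ⟨y, hR₀T hy⟩]
            exact (hαR _).1 hy))
          (fun y hy => Subgroup.mem_sup_right (hβX y hy)) w.2 hw
      have hψW : ∀ w, ψ w ∈ imgHom ((T ⊔ centralizerIn S T).subtype.comp β.toMonoidHom) (R₀ ⊔ X) :=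
        fun w => himg (forall_mem_sup ψ le_sup_left le_sup_right
          (fun y hy => Subgroup.mem_sup_left ((hψ1 ⟨y, hy⟩).symm ▸ (MulAut.congr eα b _).2))
          (fun y hy => Subgroup.mem_sup_right ((hψ2 ⟨y, hy⟩).symm ▸ hy)) w.2 w.2)
      have hεin : ∀ w, (εe w : Ω) ∈ Rn ⊔ X := fun w => himg' (εe w).2
      set χ : ↥(R₀ ⊔ X) →* Ω := ((R₀ ⊔ X).subtype.comp εe.symm.toMonoidHom).comp
        ((ψ.comp ((Subgroup.subtype _).comp εe.toMonoidHom |>.codRestrict _ hεin)).codRestrict _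
          fun w => hψW _) with hχdef
      have hχ : χ ∈ F.Hom (R₀ ⊔ X) :=
        F.comp_mem (F.comp_mem hεe hψ hεin) hεe.symm _
      refine (mem_autGroup_iff hR₀T).2 ⟨(mem_autGroup_iff hR₀T).1 hb, χ, hχ, fun y => ?_,
        fun x => ?_⟩
      · show ((εe.symm ⟨ψ ⟨(εe ⟨y, _⟩ : Ω), _⟩, _⟩ : ↥(R₀ ⊔ X)) : Ω) = (b y : Ω)
        have h3 : ψ ⟨(εe ⟨y, Subgroup.mem_sup_left y.2⟩ : Ω), hεin _⟩ =
            (εe ⟨(b y : Ω), Subgroup.mem_sup_left (b y).2⟩ : Ω) := by
          have e1 : ∀ v : R₀, (εe ⟨v, Subgroup.mem_sup_left v.2⟩ : Ω) = (eα v : Ω) := fun v =>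
            (hεev _).trans ((hβT ⟨v, hR₀T v.2⟩).trans (heαv v).symm)
          rw [e1 (b y)]
          refine Eq.trans (congrArg ψ (Subtype.ext (e1 y))) ((hψ1 (eα y)).trans ?_)
          show ((MulAut.congr eα b (eα y) : Rn) : Ω) = _
          rw [congr_apply]
        exact congrArg Subtype.val ((MulEquiv.symm_apply_eq εe).2 (Subtype.ext h3) :
          _ = (⟨(b y : Ω), Subgroup.mem_sup_left (b y).2⟩ : ↥(R₀ ⊔ X)))
      · show ((εe.symm ⟨ψ ⟨(εe ⟨x, _⟩ : Ω), _⟩, _⟩ : ↥(R₀ ⊔ X)) : Ω) = (x : Ω)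
        have hxX : (εe ⟨x, Subgroup.mem_sup_right x.2⟩ : Ω) ∈ X := by
          rw [hεev]; exact hβX x x.2
        have h3 : ψ ⟨(εe ⟨x, Subgroup.mem_sup_right x.2⟩ : Ω), hεin _⟩ =
            (εe ⟨x, Subgroup.mem_sup_right x.2⟩ : Ω) := hψ2 ⟨_, hxX⟩
        exact congrArg Subtype.val ((MulEquiv.symm_apply_eq εe).2 (Subtype.ext h3) :
          _ = (⟨(x : Ω), Subgroup.mem_sup_right x.2⟩ : ↥(R₀ ⊔ X)))
    -- from `R₀` to `R`
    haveI := finite_of_le (normalizerIn_le S R)
    have hR₀E : E.IsFullyNormalized R₀ := ⟨hR₀T, fun Q hQ => by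
      refine (hR.2 Q (isConj_trans hconj₀ hQ)).trans (le_trans
        ((hRnE.2 Rn (isConj_refl hRnE.1)).trans' ?_) ?_)
      · haveI := finite_of_le (normalizerIn_le T Rn)
        refine Nat.card_le_card_of_injective (fun z : normalizerIn T R =>
          (⟨η ⟨z, hNle z.2⟩, stronglyClosed_apply hsc hη z.2.1, by
            have := map_mem_normalizer (le_normalizerIn hRS) (ψ := η) (g := ⟨z, hNle z.2⟩) z.2.2
            rwa [hηR] at this⟩ : normalizerIn T Rn))
          fun a b e => Subtype.ext (congrArg Subtype.val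
            (F.injective_of_mem hη (congrArg Subtype.val e : η _ = η _)) :)
      · haveI := finite_of_le (normalizerIn_le T R₀)
        haveI := finite_of_le hR₀T
        refine Nat.card_le_card_of_injective (fun z : normalizerIn T Rn =>
          (⟨(α⁻¹ ⟨z, z.2.1⟩ : T), (α⁻¹ ⟨z, z.2.1⟩ : T).2, Subgroup.mem_normalizer_fintype fun r hr => by
            have h1 := (Subgroup.mem_normalizer_iff.1 z.2.2 _).1 ((hαR ⟨r, hR₀T hr⟩).1 hr)
            refine (hαR ((α⁻¹ ⟨z, z.2.1⟩ : T) * ⟨r, hR₀T hr⟩ * (α⁻¹ ⟨z, z.2.1⟩ : T)⁻¹)).2 ?_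
            rw [map_mul, map_mul, map_inv, MulAut.apply_inv_self]
            exact h1⟩ : normalizerIn T R₀))
          fun a b e => Subtype.ext (congrArg Subtype.val (α⁻¹.injective (Subtype.ext
            (congrArg (Subtype.val : normalizerIn T R₀ → Ω) e))) :)⟩
    obtain ⟨hR₀a, hR₀r⟩ := automized_receptive hTp hEs hR₀E
    obtain ⟨ψ, hψ, -, hψR⟩ := exists_map_normalizerIn hTp hR₀a hR₀r hconj₀
    haveI := finite_of_le (normalizerIn_le T R)
    have hltN : Nat.card R < Nat.card (normalizerIn T R) := Set.Finite.card_lt_card (Set.toFinite _)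
      (lt_normalizerIn hTp (lt_of_le_of_ne hR.1 hRT'))
    obtain ⟨e, he, hev⟩ := exists_iso (Fusion.restrict_mem (IH _ hltN hψ) (le_normalizerIn hR.1))
      ((range_restrictHom ψ _).trans hψR)
    have heE : IsIso E e := Fusion.mem_congr (Fusion.restrict_mem hψ (le_normalizerIn hR.1)) hev
    intro a ha
    exact (congr_mem_autGroup_iff he).1 (hK₀ (congr_mem_autGroup heE ha))
  intro φ hφ
  obtain ⟨hφE, ψ, hψ, h1, h2⟩ := hEK P hφ
  refine ⟨hinv.1 P hφE, fun z hz => ?_, fun z => ?_, ψ, hψ, h1, h2⟩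
  · exact mem_centralizerIn.2 ⟨hTS (le_left hφE hz), fun x hx =>
      ((mem_centralizerIn.1 (hX hx)).2 z (le_left hφE hz)).symm⟩
  · exact mem_centralizerIn.2 ⟨hTS (apply_mem hφE z), fun x hx =>
      ((mem_centralizerIn.1 (hX hx)).2 _ (apply_mem hφE z)).symm⟩

end CfsgLib.FusionNormal
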