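import Cfsg.Agent.FusionNormal.GoodLift

/-!
A good lift of order prime to `p` fixes every element of `C_S(R)` fixed by some extension; an
automorphism agreeing with one of `E` on a centric subgroup, both of order prime to `p`, is in `E`.
-/

set_option autoImplicit false

universe u

namespace CfsgLib.FusionNormal

open Cfsg Cfsg.FusionSystem CfsgLib.Fusion

variable {Ω : Type u} [Group Ω] {S T R K Q : Subgroup Ω} {F : FusionSystem S} {E : FusionSystem T}
  {p : ℕ} [Finite S] [Fact p.Prime]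

/-- A good lift of order prime to `p` fixes an element fixed by some other extension. -/
theorem goodLift_fix_of_fixed (hS : IsPGroup p S) (hF : F.IsSaturated p)
    (hRc : F.IsFullyCentralized R) {a : MulAut R} {g : MulAut ↥(R ⊔ centralizerIn S R)}
    (hg : IsGoodLift F R a g) (hgp : (orderOf g).Coprime p) {c : Ω} (hc : c ∈ centralizerIn S R)
    {θ : ↥(R ⊔ Subgroup.zpowers c) →* Ω} (hθ : θ ∈ F.Hom (R ⊔ Subgroup.zpowers c))
    (hθr : ∀ r : R, θ ⟨r, Subgroup.mem_sup_left r.2⟩ = (a r : Ω))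
    (hθc : θ ⟨c, Subgroup.mem_sup_right (Subgroup.mem_zpowers c)⟩ = c) :
    (g ⟨c, Subgroup.mem_sup_right hc⟩ : Ω) = c := by
  classical
  have hRS : R ≤ S := hRc.1
  have hWS : R ⊔ centralizerIn S R ≤ S := sup_le hRS (centralizerIn_le S R)
  haveI := finite_of_le hWS
  have hXW : (R ⊔ Subgroup.zpowers c) ≤ R ⊔ centralizerIn S R := sup_le_sup_left (Subgroup.zpowers_le.2 hc) _
  have hXS : (R ⊔ Subgroup.zpowers c) ≤ S := hXW.trans hWS
  haveI := finite_of_le hXS
  obtain ⟨D, hD⟩ := exists_isCentralizerSystem F hRS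
  set cX : ↥(R ⊔ Subgroup.zpowers c) := ⟨c, Subgroup.mem_sup_right (Subgroup.mem_zpowers c)⟩ with hcX
  set cW : ↥(R ⊔ centralizerIn S R) := ⟨c, Subgroup.mem_sup_right hc⟩ with hcW
  obtain ⟨G, hG, hGv⟩ := exists_aut_restrict ((mem_autGroup_iff hWS).1 hg.1) hXW fun x hx =>
    forall_mem_sup ((R ⊔ centralizerIn S R).subtype.comp g.toMonoidHom)
      le_sup_left ((Subgroup.zpowers_le.2 hc).trans le_sup_right)
      (fun y hy => Subgroup.mem_sup_left (hg.mem_left _ hy))
      (fun y hy => by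
        have h1 := hg.2.2 ⟨y, Subgroup.mem_sup_right (Subgroup.zpowers_le.2 hc hy)⟩
          (Subgroup.zpowers_le.2 hc hy)
        have h2 : y * (y⁻¹ * (g ⟨y, Subgroup.mem_sup_right (Subgroup.zpowers_le.2 hc hy)⟩ : Ω)) ∈ (R ⊔ Subgroup.zpowers c) :=
          (R ⊔ Subgroup.zpowers c).mul_mem (Subgroup.mem_sup_right hy) (Subgroup.mem_sup_left h1)
        rwa [mul_inv_cancel_left] at h2) (hXW hx) hx
  obtain ⟨Θ, hΘ, hΘv⟩ := exists_aut_restrict hθ le_rfl fun x hx =>
    forall_mem_sup θ le_sup_left le_sup_right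
      (fun y hy => Subgroup.mem_sup_left (by rw [hθr ⟨y, hy⟩]; exact Subtype.mem _))
      (fun y hy => by
        obtain ⟨i, rfl⟩ := Subgroup.mem_zpowers_iff.1 hy
        rw [show (⟨c ^ i, Subgroup.mem_sup_right hy⟩ : ↥(R ⊔ Subgroup.zpowers c)) = cX ^ i from
          Subtype.ext (by rw [Subgroup.coe_zpow]), map_zpow, hθc]
        exact Subgroup.mem_sup_right (zpow_mem (Subgroup.mem_zpowers c) i)) hx hx
  set δ := G * Θ⁻¹ with hδ
  have hδI := (mem_autGroup_iff hXS).1 (mul_mem hG (inv_mem hΘ) : δ ∈ F.autGroup (R ⊔ Subgroup.zpowers c))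
  have hΘc : Θ⁻¹ cX = cX := by
    apply Θ.injective
    rw [MulAut.apply_inv_self]
    exact (Subtype.ext ((hΘv cX).trans hθc)).symm
  have hδc : (δ cX : Ω) = g cW := by
    rw [hδ, MulAut.mul_apply, hΘc, hGv]
    rfl
  have hδR : ∀ r : R, (δ ⟨r, Subgroup.mem_sup_left r.2⟩ : Ω) = r := by
    intro r
    obtain ⟨r', rfl⟩ := a.surjective r
    have e1 : Θ⁻¹ ⟨(a r' : Ω), Subgroup.mem_sup_left (a r').2⟩ = ⟨r', Subgroup.mem_sup_left r'.2⟩ := by
      apply Θ.injective
      rw [MulAut.apply_inv_self]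
      exact (Subtype.ext ((hΘv _).trans (hθr r'))).symm
    rw [hδ, MulAut.mul_apply, e1, hGv]
    exact hg.2.1 r'
  have hgC : (g cW : Ω) ∈ centralizerIn S R := apply_mem_centralizerIn hRS hg.mem_left cW hc
  set u : ↥(R ⊔ centralizerIn S R) := cW⁻¹ * g cW with hu
  have hfoc : (u : Ω) ∈ D.focalSubgroup := by
    refine Subgroup.subset_closure ⟨Subgroup.zpowers c,
      restrictHom ((R ⊔ Subgroup.zpowers c).subtype.comp δ.toMonoidHom) le_sup_right, ⟨c, Subgroup.mem_zpowers c⟩, ?_, ?_⟩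
    · rw [hD]
      refine ⟨Fusion.restrict_mem hδI _, Subgroup.zpowers_le.2 hc, fun x => ?_,
        restrictHom ((R ⊔ Subgroup.zpowers c).subtype.comp δ.toMonoidHom) (sup_le le_sup_right le_sup_left),
        Fusion.restrict_mem hδI _, fun x => rfl, fun y => hδR y⟩
      obtain ⟨i, hi⟩ := Subgroup.mem_zpowers_iff.1 x.2
      show (δ ⟨(x : Ω), _⟩ : Ω) ∈ _
      rw [show (⟨(x : Ω), Subgroup.mem_sup_right x.2⟩ : ↥(R ⊔ Subgroup.zpowers c)) = cX ^ i from
        Subtype.ext (by rw [Subgroup.coe_zpow]; exact hi.symm), map_zpow, Subgroup.coe_zpow, hδc]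
      exact zpow_mem hgC i
    · show c⁻¹ * (g cW : Ω) = c⁻¹ * (δ cX : Ω)
      rw [hδc]
  have hfix : g u = u := aut_fixes_focal hS hF hRc hD hg.1 hgp hg.mem_left
    (fun w hw => ⟨apply_mem_centralizerIn hRS hg.mem_left w hw, hg.2.2 w hw⟩) u hfoc
  have hit : ∀ i : ℕ, (g ^ i) cW = cW * u ^ i := by
    intro i
    induction i with
    | zero => simp
    | succ i ih =>
      rw [pow_succ', MulAut.mul_apply, ih, map_mul, map_pow, hfix, pow_succ', ← mul_assoc,
        show g cW = cW * u by rw [hu, mul_inv_cancel_left]]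
  have h5 := hit (orderOf g)
  rw [pow_orderOf_eq_one, MulAut.one_apply, left_eq_mul] at h5
  obtain ⟨k, hk⟩ := IsPGroup.iff_orderOf.1 (hS.to_le hWS) u
  have h6 : u = 1 := orderOf_eq_one_iff.1 (Nat.eq_one_of_dvd_coprimes (hgp.pow_right k)
    (orderOf_dvd_of_pow_eq_one h5) (dvd_of_eq hk))
  have h8 : cW⁻¹ * g cW = 1 := by rw [← hu]; exact h6
  exact congrArg Subtype.val (inv_mul_eq_one.1 h8).symm

open Finset in
/-- An automorphism of order prime to `p` agreeing on a centric `K` with one in `E`. -/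
theorem mem_autGroup_of_agree (hS : IsPGroup p S) (hinv : E.IsInvariantIn F) (hQT : Q ≤ T)
    (hQK : Q ≤ Subgroup.normalizer (K : Set Ω)) (hK : K ≤ Q) (hcen : centralizerIn T K ≤ K)
    {α β : MulAut Q} (hα : α ∈ E.autGroup Q) (hαK : ∀ x : Q, (x : Ω) ∈ K → (α x : Ω) ∈ K)
    (hαp : (orderOf α).Coprime p) (hβ : β ∈ F.autGroup Q) (hβp : (orderOf β).Coprime p)
    (hag : ∀ x : Q, (x : Ω) ∈ K → β x = α x) : β ∈ E.autGroup Q := by
  classical
  have hQS : Q ≤ S := hQT.trans hinv.2.1.1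
  haveI := finite_of_le hQS
  have hαF : α ∈ F.autGroup Q := (mem_autGroup_iff hQS).2 (hinv.1 Q ((mem_autGroup_iff hQT).1 hα))
  set A : Subgroup (MulAut Q) :=
    F.autGroup Q ⊓
      { carrier := {ε | ∀ x : Q, (x : Ω) ∈ K → ε x = x}
        one_mem' := fun _ _ => rfl
        mul_mem' := fun {a b} ha hb x hx => by rw [MulAut.mul_apply, hb x hx, ha x hx]
        inv_mem' := fun {a} ha x hx => by
          apply a.injective
          rw [MulAut.apply_inv_self, ha x hx] } with hA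
  have hu : ∀ ε ∈ A, ∀ t : Q, ((t⁻¹ * ε t : Q) : Ω) ∈ K ∧
      ∀ x : Q, (x : Ω) ∈ K → (t⁻¹ * ε t) * x = x * (t⁻¹ * ε t) := by
    rintro ε ⟨-, hε⟩ t
    have hc : ∀ x : Q, (x : Ω) ∈ K → (t⁻¹ * ε t) * x = x * (t⁻¹ * ε t) := by
      intro x hx
      have h1 := hε (t * x * t⁻¹) ((Subgroup.mem_normalizer_iff.1 (hQK t.2) x).1 hx)
      rw [map_mul, map_mul, map_inv, hε x hx] at h1
      calc t⁻¹ * ε t * x = t⁻¹ * (ε t * x * (ε t)⁻¹) * ε t := by group
        _ = t⁻¹ * (t * x * t⁻¹) * ε t := by rw [h1]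
        _ = x * (t⁻¹ * ε t) := by group
    exact ⟨hcen (mem_centralizerIn.2 ⟨hQT (t⁻¹ * ε t).2, fun k hk =>
      (congrArg Subtype.val (hc ⟨k, hK hk⟩ hk)).symm⟩), hc⟩
  have hAc : ∀ a b : A, a * b = b * a := by
    intro a b
    refine Subtype.ext (MulEquiv.ext fun t => ?_)
    show (a : MulAut Q) ((b : MulAut Q) t) = (b : MulAut Q) ((a : MulAut Q) t)
    obtain ⟨ha, hac⟩ := hu a a.2 t
    obtain ⟨hb, -⟩ := hu b b.2 t
    obtain ⟨ua, hua⟩ : ∃ u, u = t⁻¹ * (a : MulAut Q) t := ⟨_, rfl⟩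
    obtain ⟨ub, hub⟩ : ∃ u, u = t⁻¹ * (b : MulAut Q) t := ⟨_, rfl⟩
    have hat : (a : MulAut Q) t = t * ua := by rw [hua, mul_inv_cancel_left]
    have hbt : (b : MulAut Q) t = t * ub := by rw [hub, mul_inv_cancel_left]
    rw [← hua] at ha hac
    rw [← hub] at hb
    rw [hbt, map_mul, hat, map_mul, a.2.2 ub hb, hbt, b.2.2 ua ha, mul_assoc, mul_assoc, hac ub hb]
  have hAp : IsPGroup p A := by
    obtain ⟨k, hk⟩ := (hS.to_le hQS).exists_card_eq
    intro a
    refine ⟨k, Subtype.ext (MulEquiv.ext fun t => ?_)⟩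
    obtain ⟨hau, -⟩ := hu a a.2 t
    have hpow : ∀ i : ℕ, ((a : MulAut Q) ^ i) t = t * (t⁻¹ * (a : MulAut Q) t) ^ i := by
      intro i
      induction i with
      | zero => simp
      | succ i ih =>
        rw [pow_succ', MulAut.mul_apply, ih, map_mul, map_pow, a.2.2 _ hau, pow_succ',
          ← mul_assoc t (t⁻¹ * _), mul_inv_cancel_left]
    show ((a : MulAut Q) ^ p ^ k) t = t
    rw [hpow, ← hk, pow_card_eq_one', mul_one]
  letI : CommGroup A := { (inferInstance : Group A) with mul_comm := hAc }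
  have hαN : ∀ ε ∈ A, α * ε * α⁻¹ ∈ A := fun ε hε => ⟨Subgroup.mul_mem _ (Subgroup.mul_mem _ hαF hε.1) (Subgroup.inv_mem _ hαF),
    fun x hx => by
      have hx' : ((α⁻¹ x : Q) : Ω) ∈ K := by
        have hn : ∀ n : ℕ, ∀ v : Q, (v : Ω) ∈ K → (((α ^ n) v : Q) : Ω) ∈ K := by
          intro n
          induction n with
          | zero => exact fun v hv => hv
          | succ n ih => exact fun v hv => by rw [pow_succ, MulAut.mul_apply]; exact ih _ (hαK v hv)
        rw [show α⁻¹ = α ^ (orderOf α - 1) from inv_eq_of_mul_eq_one_right (by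
          rw [← pow_succ', Nat.sub_add_cancel (orderOf_pos α), pow_orderOf_eq_one])]
        exact hn _ x hx
      rw [MulAut.mul_apply, MulAut.mul_apply, hε.2 _ hx', MulAut.apply_inv_self]⟩
  set ε := β * α⁻¹ with hε
  have hεA : ε ∈ A := ⟨Subgroup.mul_mem _ hβ (Subgroup.inv_mem _ hαF), fun x hx => by
    obtain ⟨v, rfl⟩ := α.surjective x
    have hv : (v : Ω) ∈ K := by
      have hn : ∀ n : ℕ, (((α ^ n) (α v) : Q) : Ω) ∈ K := by
        intro n
        induction n with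
        | zero => exact hx
        | succ n ih => rw [pow_succ', MulAut.mul_apply]; exact hαK _ ih
      have h1 := hn (orderOf α - 1)
      rwa [← MulAut.mul_apply, ← pow_succ, Nat.sub_add_cancel (orderOf_pos α), pow_orderOf_eq_one] at h1
    rw [hε, MulAut.mul_apply, MulAut.inv_apply_self, hag v hv]⟩
  set m := orderOf β * orderOf α with hm
  let Ai : ℕ → A := fun i => ⟨α ^ i * ε * (α ^ i)⁻¹, by
    induction i with
    | zero => simpa using hεA
    | succ i ih =>
      rw [pow_succ', show α * α ^ i * ε * (α * α ^ i)⁻¹ = α * (α ^ i * ε * (α ^ i)⁻¹) * α⁻¹ by group]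
      exact hαN _ ih⟩
  let conjA : A →* A := MonoidHom.mk' (fun a => ⟨α * a * α⁻¹, hαN a a.2⟩) fun a b =>
    Subtype.ext (show α * ((a : MulAut Q) * b) * α⁻¹ = α * a * α⁻¹ * (α * b * α⁻¹) by group)
  have hconj : ∀ i, conjA (Ai i) = Ai (i + 1) := fun i => Subtype.ext (by
    show α * (α ^ i * ε * (α ^ i)⁻¹) * α⁻¹ = α ^ (i + 1) * ε * (α ^ (i + 1))⁻¹
    rw [pow_succ']; group)
  have hprod : ∀ n : ℕ, β ^ n = ((∏ i ∈ range n, Ai i : A) : MulAut Q) * α ^ n := by
    intro n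
    induction n with
    | zero => simp
    | succ n ih =>
      rw [pow_succ, ih, prod_range_succ, Subgroup.coe_mul, show β = ε * α by rw [hε]; group]
      show _ = ((∏ i ∈ range n, Ai i : A) : MulAut Q) * (α ^ n * ε * (α ^ n)⁻¹) * α ^ (n + 1)
      rw [pow_succ]
      group
  have hαm : α ^ m = 1 := by rw [hm, mul_comm, pow_mul, pow_orderOf_eq_one, one_pow]
  have hP : ∏ i ∈ range m, Ai i = 1 := by
    have h := hprod m
    rw [hαm, mul_one, hm, pow_mul, pow_orderOf_eq_one, one_pow] at h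
    exact Subtype.ext h.symm
  set δ := ∏ i ∈ range m, Ai i ^ i with hδ
  have hAm : Ai m = ⟨ε, hεA⟩ := Subtype.ext (by
    show α ^ m * ε * (α ^ m)⁻¹ = ε
    rw [hαm]; group)
  have hid : conjA δ = δ * (⟨ε, hεA⟩ : A) ^ m := by
    have h0 : Ai 0 = Ai m := by rw [hAm]; exact Subtype.ext (by show α ^ 0 * ε * (α ^ 0)⁻¹ = ε; group)
    have hP' : ∏ i ∈ range m, Ai (i + 1) = 1 := by
      have h1 := prod_range_succ' Ai m
      rw [prod_range_succ, hP, one_mul, h0] at h1
      exact right_eq_mul.1 h1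
    have h1 : conjA δ * ∏ i ∈ range m, Ai (i + 1) = ∏ i ∈ range m, Ai (i + 1) ^ (i + 1) := by
      rw [hδ, map_prod, ← prod_mul_distrib]
      exact prod_congr rfl fun i _ => by rw [map_pow, hconj, pow_succ]
    rw [hP', mul_one] at h1
    have h2 := prod_range_succ' (fun i => Ai i ^ i) m
    rw [prod_range_succ, pow_zero, mul_one, hAm] at h2
    exact h1.trans h2.symm
  have hδF : (δ : MulAut Q) ∈ F.autGroup Q := δ.2.1
  have hεm : ε ^ m ∈ E.autGroup Q := by
    have h : α * (δ : MulAut Q) * α⁻¹ = (δ : MulAut Q) * ε ^ m := congrArg Subtype.val hid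
    rw [show ε ^ m = ((δ : MulAut Q)⁻¹ * α * (δ : MulAut Q)) * α⁻¹ by
      rw [mul_assoc, mul_assoc, ← mul_assoc α, h, inv_mul_cancel_left]]
    refine mul_mem ?_ (inv_mem hα)
    have h1 := congr_mem_of_invariant (strongInvariant_of_invariant hinv) hQT hQT
      ((mem_autGroup_iff hQS).1 (inv_mem hδF)) hα
    rwa [congr_self_eq, inv_inv] at h1
  have hεE : ε ∈ E.autGroup Q := by
    obtain ⟨k, hk⟩ := hAp ⟨ε, hεA⟩
    have hk' : ε ^ p ^ k = 1 := congrArg Subtype.val hk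
    obtain ⟨i, hi⟩ := exists_pow_eq_self_of_coprime (x := ε) (n := m) (by
      refine Nat.Coprime.coprime_dvd_right (orderOf_dvd_of_pow_eq_one hk') ?_
      exact (Nat.Coprime.mul_left hβp hαp).pow_right k)
    exact hi ▸ pow_mem hεm i
  rw [show β = ε * α by rw [hε]; group]
  exact mul_mem hεE hα

end CfsgLib.FusionNormal
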