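import Cfsg.Agent.FusionNormal.GoodLift
import Cfsg.Agent.Transfer.Residual

/-!
A homomorphic choice of good lifts on `Aut_E(R)` which sends the automorphisms induced by `T` to
conjugations.
-/

set_option autoImplicit false

universe u

namespace CfsgLib.FusionNormal

open Cfsg Cfsg.FusionSystem CfsgLib.Fusion
open scoped Pointwise

variable {Ω : Type u} [Group Ω] {S T R : Subgroup Ω} {F : FusionSystem S} {E : FusionSystem T}
  {p : ℕ} [Finite S] [Fact p.Prime]

/-- **The canonical good lifts.** -/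
theorem exists_goodSection (hS : IsPGroup p S) (hF : F.IsSaturated p) (hE : E.IsNormalIn F p)
    (hRT : R ≤ T) (hRn : F.IsFullyNormalized R) (hcen : centralizerIn T R ≤ R) :
    ∃ σ : E.autGroup R →* MulAut ↥(R ⊔ centralizerIn S R),
      (∀ a : E.autGroup R, IsGoodLift F R a (σ a)) ∧
      ∀ t ∈ T, t ∈ Subgroup.normalizer (R : Set Ω) → ∀ a : E.autGroup R,
        (∀ r : R, ((a : MulAut R) r : Ω) = t * r * t⁻¹) →
          ∀ w : ↥(R ⊔ centralizerIn S R), (σ a w : Ω) = t * w * t⁻¹ := by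
  classical
  obtain ⟨⟨hEs, -, hinv⟩, -⟩ := id hE
  have hsc := hinv.2.1
  have hTS : T ≤ S := hsc.1
  have hRS : R ≤ S := hRT.trans hTS
  haveI := finite_of_le hTS
  haveI := finite_of_le hRS
  have hTp : IsPGroup p T := hS.to_le hTS
  set X := R ⊔ centralizerIn S R with hX
  have hXS : X ≤ S := sup_le hRS (centralizerIn_le S R)
  haveI := finite_of_le hXS
  obtain ⟨⟨-, P, hP⟩, -⟩ := automized_receptive hTp hEs (fullyNormalized_of_le hS hF hinv hRT hRn)
  have hRc := fullyCentralized_of_normalized hS hF hRn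
  have hXr := receptive_of_fullyCentralized hS hF
    (FusionSub.isFullyCentralized_of_centric (isCentric_sup_centralizerIn hRc) fun _ => subset_rfl)
  -- the intersection with `T`
  have hXT : ∀ x ∈ X, x ∈ T → x ∈ R := fun x hx hxT => by
    have hx' : x ∈ (R : Set Ω) * (centralizerIn S R : Set Ω) := by
      rw [← Subgroup.coe_mul_of_right_le_normalizer_left R (centralizerIn S R)
        ((centralizerIn_le_normalizerIn S R).trans inf_le_right)]
      exact hx
    obtain ⟨r, hr, c, hc, rfl⟩ := hx'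
    have hcT : c ∈ T := by simpa using T.mul_mem (T.inv_mem (hRT hr)) hxT
    exact R.mul_mem hr (hcen (mem_centralizerIn.2 ⟨hcT, (mem_centralizerIn.1 hc).2⟩))
  let Γ : Subgroup (MulAut X) :=
    { carrier := {γ | ∃ a ∈ E.autGroup R, IsGoodLift F R a γ}
      one_mem' := ⟨1, one_mem _, IsGoodLift.one⟩
      mul_mem' := fun {b c} ⟨a, ha, h1⟩ ⟨a', ha', h2⟩ => ⟨a * a', mul_mem ha ha', h1.mul hRS h2⟩
      inv_mem' := fun {b} ⟨a, ha, h1⟩ => by
        have e : b⁻¹ = b ^ (orderOf b - 1) := inv_eq_of_mul_eq_one_right (by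
          rw [← pow_succ', Nat.sub_add_cancel (orderOf_pos b), pow_orderOf_eq_one])
        rw [e]
        exact ⟨a ^ _, pow_mem ha _, h1.pow hRS _⟩ }
  choose res hresE hres using fun γ : Γ => γ.2
  let ρ : Γ →* E.autGroup R := MonoidHom.mk' (fun γ => ⟨res γ, hresE γ⟩) fun γ δ =>
    Subtype.ext (MulEquiv.ext fun r => Subtype.ext
      (((hres (γ * δ)).2.1 r).symm.trans (((hres γ).mul hRS (hres δ)).2.1 r)))
  have hρ : ∀ (γ : Γ) (r : R),
      ((γ : MulAut X) ⟨r, Subgroup.mem_sup_left r.2⟩ : Ω) = (ρ γ : MulAut R) r :=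
    fun γ r => (hres γ).2.1 r
  have hρs : Function.Surjective ρ := fun a => by
    obtain ⟨γ, hγ⟩ := exists_goodLift hS hF hE hRT hRn hcen a.2
    exact ⟨⟨γ, a, a.2, hγ⟩, Subtype.ext (MulEquiv.ext fun r => Subtype.ext
      ((hρ ⟨γ, a, a.2, hγ⟩ r).symm.trans (hγ.2.1 r)))⟩
  set Δ := ρ.ker with hΔ
  have hΔc : ∀ δ ∈ Δ, ∃ d ∈ centralizerIn S R, ∀ w : X, ((δ : MulAut X) w : Ω) = d * w * d⁻¹ := by
    intro δ hδ
    refine exists_conj_of_translation hS hF hRc ⟨(hres δ).1, fun r => ?_, (hres δ).2.2⟩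
    rw [hρ, MonoidHom.mem_ker.1 hδ]; rfl
  have hΔcen : ∀ δ ∈ Δ, ∀ γ : Γ, γ * δ = δ * γ := by
    intro δ hδ γ
    obtain ⟨d, hd, hdv⟩ := hΔc δ hδ
    refine Subtype.ext (MulEquiv.ext fun w => Subtype.ext ?_)
    set dX : X := ⟨d, Subgroup.mem_sup_right hd⟩ with hdX
    have hδv : ∀ v : X, (δ : MulAut X) v = dX * v * dX⁻¹ := fun v => Subtype.ext (hdv v)
    set v : X := dX⁻¹ * (γ : MulAut X) dX with hv
    have hvR : (v : Ω) ∈ R := (hres γ).2.2 dX hd
    have hγC : (((γ : MulAut X) dX : X) : Ω) ∈ centralizerIn S R :=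
      apply_mem_centralizerIn hRS (hres γ).mem_left dX hd
    have hvC : (v : Ω) ∈ centralizerIn S R :=
      (centralizerIn S R).mul_mem ((centralizerIn S R).inv_mem hd) hγC
    have hvz : ∀ x ∈ X, (v : Ω) * x = x * v := by
      have hle : X ≤ Subgroup.centralizer {(v : Ω)} := sup_le
        (fun x hx => Subgroup.mem_centralizer_singleton_iff.2 ((mem_centralizerIn.1 hvC).2 x hx))
        (fun x hx => Subgroup.mem_centralizer_singleton_iff.2 ((mem_centralizerIn.1 hx).2 v hvR).symm)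
      exact fun x hx => (Subgroup.mem_centralizer_singleton_iff.1 (hle hx)).symm
    show (((γ : MulAut X) ((δ : MulAut X) w)) : Ω) = ((δ : MulAut X) ((γ : MulAut X) w) : Ω)
    rw [hδv, hδv, map_mul, map_mul, map_inv,
      show (γ : MulAut X) dX = dX * v by rw [hv, mul_inv_cancel_left]]
    simp only [Subgroup.coe_mul, Subgroup.coe_inv, mul_inv_rev]
    rw [mul_assoc (dX : Ω) (v : Ω), hvz _ ((γ : MulAut X) w).2]
    group
  haveI hΔcomm : IsMulCommutative Δ :=
    ⟨⟨fun a b => Subtype.ext (hΔcen _ b.2 a)⟩⟩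
  letI : CommGroup Δ := { (inferInstance : Group Δ) with mul_comm := fun a b => Subtype.ext (hΔcen _ b.2 a) }
  set Pt : Subgroup Γ := (autInducedBy T X).subgroupOf Γ with hPt
  have hTn : ∀ t ∈ T, t ∈ Subgroup.normalizer (R : Set Ω) →
      t ∈ Subgroup.normalizer (X : Set Ω) := fun t ht htN => by
    refine Subgroup.mem_normalizer_fintype fun w hw =>
      forall_mem_sup (conjHom X t) le_sup_left le_sup_right
        (fun y hy => Subgroup.mem_sup_left ((Subgroup.mem_normalizer_iff.1 htN y).1 hy))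
        (fun y hy => Subgroup.mem_sup_right (mem_centralizerIn.2
          ⟨S.mul_mem (S.mul_mem (hTS ht) hy.1) (S.inv_mem (hTS ht)), fun r hr => ?_⟩)) hw hw
    have h1 := (mem_centralizerIn.1 hy).2 _ ((Subgroup.mem_normalizer_iff''.1 htN r).1 hr)
    calc r * (t * y * t⁻¹) = t * ((t⁻¹ * r * t) * y) * t⁻¹ := by group
      _ = t * (y * (t⁻¹ * r * t)) * t⁻¹ := by rw [h1]
      _ = t * y * t⁻¹ * r := by group
  have hnR : ∀ t ∈ T, t ∈ Subgroup.normalizer (X : Set Ω) → t ∈ Subgroup.normalizer (R : Set Ω) :=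
    fun t ht htX => Subgroup.mem_normalizer_fintype fun r hr =>
      hXT _ ((Subgroup.mem_normalizer_iff.1 htX r).1 (Subgroup.mem_sup_left hr))
        (T.mul_mem (T.mul_mem ht (hRT hr)) (T.inv_mem ht))
  have hPtl : ∀ (t : Ω) (ht : t ∈ T) (htN : t ∈ Subgroup.normalizer (R : Set Ω)),
      (X.normalizerMonoidHom ⟨t, hTn t ht htN⟩ : MulAut X) ∈ Γ := by
    intro t ht htN
    refine ⟨R.normalizerMonoidHom ⟨t, htN⟩,
      autInducedBy_le_autGroup hRT (le_autInducedBy_apply (K := T) ⟨t, ht⟩ htN),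
      autInducedBy_le_autGroup hXS (le_autInducedBy_apply (K := S) ⟨t, hTS ht⟩ (hTn t ht htN)),
      fun r => rfl, fun w hw => ?_⟩
    refine hXT _ (X.mul_mem (X.inv_mem w.2) (Subtype.mem _)) ?_
    show (w : Ω)⁻¹ * (t * (w : Ω) * t⁻¹) ∈ T
    rw [← mul_assoc, ← mul_assoc]
    refine T.mul_mem ?_ (T.inv_mem ht)
    exact (Subgroup.mem_normalizer_iff''.1 (stronglyClosed_le_normalizer hsc hw.1) t).1 ht
  -- elements of `Pt` fixing `R` are trivial
  have hdisj : ∀ s ∈ Pt, s ∈ Δ → s = 1 := by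
    intro s hs hsΔ
    obtain ⟨t, ht, htX, htv⟩ := mem_autInducedBy_iff.1 (Subgroup.mem_subgroupOf.1 hs)
    have htC : t ∈ centralizerIn T R := mem_centralizerIn.2 ⟨ht, fun r hr => by
      have h1 := hρ s ⟨r, hr⟩
      rw [MonoidHom.mem_ker.1 hsΔ, htv] at h1
      exact (mul_inv_eq_iff_eq_mul.1 h1).symm⟩
    refine Subtype.ext (MulEquiv.ext fun w => Subtype.ext ?_)
    rw [htv]
    have hz : (w : Ω) * t = t * w := by
      have hle : X ≤ Subgroup.centralizer {t} := sup_le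
        (fun x hx => Subgroup.mem_centralizer_singleton_iff.2 ((mem_centralizerIn.1 htC).2 x hx))
        (fun x hx => Subgroup.mem_centralizer_singleton_iff.2
          ((mem_centralizerIn.1 hx).2 t (hcen htC)).symm)
      exact Subgroup.mem_centralizer_singleton_iff.1 (hle w.2)
    show t * (w : Ω) * t⁻¹ = w
    rw [← hz, mul_inv_cancel_right]
  have hρPt : ∀ a ∈ (P : Subgroup (E.autGroup R)), ∃ s ∈ Pt, ρ s = a := by
    intro a ha
    rw [hP] at ha
    obtain ⟨t, ht, htN, htv⟩ := mem_autInducedBy_iff.1 (Subgroup.mem_subgroupOf.1 ha)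
    refine ⟨⟨_, hPtl t ht htN⟩,
      Subgroup.mem_subgroupOf.2 (le_autInducedBy_apply (K := T) ⟨t, ht⟩ (hTn t ht htN)),
      Subtype.ext (MulEquiv.ext fun r => Subtype.ext ?_)⟩
    rw [← hρ, htv]; rfl
  set Sg : Subgroup Γ := Δ ⊔ Pt with hSg
  have hΔS : ∀ δ ∈ Δ, (δ : MulAut X) ∈ autInducedBy S X := fun δ hδ => by
    obtain ⟨d, hd, hdv⟩ := hΔc δ hδ
    exact mem_autInducedBy_iff.2
      ⟨d, hd.1, Subgroup.le_normalizer (Subgroup.mem_sup_right hd), hdv⟩
  have hSgS : Sg ≤ (autInducedBy S X).subgroupOf Γ := sup_le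
    (fun δ hδ => Subgroup.mem_subgroupOf.2 (hΔS δ hδ))
    (fun s hs => Subgroup.mem_subgroupOf.2 (autInducedBy_mono hTS X (Subgroup.mem_subgroupOf.1 hs)))
  have hdec : ∀ s : Sg, ∃ δ : Δ, ∃ t ∈ Pt, (s : Γ) = δ * t := fun s => by
    haveI : Δ.Normal := MonoidHom.normal_ker _
    have h : (s : Γ) ∈ (Δ : Set Γ) * (Pt : Set Γ) := by
      rw [← Subgroup.normal_mul]; exact s.2
    obtain ⟨δ, hδ, t, ht, h⟩ := h
    exact ⟨⟨δ, hδ⟩, t, ht, h.symm⟩
  choose dec tt htt hdec' using hdec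
  have huniq : ∀ (s : Sg) (δ : Δ) (t : Γ), t ∈ Pt → (s : Γ) = δ * t → dec s = δ := by
    intro s δ t ht h
    rw [hdec' s] at h
    have h1 : (δ : Γ)⁻¹ * dec s = t * (tt s)⁻¹ := by
      rw [eq_mul_inv_iff_mul_eq, mul_assoc, h, inv_mul_cancel_left]
    refine Subtype.ext (inv_mul_eq_one.1 (hdisj _ (h1 ▸ Pt.mul_mem ht (Pt.inv_mem (htt s)))
      (Δ.mul_mem (Δ.inv_mem δ.2) (dec s).2))).symm
  let φ : Sg →* Δ := MonoidHom.mk' dec fun s s' => huniq _ _ (tt s * tt s')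
    (Pt.mul_mem (htt s) (htt s')) (by
      rw [Subgroup.coe_mul, Subgroup.coe_mul, hdec' s, hdec' s', mul_assoc, ← mul_assoc (tt s),
        hΔcen _ (dec s').2 (tt s)]
      group)
  have hφΔ : ∀ (δ : Γ) (h : δ ∈ Δ) (h' : δ ∈ Sg), φ ⟨δ, h'⟩ = ⟨δ, h⟩ := fun δ h h' =>
    huniq _ _ 1 Pt.one_mem (by simp)
  have hφP : ∀ (s : Γ) (h' : s ∈ Sg), s ∈ Pt → φ ⟨s, h'⟩ = 1 := fun s h' h =>
    huniq _ _ s h (by simp)
  -- `Pt` is weakly closed
  have hwc : ∀ (g : Γ) (s : Γ), s ∈ Pt → g * s * g⁻¹ ∈ Sg → g * s * g⁻¹ ∈ Pt := by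
    intro g s hs hgs
    obtain ⟨t, ht, htX, htv⟩ := mem_autInducedBy_iff.1 (Subgroup.mem_subgroupOf.1 hs)
    have hgI := (mem_autGroup_iff hXS).1 (hres g).1
    have htN : t ∈ normalizerIn S X := ⟨hTS ht, htX⟩
    have hte : t ∈ extender S X (X.subtype.comp (g : MulAut X).toMonoidHom) := by
      refine mem_extender_of_congr htN htv ?_
      rw [congr_self_eq]
      exact Subgroup.mem_subgroupOf.1 (hSgS hgs)
    obtain ⟨ψ, hψ, hψv⟩ := exists_extension hXr hgI
      (sup_le (le_extender hXS fun x => hXS ((g : MulAut X) x).2) (Subgroup.zpowers_le.2 hte) :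
        X ⊔ Subgroup.zpowers t ≤ _)
    set t' := ψ ⟨t, Subgroup.mem_sup_right (Subgroup.mem_zpowers t)⟩ with ht'
    have ht'T : t' ∈ T := stronglyClosed_apply hsc hψ ht
    have hv : ∀ x : X, (((g * s * g⁻¹ : Γ) : MulAut X) x : Ω) = t' * x * t'⁻¹ := by
      intro x
      obtain ⟨v, rfl⟩ := (g : MulAut X).surjective x
      simp only [Subgroup.coe_mul, Subgroup.coe_inv, MulAut.mul_apply, MulAut.inv_apply_self]
      rw [← hψv ((s : MulAut X) v) (Subgroup.mem_sup_left (Subtype.mem _)),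
        ← hψv v (Subgroup.mem_sup_left (Subtype.mem _)), ht', ← map_inv, ← map_mul, ← map_mul]
      exact congrArg ψ (Subtype.ext (htv v))
    refine Subgroup.mem_subgroupOf.2 (mem_autInducedBy_iff.2 ⟨t', ht'T, ?_, hv⟩)
    exact Subgroup.mem_normalizer_fintype fun x hx => (hv ⟨x, hx⟩) ▸ Subtype.mem _
  -- the index
  have hSgc : Sg = (P : Subgroup (E.autGroup R)).comap ρ := by
    refine le_antisymm (sup_le (fun δ hδ => ?_) fun s hs => ?_) fun s hs => ?_
    · rw [Subgroup.mem_comap, MonoidHom.mem_ker.1 hδ]; exact one_mem _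
    · obtain ⟨t, ht, htX, htv⟩ := mem_autInducedBy_iff.1 (Subgroup.mem_subgroupOf.1 hs)
      rw [Subgroup.mem_comap, hP, Subgroup.mem_subgroupOf]
      exact mem_autInducedBy_iff.2 ⟨t, ht, hnR t ht htX, fun r => (hρ s r).symm.trans (htv _)⟩
    · obtain ⟨s', hs', hs'v⟩ := hρPt _ hs
      have h1 : s * s'⁻¹ ∈ Δ := by
        rw [hΔ, MonoidHom.mem_ker, map_mul, map_inv, hs'v, mul_inv_cancel]
      simpa using Sg.mul_mem (Subgroup.mem_sup_left h1 : _ ∈ Δ ⊔ Pt) (Subgroup.mem_sup_right hs')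
  have hidx : ¬ p ∣ Sg.index := by
    rw [hSgc, Subgroup.index_comap_of_surjective _ hρs]
    exact P.not_dvd_index
  set χ := MonoidHom.transfer φ with hχ
  have hχΔ : ∀ δ : Δ, χ (δ : Γ) = δ ^ Sg.index := by
    intro δ
    have h := MonoidHom.transfer_eq_pow φ (δ : Γ) fun k g _ => by
      rw [mul_assoc, ← hΔcen _ (pow_mem δ.2 k) g, inv_mul_cancel_left]
    rw [hχ, h, hφΔ _ (pow_mem δ.2 _)]
    rfl
  have hχP : ∀ s ∈ Pt, χ s = 1 := by
    intro s hs
    letI := Fintype.ofFinite (Quotient (MulAction.orbitRel (Subgroup.zpowers s) (Γ ⧸ Sg)))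
    rw [hχ, MonoidHom.transfer_eq_prod_quotient_orbitRel_zpowers_quot φ s]
    refine Finset.prod_eq_one fun q _ => hφP _ _ ?_
    set m := Function.minimalPeriod (fun x : Γ ⧸ Sg => s • x) q.out
    have h1 := QuotientGroup.out_conj_pow_minimalPeriod_mem Sg s q.out
    have h2 := hwc q.out.out⁻¹ (s ^ m) (pow_mem hs m) (by rwa [inv_inv])
    rwa [inv_inv] at h2
  -- the complement
  have hco : (Nat.card Δ).Coprime Sg.index := by
    have hΔp : IsPGroup p (Δ.map Γ.subtype : Subgroup (MulAut X)) :=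
      (isPGroup_autInducedBy hS X).to_le (by rintro _ ⟨δ, hδ, rfl⟩; exact hΔS δ hδ)
    obtain ⟨k, hk⟩ := hΔp.exists_card_eq
    rw [Subgroup.card_map_of_injective Γ.subtype_injective] at hk
    rw [hk]
    exact ((Fact.out : p.Prime).coprime_iff_not_dvd.2 hidx).pow_left k
  set L := χ.ker with hL
  have hbij : Function.Bijective (ρ.comp L.subtype) := by
    refine ⟨(injective_iff_map_eq_one _).2 fun l hl => Subtype.ext ?_, fun a => ?_⟩
    · have h1 := hχΔ ⟨(l : Γ), hl⟩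
      rw [MonoidHom.mem_ker.1 l.2] at h1
      exact congrArg (fun z : Δ => (z : Γ)) ((powCoprime hco).injective
        (show (⟨(l : Γ), hl⟩ : Δ) ^ Sg.index = (1 : Δ) ^ Sg.index by rw [one_pow, ← h1]))
    · obtain ⟨γ, rfl⟩ := hρs a
      obtain ⟨δ, hδ⟩ := (powCoprime hco).surjective (χ γ)⁻¹
      refine ⟨⟨γ * δ, MonoidHom.mem_ker.2 ?_⟩, ?_⟩
      · rw [map_mul, hχΔ, show δ ^ Sg.index = (χ γ)⁻¹ from hδ, mul_inv_cancel]
      · show ρ (γ * δ) = ρ γ
        rw [map_mul, MonoidHom.mem_ker.1 δ.2, mul_one]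
  set e := MulEquiv.ofBijective _ hbij with he
  refine ⟨(Γ.subtype.comp L.subtype).comp e.symm.toMonoidHom, fun a => ?_, fun t ht htN a ha w => ?_⟩
  · have h1 : ρ (e.symm a : Γ) = a := e.apply_symm_apply a
    refine ⟨(hres _).1, fun r => ?_, (hres _).2.2⟩
    show (((e.symm a : Γ) : MulAut X) _ : Ω) = _
    rw [hρ, h1]
  · set s : Γ := ⟨_, hPtl t ht htN⟩ with hs
    have hsP : s ∈ Pt :=
      Subgroup.mem_subgroupOf.2 (le_autInducedBy_apply (K := T) ⟨t, ht⟩ (hTn t ht htN))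
    have h1 : e ⟨s, MonoidHom.mem_ker.2 (hχP s hsP)⟩ = a := Subtype.ext (MulEquiv.ext fun r =>
      Subtype.ext ((hρ s r).symm.trans (ha r).symm))
    show ((((e.symm a : L) : Γ) : MulAut X) w : Ω) = t * w * t⁻¹
    rw [← h1, MulEquiv.symm_apply_apply]
    rfl

end CfsgLib.FusionNormal
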