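import Cfsg.Agent.FusionNormal.CentralFocal
import Cfsg.Agent.Fusion.Centric

/-!
Every automorphism in a normal subsystem `E` over `T` of a centric subgroup `R`, fully normalized in
`F`, extends to an automorphism of `R C_S(R)` which is trivial on `C_S(R)` modulo `R`.
-/

set_option autoImplicit false

universe u

namespace CfsgLib.FusionNormal

open Cfsg Cfsg.FusionSystem CfsgLib.Fusion

variable {Ω : Type u} [Group Ω] {S T R Q : Subgroup Ω} {F : FusionSystem S} {E : FusionSystem T}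
  {p : ℕ}

/-- `γ` extends `a` to `R C_S(R)` and is trivial on `C_S(R)` modulo `R`. -/
def IsGoodLift (F : FusionSystem S) (R : Subgroup Ω) (a : MulAut R)
    (γ : MulAut ↥(R ⊔ centralizerIn S R)) : Prop :=
  γ ∈ F.autGroup (R ⊔ centralizerIn S R) ∧
    (∀ r : R, (γ ⟨r, Subgroup.mem_sup_left r.2⟩ : Ω) = a r) ∧
      ∀ w : ↥(R ⊔ centralizerIn S R), (w : Ω) ∈ centralizerIn S R → (w : Ω)⁻¹ * (γ w : Ω) ∈ R

theorem IsGoodLift.mem_left {a : MulAut R} {γ : MulAut ↥(R ⊔ centralizerIn S R)}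
    (h : IsGoodLift F R a γ) (w : ↥(R ⊔ centralizerIn S R)) (hw : (w : Ω) ∈ R) :
    (γ w : Ω) ∈ R := by
  rw [show w = ⟨((⟨w, hw⟩ : R) : Ω), Subgroup.mem_sup_left hw⟩ from rfl, h.2.1]
  exact (a _).2

theorem IsGoodLift.one : IsGoodLift F R 1 1 :=
  ⟨one_mem _, fun _ => rfl, fun _ _ => by simp⟩

variable [Finite S] [Fact p.Prime]

omit [Fact p.Prime] in
theorem IsGoodLift.mul (hRS : R ≤ S) {a b : MulAut R} {γ δ : MulAut ↥(R ⊔ centralizerIn S R)}
    (ha : IsGoodLift F R a γ) (hb : IsGoodLift F R b δ) : IsGoodLift F R (a * b) (γ * δ) := by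
  refine ⟨mul_mem ha.1 hb.1, fun r => ?_, fun w hw => ?_⟩
  · rw [MulAut.mul_apply, show δ ⟨r, Subgroup.mem_sup_left r.2⟩ =
      ⟨(b r : Ω), Subgroup.mem_sup_left (b r).2⟩ from Subtype.ext (hb.2.1 r)]
    exact ha.2.1 (b r)
  · have h3 := R.mul_mem (hb.2.2 w hw)
      (ha.2.2 (δ w) (apply_mem_centralizerIn hRS hb.mem_left w hw))
    rw [MulAut.mul_apply]
    simpa [mul_assoc] using h3

omit [Fact p.Prime] in
theorem IsGoodLift.pow (hRS : R ≤ S) {a : MulAut R} {γ : MulAut ↥(R ⊔ centralizerIn S R)}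
    (ha : IsGoodLift F R a γ) (n : ℕ) : IsGoodLift F R (a ^ n) (γ ^ n) := by
  induction n with
  | zero => simpa using IsGoodLift.one
  | succ n ih => rw [pow_succ, pow_succ]; exact ih.mul hRS ha

/-- A subgroup of `T` fully normalized in `F` is fully normalized in an invariant subsystem. -/
theorem fullyNormalized_of_le (hS : IsPGroup p S) (hF : F.IsSaturated p)
    (hinv : E.IsInvariantIn F) (hRT : R ≤ T) (hR : F.IsFullyNormalized R) :
    E.IsFullyNormalized R := by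
  refine ⟨hRT, fun R' hR' => ?_⟩
  obtain ⟨φ, hφ, hr⟩ := hR'
  obtain ⟨e, he, -⟩ := exists_iso (hinv.1 R hφ) hr
  obtain ⟨hRa, hRr⟩ := automized_receptive hS hF hR
  obtain ⟨η, hη, hηN, -⟩ := exists_map_normalizerIn hS hRa hRr (isConj_symm he.isConj)
  haveI := finite_of_le (normalizerIn_le T R |>.trans hinv.2.1.1)
  have hle : normalizerIn T R' ≤ normalizerIn S R' := fun x hx => ⟨hinv.2.1.1 hx.1, hx.2⟩
  exact Nat.card_le_card_of_injective (fun x : normalizerIn T R' =>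
    (⟨η ⟨x, hle x.2⟩, stronglyClosed_apply hinv.2.1 hη x.2.1, (hηN _).2⟩ : normalizerIn T R))
    fun a b h => Subtype.ext (congrArg Subtype.val
      (F.injective_of_mem hη (congrArg Subtype.val h : η _ = η _)) :)

omit [Finite S] [Fact p.Prime] in
/-- An `F`-conjugate of an `E`-centric subgroup contains its centralizer in `T`. -/
theorem centralizerIn_le_of_isConj (hinv : E.IsInvariantIn F) (hR : E.IsCentric R)
    {R' : Subgroup Ω} (h : F.IsConj R R') : centralizerIn T R' ≤ R' := by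
  obtain ⟨φ, hφ, hr⟩ := h
  obtain ⟨α, -, φ₀, hφ₀, hv⟩ := hinv.2.2.2 R hR.1 φ hφ
  intro z hz
  obtain ⟨y, hy⟩ := α.surjective ⟨z, hz.1⟩
  have h1 : (y : Ω) ∈ φ₀.range := by
    refine hR.2 _ ⟨φ₀, hφ₀, rfl⟩ (mem_centralizerIn.2 ⟨y.2, ?_⟩)
    rintro _ ⟨x, rfl⟩
    have h2 := (mem_centralizerIn.1 hz).2 (φ x) (hr ▸ ⟨x, rfl⟩)
    rw [hv x (apply_mem hφ₀ x), show z = ((α y : T) : Ω) from (congrArg Subtype.val hy).symm,
      ← Subgroup.coe_mul, ← Subgroup.coe_mul, ← map_mul, ← map_mul] at h2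
    exact congrArg Subtype.val (α.injective (Subtype.ext h2))
  obtain ⟨x, hx⟩ := h1
  rw [← hr]
  refine ⟨x, (hv x (apply_mem hφ₀ x)).trans ?_⟩
  rw [show (⟨φ₀ x, apply_mem hφ₀ x⟩ : T) = y from Subtype.ext hx, hy]

omit [Finite S] [Fact p.Prime] in
theorem isCentric_of_F_isConj (hinv : E.IsInvariantIn F) (hR : E.IsCentric R)
    {R' : Subgroup Ω} (h : F.IsConj R R') (hR'T : R' ≤ T) : E.IsCentric R' := by
  refine ⟨hR'T, fun Q hQ => centralizerIn_le_of_isConj hinv hR (isConj_trans h ?_)⟩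
  obtain ⟨φ, hφ, hr⟩ := hQ
  exact ⟨φ, hinv.1 R' hφ, hr⟩

omit [Fact p.Prime] in
/-- `R C_S(R)` is centric when `R` is fully centralized. -/
theorem isCentric_sup_centralizerIn (hRc : F.IsFullyCentralized R) :
    F.IsCentric (R ⊔ centralizerIn S R) := by
  have hRS : R ≤ S := hRc.1
  refine ⟨sup_le hRS (centralizerIn_le S R), fun X hX => ?_⟩
  obtain ⟨φ, hφ, rfl⟩ := hX
  obtain ⟨e, he, hev⟩ := exists_iso_restrict hφ (le_sup_left : R ≤ R ⊔ centralizerIn S R)
  haveI := finite_of_le (centralizerIn_le S (imgHom φ R))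
  have himg : imgHom φ (centralizerIn S R) = centralizerIn S (imgHom φ R) := by
    refine Subgroup.eq_of_le_of_card_ge ?_ ?_
    · rintro _ ⟨c, hc, rfl⟩
      refine mem_centralizerIn.2 ⟨apply_mem hφ c, ?_⟩
      rintro _ ⟨r, hr, rfl⟩
      rw [← map_mul, ← map_mul]
      exact congrArg φ (Subtype.ext ((mem_centralizerIn.1 hc).2 r hr))
    · rw [card_imgHom (F.injective_of_mem hφ) le_sup_right]
      exact hRc.2 _ he.isConj
  intro z hz
  have h1 : z ∈ centralizerIn S (imgHom φ R) := centralizerIn_anti (imgHom_le_range φ R) hz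
  rw [← himg] at h1
  exact imgHom_le_range φ _ h1

/-- An automorphism of `R C_S(R)` trivial on `R` and on `C_S(R)` modulo `R` is induced by
`C_S(R)`. -/
theorem exists_conj_of_translation (hS : IsPGroup p S) (hF : F.IsSaturated p)
    (hRc : F.IsFullyCentralized R) {δ : MulAut ↥(R ⊔ centralizerIn S R)}
    (hδ : IsGoodLift F R 1 δ) :
    ∃ d ∈ centralizerIn S R, ∀ w : ↥(R ⊔ centralizerIn S R), (δ w : Ω) = d * w * d⁻¹ := by
  classical
  have hRS : R ≤ S := hRc.1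
  have hCS : centralizerIn S R ≤ S := centralizerIn_le S R
  haveI := finite_of_le hCS
  have hCp : IsPGroup p (centralizerIn S R) := hS.to_le hCS
  obtain ⟨D, hD⟩ := exists_isCentralizerSystem F hRS
  have hDs : D.IsSaturated p := isSaturated_centralizerSystem hS hF hRc hD
  have hδI := (mem_autGroup_iff (sup_le hRS hCS)).1 hδ.1
  obtain ⟨δ₀, hδ₀F, hδ₀v⟩ := exists_aut_restrict hδI (le_sup_right : (centralizerIn S R) ≤ R ⊔ (centralizerIn S R))
    (fun x hx => apply_mem_centralizerIn hRS hδ.mem_left ⟨x, Subgroup.mem_sup_right hx⟩ hx)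
  have hδ₀D : δ₀ ∈ D.autGroup (centralizerIn S R) := by
    refine (mem_autGroup_iff le_rfl).2 ?_
    show (centralizerIn S R).subtype.comp δ₀.toMonoidHom ∈ D.Hom (centralizerIn S R)
    rw [hD]
    exact ⟨(mem_autGroup_iff hCS).1 hδ₀F, le_rfl, fun x => (δ₀ x).2,
      restrictHom _ (sup_le le_sup_right le_sup_left), Fusion.restrict_mem hδI _,
      fun x => (hδ₀v x).symm, fun r => hδ.2.1 r⟩
  have hfix : ∀ β ∈ D.autGroup (centralizerIn S R), ∀ u : (centralizerIn S R), (u : Ω) ∈ R → β u = u := by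
    intro β hβ u hu
    have h : (centralizerIn S R).subtype.comp β.toMonoidHom ∈ D.Hom (centralizerIn S R) := (mem_autGroup_iff le_rfl).1 hβ
    rw [hD] at h
    obtain ⟨-, -, -, ψ, -, h1, h2⟩ := h
    exact Subtype.ext ((h1 u).symm.trans (h2 ⟨u, hu⟩))
  let N : Subgroup (D.autGroup (centralizerIn S R)) :=
    { carrier := {β | ∀ u : (centralizerIn S R), (u : Ω)⁻¹ * (((β : MulAut (centralizerIn S R)) u : (centralizerIn S R)) : Ω) ∈ R}
      one_mem' := fun u => by simp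
      mul_mem' := fun {a b} ha hb u => by
        have h := R.mul_mem (hb u) (ha ((b : MulAut (centralizerIn S R)) u))
        simpa [mul_assoc] using h
      inv_mem' := fun {a} ha u => by
        have h := R.inv_mem (ha ((a : MulAut (centralizerIn S R))⁻¹ u))
        simpa using h }
  have hNn : N.Normal := ⟨fun a ha g u => by
    set v : (centralizerIn S R) := (g : MulAut (centralizerIn S R))⁻¹ u with hv
    have h1 := hfix g g.2 (v⁻¹ * (a : MulAut (centralizerIn S R)) v) (ha v)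
    have h2 : u⁻¹ * ((g * a * g⁻¹ : D.autGroup (centralizerIn S R)) : MulAut (centralizerIn S R)) u =
        (g : MulAut (centralizerIn S R)) (v⁻¹ * (a : MulAut (centralizerIn S R)) v) := by
      rw [map_mul, map_inv, hv]
      simp
    have h3 := ha v
    show (((u⁻¹ * ((g * a * g⁻¹ : D.autGroup (centralizerIn S R)) : MulAut (centralizerIn S R)) u : (centralizerIn S R))) : Ω) ∈ R
    rw [h2, h1]
    exact h3⟩
  have hNp : IsPGroup p N := by
    obtain ⟨k, hk⟩ := hCp.exists_card_eq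
    intro β
    refine ⟨k, Subtype.ext (Subtype.ext (MulEquiv.ext fun u => ?_))⟩
    set a : (centralizerIn S R) := u⁻¹ * ((β : D.autGroup (centralizerIn S R)) : MulAut (centralizerIn S R)) u with ha
    have hafix := hfix _ (β : D.autGroup (centralizerIn S R)).2 a (β.2 u)
    have hpow : ∀ i : ℕ, (((β : D.autGroup (centralizerIn S R)) : MulAut (centralizerIn S R)) ^ i) u = u * a ^ i := by
      intro i
      induction i with
      | zero => simp
      | succ i ih =>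
        rw [pow_succ', MulAut.mul_apply, ih, map_mul, map_pow, hafix, pow_succ', ← mul_assoc u a,
          show u * a = ((β : D.autGroup (centralizerIn S R)) : MulAut (centralizerIn S R)) u by rw [ha, mul_inv_cancel_left]]
    show (((β : D.autGroup (centralizerIn S R)) : MulAut (centralizerIn S R)) ^ (p ^ k)) u = u
    rw [hpow, ← hk, pow_card_eq_one', mul_one]
  obtain ⟨⟨-, P, hP⟩, -⟩ := automized_receptive hCp hDs (isFullyNormalized_self (F := D))
  haveI := hNn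
  have h2 := P.is_maximal' (hNp.to_sup_of_normal_left P.isPGroup'
    : IsPGroup p ↥(N ⊔ (P : Subgroup _))) le_sup_right
  have hmem : (⟨δ₀, hδ₀D⟩ : D.autGroup (centralizerIn S R)) ∈ N := fun u => by
    show (u : Ω)⁻¹ * (δ₀ u : Ω) ∈ R
    rw [hδ₀v]
    exact hδ.2.2 ⟨u, Subgroup.mem_sup_right u.2⟩ u.2
  have h3 : (⟨δ₀, hδ₀D⟩ : D.autGroup (centralizerIn S R)) ∈ (P : Subgroup (D.autGroup (centralizerIn S R))) :=
    h2 ▸ Subgroup.mem_sup_left hmem
  rw [hP] at h3
  obtain ⟨d, hd, -, hdv⟩ := mem_autInducedBy_iff.1 (Subgroup.mem_subgroupOf.1 h3)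
  refine ⟨d, hd, fun w => ?_⟩
  exact eq_on_sup ((R ⊔ (centralizerIn S R)).subtype.comp δ.toMonoidHom) (conjHom (R ⊔ (centralizerIn S R)) d) le_sup_left le_sup_right
    (fun x hx => (hδ.2.1 ⟨x, hx⟩).trans (by
      show x = d * x * d⁻¹
      rw [← (mem_centralizerIn.1 hd).2 x hx, mul_inv_cancel_right]))
    (fun x hx => (hδ₀v ⟨x, hx⟩).symm.trans (hdv ⟨x, hx⟩)) w.2 w.2

/-- The step: from a larger subgroup `Q`, fully normalized in `F`, down to `R`. -/
theorem exists_goodLift_of_extension (hS : IsPGroup p S) (hF : F.IsSaturated p)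
    (hE : E.IsNormalIn F p) (hRc : F.IsFullyCentralized R) (hR : E.IsCentric R)
    (hRQ : R ≤ Q) (hQT : Q ≤ T) (hQn : F.IsFullyNormalized Q)
    (hCQ : centralizerIn S R ≤ Subgroup.normalizer (Q : Set Ω))
    {a : MulAut R} {ν : MulAut Q} (hν : ν ∈ E.autGroup Q)
    (hνa : ∀ r : R, (ν ⟨r, hRQ r.2⟩ : Ω) = a r) (ha : (orderOf a).Coprime p)
    {ω : MulAut ↥(Q ⊔ centralizerIn S Q)} (hω : IsGoodLift F Q ν ω) :
    ∃ γ, IsGoodLift F R a γ := by
  classical
  obtain ⟨⟨hEs, -, hinv⟩, -⟩ := hE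
  have hTS : T ≤ S := hinv.2.1.1
  have hRT : R ≤ T := hR.1
  have hRS : R ≤ S := hRT.trans hTS
  have hQS : Q ≤ S := hQT.trans hTS
  have hTp : IsPGroup p T := hS.to_le hTS
  haveI := finite_of_le hTS
  haveI := finite_of_le hRS
  haveI := finite_of_le hQS
  have hW : R ⊔ centralizerIn S R ≤ S := sup_le hRS (centralizerIn_le S R)
  haveI := finite_of_le hW
  have hW₀ : Q ⊔ centralizerIn S Q ≤ S := sup_le hQS (centralizerIn_le S Q)
  haveI := finite_of_le hW₀
  have hQc := fullyCentralized_of_normalized hS hF hQn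
  have hW₀c := isCentric_sup_centralizerIn hQc
  have hcQR : centralizerIn S Q ≤ centralizerIn S R := centralizerIn_anti hRQ
  have hQn' : Q ≤ Subgroup.normalizer (Q : Set Ω) := Subgroup.le_normalizer
  have hZ : ∀ x ∈ centralizerIn S R, x ∈ T → x ∈ R := fun x hx hxT =>
    centralizerIn_le_of_centric hR (mem_centralizerIn.2 ⟨hxT, (mem_centralizerIn.1 hx).2⟩)
  have hdW : ∀ d ∈ centralizerIn S R, d ∈ Subgroup.normalizer (↑(Q ⊔ centralizerIn S Q) : Set Ω) := by
    intro d hd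
    refine Subgroup.mem_normalizer_fintype fun y hy => forall_mem_sup
      (conjHom (Q ⊔ centralizerIn S Q) d) le_sup_left le_sup_right
      (fun x hx => Subgroup.mem_sup_left ((Subgroup.mem_normalizer_iff.1 (hCQ hd) x).1 hx))
      (fun x hx => Subgroup.mem_sup_right (mem_centralizerIn.2
        ⟨S.mul_mem (S.mul_mem hd.1 hx.1) (S.inv_mem hd.1), fun q hq => ?_⟩)) hy hy
    have h1 := (mem_centralizerIn.1 hx).2 _ ((Subgroup.mem_normalizer_iff''.1 (hCQ hd) q).1 hq)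
    calc q * (d * x * d⁻¹) = d * ((d⁻¹ * q * d) * x) * d⁻¹ := by group
      _ = d * (x * (d⁻¹ * q * d)) * d⁻¹ := by rw [h1]
      _ = d * x * d⁻¹ * q := by group
  -- the obstruction for an element of `C_S(R)`
  have key : ∀ d ∈ centralizerIn S R, ∃ g ∈ S, g ∈ Subgroup.normalizer (↑(Q ⊔ centralizerIn S Q) : Set Ω) ∧
      (∀ w : ↥(Q ⊔ centralizerIn S Q), ∀ hw : d * (w : Ω) * d⁻¹ ∈ Q ⊔ centralizerIn S Q,
        (ω ⟨d * w * d⁻¹, hw⟩ : Ω) = g * (ω w : Ω) * g⁻¹) ∧
      ∃ z ∈ R, ∃ c ∈ centralizerIn S Q, g = d * (z * c) := by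
    intro d hd
    set κc : MulAut ↥(Q ⊔ centralizerIn S Q) :=
      (Q ⊔ centralizerIn S Q).normalizerMonoidHom ⟨d, hdW d hd⟩ with hκc
    have hκcv : ∀ w, (κc w : Ω) = d * w * d⁻¹ := fun w => rfl
    set cQ : MulAut Q := Q.normalizerMonoidHom ⟨d, hCQ hd⟩ with hcQ
    have hcQF : cQ ∈ F.autGroup Q := autInducedBy_le_autGroup hQS
      (le_autInducedBy_apply (K := S) ⟨d, hd.1⟩ (hCQ hd))
    have hκF : κc ∈ F.autGroup (Q ⊔ centralizerIn S Q) := autInducedBy_le_autGroup hW₀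
      (le_autInducedBy_apply (K := S) ⟨d, hd.1⟩ (hdW d hd))
    set ε : MulAut Q := ν * (cQ * ν⁻¹ * cQ⁻¹) with hε
    have hεE : ε ∈ E.autGroup Q := by
      refine mul_mem hν ?_
      rw [← congr_self_eq]
      exact congr_mem_of_invariant (strongInvariant_of_invariant hinv) hQT hQT
        ((mem_autGroup_iff hQS).1 hcQF) (inv_mem hν)
    have hcfix : ∀ r : R, cQ ⟨r, hRQ r.2⟩ = ⟨r, hRQ r.2⟩ := fun r => Subtype.ext (by
      show d * (r : Ω) * d⁻¹ = r
      rw [← (mem_centralizerIn.1 hd).2 r r.2, mul_inv_cancel_right])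
    have hεfix : ∀ x : Q, (x : Ω) ∈ R → (ε x : Ω) = x := by
      intro x hx
      obtain ⟨q, hq⟩ := a.surjective ⟨x, hx⟩
      have hx' : x = ν ⟨q, hRQ q.2⟩ := Subtype.ext (by rw [hνa, hq])
      have h1 : cQ⁻¹ x = x := by
        apply cQ.injective
        rw [MulAut.apply_inv_self]
        exact (hcfix ⟨x, hx⟩).symm
      rw [hε, MulAut.mul_apply, MulAut.mul_apply, MulAut.mul_apply, h1, hx', MulAut.inv_apply_self,
        hcfix q]
    obtain ⟨z, hzR, hzC, hzv⟩ := exists_center_conj_of_agree hTp hEs hRQ hR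
      (φ := Q.subtype) (φ' := Q.subtype.comp ε.toMonoidHom) (subtype_mem hQT)
      ((mem_autGroup_iff hQT).1 hεE) (fun x hx => (hεfix x hx).symm)
    have hzW : (z : Ω) ∈ Subgroup.normalizer (↑(Q ⊔ centralizerIn S Q) : Set Ω) :=
      Subgroup.le_normalizer (Subgroup.mem_sup_left z.2)
    set κz : MulAut ↥(Q ⊔ centralizerIn S Q) :=
      (Q ⊔ centralizerIn S Q).normalizerMonoidHom ⟨z, hzW⟩ with hκz
    set δ := κz⁻¹ * (ω * κc * ω⁻¹ * κc⁻¹) with hδ
    have hκzF : κz ∈ F.autGroup (Q ⊔ centralizerIn S Q) := autInducedBy_le_autGroup hW₀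
      (le_autInducedBy_apply (K := S) ⟨z, hQS z.2⟩ hzW)
    have hκzg : IsGoodLift F Q (Q.normalizerMonoidHom ⟨z, hQn' z.2⟩) κz :=
      ⟨hκzF, fun q => rfl, fun w hw => by
        show (w : Ω)⁻¹ * ((z : Ω) * w * (z : Ω)⁻¹) ∈ Q
        rw [(mem_centralizerIn.1 hw).2 z z.2, mul_inv_cancel_right, inv_mul_cancel]
        exact Q.one_mem⟩
    have hωi : IsGoodLift F Q ν⁻¹ ω⁻¹ := by
      refine ⟨inv_mem hω.1, fun q => ?_, fun w hw => ?_⟩
      · have e : ω⁻¹ ⟨q, Subgroup.mem_sup_left q.2⟩ =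
            ⟨(ν⁻¹ q : Ω), Subgroup.mem_sup_left (ν⁻¹ q).2⟩ := by
          apply ω.injective
          rw [MulAut.apply_inv_self]
          exact Subtype.ext (by rw [hω.2.1, MulAut.apply_inv_self])
        rw [e]
      · have hpres : ∀ v : ↥(Q ⊔ centralizerIn S Q), (v : Ω) ∈ Q → ((ω⁻¹ v : ↥(Q ⊔ centralizerIn S Q)) : Ω) ∈ Q := by
          intro v hv
          have e : ω⁻¹ v = ⟨(ν⁻¹ ⟨v, hv⟩ : Ω), Subgroup.mem_sup_left (Subtype.mem _)⟩ := by
            apply ω.injective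
            rw [MulAut.apply_inv_self]
            exact Subtype.ext (by rw [hω.2.1, MulAut.apply_inv_self])
          rw [e]; exact Subtype.mem _
        have h1 := hω.2.2 (ω⁻¹ w) (apply_mem_centralizerIn hQS hpres w hw)
        rw [MulAut.apply_inv_self] at h1
        simpa using Q.inv_mem h1
    have hconj : IsGoodLift F Q (cQ * ν⁻¹ * cQ⁻¹) (κc * ω⁻¹ * κc⁻¹) := by
      have hci : ∀ w, ((κc⁻¹ w : ↥(Q ⊔ centralizerIn S Q)) : Ω) = d⁻¹ * w * d := fun w => by
        obtain ⟨v, rfl⟩ := κc.surjective w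
        rw [MulAut.inv_apply_self, hκcv]
        group
      refine ⟨mul_mem (mul_mem hκF hωi.1) (inv_mem hκF), fun q => ?_, fun w hw => ?_⟩
      · obtain ⟨v, rfl⟩ := cQ.surjective q
        simp only [MulAut.mul_apply, MulAut.inv_apply_self]
        rw [hκcv, show κc⁻¹ ⟨(cQ v : Ω), Subgroup.mem_sup_left (cQ v).2⟩ =
          ⟨v, Subgroup.mem_sup_left v.2⟩ from Subtype.ext (by
            rw [hci]; show d⁻¹ * (d * (v : Ω) * d⁻¹) * d = v; group), hωi.2.1]
        rfl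
      · have hv : ((κc⁻¹ w : ↥(Q ⊔ centralizerIn S Q)) : Ω) ∈ centralizerIn S Q := by
          rw [hci]
          refine mem_centralizerIn.2 ⟨S.mul_mem (S.mul_mem (S.inv_mem hd.1) hw.1) hd.1, fun q hq => ?_⟩
          have h1 := (mem_centralizerIn.1 hw).2 _ ((Subgroup.mem_normalizer_iff.1 (hCQ hd) q).1 hq)
          calc q * (d⁻¹ * w * d) = d⁻¹ * ((d * q * d⁻¹) * w) * d := by group
            _ = d⁻¹ * (w * (d * q * d⁻¹)) * d := by rw [h1]
            _ = d⁻¹ * w * d * q := by group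
        have h1 := hωi.2.2 _ hv
        rw [hci] at h1
        rw [MulAut.mul_apply, MulAut.mul_apply, hκcv]
        have h2 := (Subgroup.mem_normalizer_iff.1 (hCQ hd) _).1 h1
        convert h2 using 1
        group
    have hδg : IsGoodLift F Q 1 δ := by
      have h1 : IsGoodLift F Q ε (ω * (κc * ω⁻¹ * κc⁻¹)) := hω.mul hQS hconj
      have hzi : κz⁻¹ = κz ^ (orderOf κz - 1) := inv_eq_of_mul_eq_one_right (by
        rw [← pow_succ', Nat.sub_add_cancel (orderOf_pos κz), pow_orderOf_eq_one])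
      have h2 := ((hκzg.pow hQS (orderOf κz - 1)).mul hQS h1)
      rw [← hzi] at h2
      refine ⟨?_, fun q => ?_, fun w hw => ?_⟩
      · exact hδ ▸ (by simpa [mul_assoc] using h2.1)
      · have h3 : ε = Q.normalizerMonoidHom ⟨z, hQn' z.2⟩ :=
          MulEquiv.ext fun y => Subtype.ext ((hzv y).trans rfl)
        have h4 : δ ⟨q, Subgroup.mem_sup_left q.2⟩ = ⟨q, Subgroup.mem_sup_left q.2⟩ := by
          apply κz.injective
          rw [hδ, MulAut.mul_apply, MulAut.apply_inv_self]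
          refine Subtype.ext (Eq.trans ?_ (hκzg.2.1 q).symm)
          rw [← h3, ← h1.2.1 q]
          simp only [MulAut.mul_apply]
        rw [h4]; rfl
      · have := h2.2.2 w hw
        simpa [hδ, mul_assoc] using this
    obtain ⟨m, hm, hmv⟩ := exists_conj_of_translation hS hF hQc hδg
    refine ⟨z * m * d, S.mul_mem (S.mul_mem (hQS z.2) hm.1) hd.1,
      mul_mem (mul_mem hzW (Subgroup.le_normalizer (Subgroup.mem_sup_right hm))) (hdW d hd), ?_,
      z, hzR, d⁻¹ * m * d, ?_, ?_⟩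
    · intro w hw
      set v := ω w with hv
      have h1 : ω * κc * ω⁻¹ = κz * δ * κc := by rw [hδ]; group
      have h2 : (ω * κc * ω⁻¹) v = ω ⟨d * w * d⁻¹, hw⟩ := by
        rw [MulAut.mul_apply, MulAut.mul_apply, hv, MulAut.inv_apply_self]
        exact congrArg ω (Subtype.ext (hκcv w))
      rw [← h2, h1, MulAut.mul_apply, MulAut.mul_apply]
      show (z : Ω) * (δ (κc v) : Ω) * (z : Ω)⁻¹ = _
      rw [hmv, hκcv]
      group
    · refine mem_centralizerIn.2 ⟨S.mul_mem (S.mul_mem (S.inv_mem hd.1) hm.1) hd.1, fun q hq => ?_⟩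
      have h1 := (mem_centralizerIn.1 hm).2 _ ((Subgroup.mem_normalizer_iff.1 (hCQ hd) q).1 hq)
      calc q * (d⁻¹ * m * d) = d⁻¹ * ((d * q * d⁻¹) * m) * d := by group
        _ = d⁻¹ * (m * (d * q * d⁻¹)) * d := by rw [h1]
        _ = d⁻¹ * m * d * q := by group
    · rw [← mul_assoc d, ← (mem_centralizerIn.1 hd).2 z hzR]
      group
  -- extend to `C_S(R)`
  have hext : centralizerIn S R ≤ extender S (Q ⊔ centralizerIn S Q)
      ((Q ⊔ centralizerIn S Q).subtype.comp ω.toMonoidHom) := fun d hd => by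
    obtain ⟨g, hgS, -, hgv, -⟩ := key d hd
    exact mem_extender_iff.2 ⟨hd.1, hdW d hd, g, hgS, fun x hx => hgv x hx⟩
  have hωI := (mem_autGroup_iff hW₀).1 hω.1
  have hQr := receptive_of_fullyCentralized hS hF (FusionSub.isFullyCentralized_of_centric hW₀c (fun _ => subset_rfl))
  obtain ⟨ψ, hψ, hψv⟩ := exists_extension hQr hωI
    (sup_le (le_extender hW₀ fun x => hW₀ (ω x).2) hext :
      (Q ⊔ centralizerIn S Q) ⊔ centralizerIn S R ≤ _)
  have hXle : R ⊔ centralizerIn S R ≤ (Q ⊔ centralizerIn S Q) ⊔ centralizerIn S R :=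
    sup_le_sup_right (hRQ.trans le_sup_left) _
  have hψQ : ∀ (x : Ω) (hx : x ∈ Q ⊔ centralizerIn S Q),
      ψ ⟨x, Subgroup.mem_sup_left hx⟩ = (ω ⟨x, hx⟩ : Ω) :=
    fun x hx => hψv ⟨x, hx⟩ (Subgroup.mem_sup_left hx)
  have hψR : ∀ (x : Ω) (hx : x ∈ R),
      ψ ⟨x, Subgroup.mem_sup_left (Subgroup.mem_sup_left (hRQ hx))⟩ = (a ⟨x, hx⟩ : Ω) :=
    fun x hx => (hψQ x _).trans ((hω.2.1 ⟨x, hRQ hx⟩).trans (hνa ⟨x, hx⟩))
  obtain ⟨γ₀, hγ₀, hγ₀v⟩ := exists_aut_restrict hψ hXle fun x hx =>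
    forall_mem_sup ψ (le_sup_left.trans hXle) (le_sup_right.trans hXle)
      (fun y hy => Subgroup.mem_sup_left (by rw [hψR y hy]; exact (a _).2))
      (fun y hy => Subgroup.mem_sup_right (mem_centralizerIn.2 ⟨apply_mem hψ _, fun r hr => by
        obtain ⟨q, hq⟩ := a.surjective ⟨r, hr⟩
        have e : r = ψ ⟨q, Subgroup.mem_sup_left (Subgroup.mem_sup_left (hRQ q.2))⟩ := by
          rw [hψR q q.2, Subtype.coe_eta, hq]
        rw [e, ← map_mul, ← map_mul]
        exact congrArg ψ (Subtype.ext ((mem_centralizerIn.1 hy).2 q q.2))⟩)) (hXle hx) hx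
  have hγ₀R : ∀ r : R, (γ₀ ⟨r, Subgroup.mem_sup_left r.2⟩ : Ω) = a r := fun r =>
    (hγ₀v _).trans (hψR r r.2)
  obtain ⟨j, hj, hj1⟩ := exists_pow_coprime (p := p) γ₀ ha
  -- properties closed under composition
  let Near : MulAut ↥(R ⊔ centralizerIn S R) → Prop := fun g =>
    (∀ w : ↥(R ⊔ centralizerIn S R), (w : Ω) ∈ R → (g w : Ω) ∈ R) ∧
    (∀ w : ↥(R ⊔ centralizerIn S R), (w : Ω) ∈ centralizerIn S R →
      (w : Ω)⁻¹ * (g w : Ω) ∈ R ⊔ centralizerIn S Q) ∧
    ∀ w : ↥(R ⊔ centralizerIn S R), (w : Ω) ∈ centralizerIn S Q → (w : Ω)⁻¹ * (g w : Ω) ∈ R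
  have hN₀ : Near γ₀ := by
    refine ⟨fun w hw => ?_, fun w hw => ?_, fun w hw => ?_⟩
    · rw [show w = ⟨((⟨w, hw⟩ : R) : Ω), Subgroup.mem_sup_left hw⟩ from rfl, hγ₀R]
      exact (a _).2
    · obtain ⟨g, -, -, hgv, z, hz, c, hc, hg⟩ := key w hw
      have hgS : g ∈ S := hg ▸ S.mul_mem hw.1 (S.mul_mem (hRS hz) hc.1)
      set q := ψ ⟨w, hXle w.2⟩ with hq
      have hu : g⁻¹ * q ∈ centralizerIn S Q := by
        refine mem_centralizerIn.2 ⟨S.mul_mem (S.inv_mem hgS) (apply_mem hψ _), fun x hx => ?_⟩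
        obtain ⟨v, hv⟩ := ω.surjective ⟨x, Subgroup.mem_sup_left hx⟩
        have hmem : (w : Ω) * v * (w : Ω)⁻¹ ∈ Q ⊔ centralizerIn S Q :=
          (Subgroup.mem_normalizer_iff.1 (hdW w hw) _).1 v.2
        have hx' : (ω v : Ω) = x := congrArg Subtype.val hv
        have h1 : q * x * q⁻¹ = g * x * g⁻¹ := by
          rw [← hx', ← hgv v hmem, ← hψQ _ hmem, ← hψQ v v.2, hq, ← map_inv, ← map_mul, ← map_mul]
          rfl
        calc x * (g⁻¹ * q) = g⁻¹ * (g * x * g⁻¹) * q := by group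
          _ = g⁻¹ * (q * x * q⁻¹) * q := by rw [h1]
          _ = g⁻¹ * q * x := by group
      rw [hγ₀v]
      show (w : Ω)⁻¹ * q ∈ _
      rw [show (w : Ω)⁻¹ * q = z * c * (g⁻¹ * q) by rw [hg]; group]
      exact mul_mem (mul_mem (Subgroup.mem_sup_left hz) (Subgroup.mem_sup_right hc))
        (Subgroup.mem_sup_right hu)
    · have hw₀ : (w : Ω) ∈ Q ⊔ centralizerIn S Q := Subgroup.mem_sup_right hw
      rw [hγ₀v, show ψ ⟨(w : Ω), hXle w.2⟩ = (ω ⟨w, hw₀⟩ : Ω) from hψQ w hw₀]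
      refine hZ _ ((centralizerIn S R).mul_mem ((centralizerIn S R).inv_mem (hcQR hw))
        (hcQR (apply_mem_centralizerIn hQS hω.mem_left _ hw))) (hQT (hω.2.2 ⟨w, hw₀⟩ hw))
  have hNmul : ∀ g₁ g₂, Near g₁ → Near g₂ → Near (g₁ * g₂) := by
    rintro g₁ g₂ ⟨h1, h1', h1''⟩ ⟨h2, h2', h2''⟩
    refine ⟨fun w hw => h1 _ (h2 w hw), fun w hw => ?_, fun w hw => ?_⟩
    · have h3 := mul_mem (h2' w hw) (h1' (g₂ w) (apply_mem_centralizerIn hRS h2 w hw))
      rw [MulAut.mul_apply]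
      simpa [mul_assoc] using h3
    · set r : ↥(R ⊔ centralizerIn S R) := w⁻¹ * g₂ w with hr
      have hrR : (r : Ω) ∈ R := h2'' w hw
      have h3 := R.mul_mem (h1'' w hw) (h1 r hrR)
      rw [MulAut.mul_apply, show g₂ w = w * r by rw [hr, mul_inv_cancel_left], map_mul]
      simpa [mul_assoc] using h3
  have hNpow : ∀ n : ℕ, Near (γ₀ ^ n) := fun n => by
    induction n with
    | zero => exact ⟨fun w hw => hw, fun w _ => by simp, fun w _ => by simp⟩
    | succ n ih => rw [pow_succ]; exact hNmul _ _ ih hN₀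
  set γ := γ₀ ^ j with hγ
  have hγa : ∀ r : R, (γ ⟨r, Subgroup.mem_sup_left r.2⟩ : Ω) = a r := by
    have haj : a ^ j = a := by
      have h1 : a ^ j = a ^ 1 := pow_eq_pow_iff_modEq.2 hj1
      rwa [pow_one] at h1
    have hpw : ∀ n : ℕ, ∀ r : R, ((γ₀ ^ n) ⟨r, Subgroup.mem_sup_left r.2⟩ : Ω) = (a ^ n) r := by
      intro n
      induction n with
      | zero => exact fun r => rfl
      | succ n ih =>
        intro r
        rw [pow_succ, pow_succ, MulAut.mul_apply, MulAut.mul_apply,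
          show γ₀ ⟨r, Subgroup.mem_sup_left r.2⟩ = ⟨(a r : Ω), Subgroup.mem_sup_left (a r).2⟩ from
            Subtype.ext (hγ₀R r)]
        exact ih (a r)
    intro r
    rw [hγ, hpw, haj]
  obtain ⟨hγR, hγC, hγQ⟩ := hNpow j
  refine ⟨γ, pow_mem hγ₀ j, hγa, fun w hw => ?_⟩
  -- stability of the series
  have hn : R ⊔ centralizerIn S R ≤ Subgroup.normalizer (R : Set Ω) :=
    sup_le Subgroup.le_normalizer ((centralizerIn_le_normalizerIn S R).trans inf_le_right)
  set M := R.subgroupOf (R ⊔ centralizerIn S R) with hM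
  haveI hMn : M.Normal := Subgroup.normal_subgroupOf_of_le_normalizer hn
  set π := QuotientGroup.mk' M with hπ
  have hMk : ∀ x, π x = 1 ↔ (x : Ω) ∈ R := fun x =>
    (QuotientGroup.eq_one_iff x).trans Subgroup.mem_subgroupOf
  have hfix : ∀ x : ↥(R ⊔ centralizerIn S R), (x : Ω) ∈ R ⊔ centralizerIn S Q → π (γ x) = π x := by
    intro x hx
    have hle : R ⊔ centralizerIn S Q ≤ (MonoidHom.eqLocus (π.comp γ.toMonoidHom) π).map
        (R ⊔ centralizerIn S R).subtype := sup_le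
      (fun y hy => ⟨⟨y, Subgroup.mem_sup_left hy⟩, by
        show π (γ _) = π _
        rw [(hMk _).2 (hγR _ hy), (hMk _).2 hy], rfl⟩)
      (fun y hy => ⟨⟨y, Subgroup.mem_sup_right (hcQR hy)⟩,
        (QuotientGroup.eq.2 (Subgroup.mem_subgroupOf.2 (hγQ _ hy))).symm, rfl⟩)
    obtain ⟨y, hy, hyx⟩ := hle hx
    exact (Subtype.ext hyx : y = x) ▸ hy
  set u : ↥(R ⊔ centralizerIn S R) := w⁻¹ * γ w with hu
  have huM : (u : Ω) ∈ R ⊔ centralizerIn S Q := hγC w hw
  have hiter : ∀ i : ℕ, π ((γ ^ i) w) = π w * π u ^ i := by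
    intro i
    induction i with
    | zero => simp
    | succ i ih =>
      have h2 : π (((w * u ^ i)⁻¹ * (γ ^ i) w)) = 1 := by
        rw [map_mul, map_inv, map_mul, map_pow, ih, inv_mul_cancel]
      have h3 := hγR _ ((hMk _).1 h2)
      rw [pow_succ', MulAut.mul_apply, ← mul_inv_cancel_left (w * u ^ i) ((γ ^ i) w), map_mul,
        map_mul, (hMk _).2 h3, mul_one, map_mul, map_pow, map_mul, map_pow, hfix u huM, pow_succ',
        ← mul_assoc, show π (γ w) = π w * π u by rw [hu, map_mul, map_inv, mul_inv_cancel_left]]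
  have h4 := hiter (orderOf γ)
  rw [pow_orderOf_eq_one, MulAut.one_apply, left_eq_mul] at h4
  obtain ⟨k, hk⟩ := IsPGroup.iff_orderOf.1 ((hS.to_le hW).to_quotient M) (π u)
  have h5 : orderOf (π u) = 1 := Nat.eq_one_of_dvd_coprimes (hj.pow_right k)
    (orderOf_dvd_of_pow_eq_one h4) (dvd_of_eq hk)
  exact (hMk u).1 (orderOf_eq_one_iff.1 h5)

/-- **Good lifts exist** for every centric subgroup fully normalized in `F`. -/
theorem exists_goodLift (hS : IsPGroup p S) (hF : F.IsSaturated p) (hE : E.IsNormalIn F p)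
    (hRT : R ≤ T) (hRn : F.IsFullyNormalized R) (hcen : centralizerIn T R ≤ R) {a : MulAut R}
    (ha : a ∈ E.autGroup R) : ∃ γ, IsGoodLift F R a γ := by
  classical
  obtain ⟨⟨hEs, -, hinv⟩, hext⟩ := id hE
  have hsc := hinv.2.1
  have hTS : T ≤ S := hsc.1
  haveI := finite_of_le hTS
  have hTp : IsPGroup p T := hS.to_le hTS
  induction hn : Nat.card T - Nat.card R using Nat.strong_induction_on generalizing R with
  | _ n ih =>
  by_cases hRT' : R = T
  · subst hRT'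
    obtain ⟨β, hβ, hβT, hβC⟩ := hext a ha
    exact ⟨β, hβ, fun r => hβT r, fun w hw => (hβC w hw).1⟩
  have hRS : R ≤ S := hRT.trans hTS
  haveI := finite_of_le hRS
  have hWS : R ⊔ centralizerIn S R ≤ S := sup_le hRS (centralizerIn_le S R)
  haveI := finite_of_le hWS
  have hRE := fullyNormalized_of_le hS hF hinv hRT hRn
  obtain ⟨⟨-, P, hP⟩, hEr⟩ := automized_receptive hTp hEs hRE
  have hFr := (automized_receptive hS hF hRn).2
  have hRc := isFullyCentralized_of_receptive hFr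
  have hRC : E.IsCentric R :=
    isCentric_of_fullyCentralized hTp hEs (fullyCentralized_of_normalized hTp hEs hRE) hcen
  let Bim : Subgroup (E.autGroup R) :=
    { carrier := {b | ∃ γ, IsGoodLift F R b γ}
      one_mem' := ⟨1, IsGoodLift.one⟩
      mul_mem' := fun {b c} ⟨γ, h1⟩ ⟨δ, h2⟩ => ⟨γ * δ, h1.mul hRS h2⟩
      inv_mem' := fun {b} ⟨γ, h1⟩ => by
        have e : b⁻¹ = b ^ (orderOf b - 1) := inv_eq_of_mul_eq_one_right (by
          rw [← pow_succ', Nat.sub_add_cancel (orderOf_pos b), pow_orderOf_eq_one])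
        rw [e]
        exact ⟨γ ^ _, by rw [SubgroupClass.coe_pow]; exact h1.pow hRS _⟩ }
  suffices h : Bim = ⊤ by
    have h1 : (⟨a, ha⟩ : E.autGroup R) ∈ Bim := h ▸ Subgroup.mem_top _
    exact h1
  haveI hBn : Bim.Normal := ⟨fun b hb d => by
    obtain ⟨γ, hγ, hγR, hγC⟩ := hb
    obtain ⟨δ, hδ, hδv, hδR⟩ := exists_lift hFr
      ((mem_autGroup_iff hRS).2 (hinv.1 R ((mem_autGroup_iff hRT).1 d.2)))
    have hδi : ∀ z : ↥(R ⊔ centralizerIn S R), (z : Ω) ∈ R →
        ((δ⁻¹ z : ↥(R ⊔ centralizerIn S R)) : Ω) ∈ R := fun z hz => by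
      obtain ⟨q, hq⟩ := (d : MulAut R).surjective ⟨z, hz⟩
      have e : δ⁻¹ z = ⟨q, Subgroup.mem_sup_left q.2⟩ := by
        apply δ.injective
        rw [MulAut.apply_inv_self]
        exact Subtype.ext ((congrArg Subtype.val hq).symm.trans (hδv q).symm)
      rw [e]; exact q.2
    refine ⟨δ * γ * δ⁻¹, mul_mem (mul_mem hδ hγ) (inv_mem hδ), fun r => ?_, fun w hw => ?_⟩
    · have e : δ⁻¹ ⟨r, Subgroup.mem_sup_left r.2⟩ =
          ⟨((d : MulAut R)⁻¹ r : Ω), Subgroup.mem_sup_left ((d : MulAut R)⁻¹ r).2⟩ := by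
        apply δ.injective
        rw [MulAut.apply_inv_self]
        exact Subtype.ext (by rw [hδv, MulAut.apply_inv_self])
      rw [MulAut.mul_apply, MulAut.mul_apply, e]
      have e2 : γ ⟨((d : MulAut R)⁻¹ r : Ω), Subgroup.mem_sup_left ((d : MulAut R)⁻¹ r).2⟩ =
          ⟨((b : MulAut R) ((d : MulAut R)⁻¹ r) : Ω), Subgroup.mem_sup_left (Subtype.mem _)⟩ :=
        Subtype.ext (hγR _)
      rw [e2, hδv]
      rfl
    · have h2 := hδR ((δ⁻¹ w : ↥(R ⊔ centralizerIn S R))⁻¹ * γ (δ⁻¹ w))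
        (hγC _ (apply_mem_centralizerIn hRS hδi w hw))
      rw [map_mul, map_inv, MulAut.apply_inv_self] at h2
      rw [MulAut.mul_apply, MulAut.mul_apply]
      exact h2⟩
  -- the Sylow subgroup
  have hPB : (P : Subgroup (E.autGroup R)) ≤ Bim := fun b hb => by
    rw [hP] at hb
    obtain ⟨t, ht, htN, hv⟩ := mem_autInducedBy_iff.1 (Subgroup.mem_subgroupOf.1 hb)
    have htS : t ∈ S := hTS ht
    have hC : ∀ c ∈ centralizerIn S R, t * c * t⁻¹ ∈ centralizerIn S R := by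
      intro c hc
      refine mem_centralizerIn.2 ⟨S.mul_mem (S.mul_mem htS hc.1) (S.inv_mem htS), fun r hr => ?_⟩
      have h1 := (mem_centralizerIn.1 hc).2 _ ((Subgroup.mem_normalizer_iff''.1 htN r).1 hr)
      calc r * (t * c * t⁻¹) = t * ((t⁻¹ * r * t) * c) * t⁻¹ := by group
        _ = t * (c * (t⁻¹ * r * t)) * t⁻¹ := by rw [h1]
        _ = t * c * t⁻¹ * r := by group
    have hWn : t ∈ Subgroup.normalizer (↑(R ⊔ centralizerIn S R) : Set Ω) :=
      Subgroup.mem_normalizer_fintype fun w hw =>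
        forall_mem_sup (conjHom (R ⊔ centralizerIn S R) t) le_sup_left le_sup_right
          (fun y hy => Subgroup.mem_sup_left ((Subgroup.mem_normalizer_iff.1 htN y).1 hy))
          (fun y hy => Subgroup.mem_sup_right (hC y hy)) hw hw
    refine ⟨(R ⊔ centralizerIn S R).normalizerMonoidHom ⟨t, hWn⟩,
      autInducedBy_le_autGroup hWS (le_autInducedBy_apply (K := S) ⟨t, htS⟩ hWn),
      fun r => (hv r).symm, fun w hw => ?_⟩
    refine hcen (mem_centralizerIn.2 ⟨?_, fun r hr => ?_⟩)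
    · show (w : Ω)⁻¹ * (t * (w : Ω) * t⁻¹) ∈ T
      rw [← mul_assoc, ← mul_assoc]
      refine T.mul_mem ?_ (T.inv_mem ht)
      exact (Subgroup.mem_normalizer_iff''.1 (stronglyClosed_le_normalizer hsc hw.1) t).1 ht
    · exact (mem_centralizerIn.1 ((centralizerIn S R).mul_mem ((centralizerIn S R).inv_mem hw)
        (hC w hw))).2 r hr
  refine top_le_iff.1 ((Sylow.normalizer_sup_eq_top' P hPB).ge.trans (sup_le ?_ le_rfl))
  -- the normalizer of the Sylow subgroup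
  set N := Subgroup.normalizer (↑(P : Subgroup (E.autGroup R)) : Set (E.autGroup R)) with hN
  suffices hk : Bim.subgroupOf N = ⊤ from fun b hb => by
    have h1 : (⟨b, hb⟩ : N) ∈ Bim.subgroupOf N := hk ▸ Subgroup.mem_top _
    exact h1
  refine eq_top_of_sylow_le (p := p) (P.subtype Subgroup.le_normalizer) ?_ fun b hb => ?_
  · rw [Sylow.coe_subtype]
    exact fun z hz => Subgroup.mem_subgroupOf.2 (hPB (Subgroup.mem_subgroupOf.1 hz))
  set a₀ : MulAut R := ((b : E.autGroup R) : MulAut R) with ha₀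
  have ha₀E : a₀ ∈ E.autGroup R := (b : E.autGroup R).2
  have ha₀p : (orderOf a₀).Coprime p := by
    rwa [ha₀, orderOf_submonoid, orderOf_submonoid]
  have hb2 : (b : E.autGroup R) ∈ N := b.2
  -- `a₀` extends to `N_T(R)`
  set Q := normalizerIn T R with hQ
  have hRQ : R ≤ Q := le_normalizerIn hRT
  have hQT : Q ≤ T := normalizerIn_le T R
  have hQS : Q ≤ S := hQT.trans hTS
  haveI := finite_of_le hQS
  have hQe : Q ≤ extender T R (R.subtype.comp a₀.toMonoidHom) := by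
    intro t ht
    refine mem_extender_of_congr ht (α := R.normalizerMonoidHom ⟨t, ht.2⟩) (fun _ => rfl) ?_
    rw [congr_self_eq]
    have ht' : (⟨(R.normalizerMonoidHom ⟨t, ht.2⟩ : MulAut R), autInducedBy_le_autGroup hRT
        (le_autInducedBy_apply (K := T) ⟨t, ht.1⟩ ht.2)⟩ : E.autGroup R) ∈
        (P : Subgroup (E.autGroup R)) := by
      rw [hP]
      exact le_autInducedBy_apply (K := T) ⟨t, ht.1⟩ ht.2
    exact Subgroup.mem_subgroupOf.1 ((le_of_eq hP) ((Subgroup.mem_normalizer_iff.1 hb2 _).1 ht'))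
  obtain ⟨ψ, hψ, hψv⟩ := exists_extension hEr ((mem_autGroup_iff hRT).1 ha₀E) hQe
  have hψa : ∀ r : R, ψ ⟨r, hRQ r.2⟩ = (a₀ r : Ω) := fun r => hψv r (hRQ r.2)
  have himR : imgHom ψ R = R := imgHom_eq_of_forall hRQ (α := a₀) hψa
  obtain ⟨ν, hν, hνv⟩ := exists_aut_restrict hψ le_rfl fun x hx => by
    refine ⟨apply_mem hψ _, ?_⟩
    have := map_mem_normalizer hRQ (ψ := ψ) (g := ⟨x, hx⟩) hx.2
    rwa [himR] at this
  have hνa : ∀ r : R, (ν ⟨r, hRQ r.2⟩ : Ω) = a₀ r := fun r => (hνv _).trans (hψa r)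
  -- transport to a fully normalized subgroup
  obtain ⟨Q₃, hQQ₃, hQ₃n⟩ := exists_fullyNormalized (F := F) hQS
  obtain ⟨hQ₃a, hQ₃r⟩ := automized_receptive hS hF hQ₃n
  obtain ⟨η, hη, hηN, hηQ⟩ := exists_map_normalizerIn hS hQ₃a hQ₃r hQQ₃
  have hCQ : centralizerIn S R ≤ normalizerIn S Q := fun d hd => ⟨hd.1,
    Subgroup.mem_normalizer_fintype fun x hx => by
      refine ⟨(Subgroup.mem_normalizer_iff.1 (stronglyClosed_le_normalizer hsc hd.1) x).1 hx.1, ?_⟩
      have hdR : d ∈ Subgroup.normalizer (R : Set Ω) := (centralizerIn_le_normalizerIn S R hd).2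
      exact Subgroup.mul_mem _ (Subgroup.mul_mem _ hdR hx.2) (Subgroup.inv_mem _ hdR)⟩
  have hQN : Q ≤ normalizerIn S Q := le_normalizerIn hQS
  have hXN : R ⊔ centralizerIn S R ≤ normalizerIn S Q := sup_le (hRQ.trans hQN) hCQ
  have hRN : R ≤ normalizerIn S Q := hRQ.trans hQN
  set R₃ := imgHom η R with hR₃
  have hR₃Q : R₃ ≤ Q₃ := by rw [hR₃, ← hηQ]; exact imgHom_mono _ hRQ
  have hQ₃T : Q₃ ≤ T := by
    rw [← hηQ]; rintro _ ⟨x, hx, rfl⟩; exact stronglyClosed_apply hsc hη (hQT hx)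
  have hconjR : F.IsConj R R₃ := isConj_restrict hη hRN
  have hR₃S : R₃ ≤ S := hR₃Q.trans (hQ₃T.trans hTS)
  haveI := finite_of_le (centralizerIn_le S R₃)
  have hCimg : imgHom η (centralizerIn S R) ≤ centralizerIn S R₃ := by
    rintro _ ⟨c, hc, rfl⟩
    refine mem_centralizerIn.2 ⟨apply_mem hη c, ?_⟩
    rintro _ ⟨r, hr, rfl⟩
    rw [← map_mul, ← map_mul]
    exact congrArg η (Subtype.ext ((mem_centralizerIn.1 hc).2 r hr))
  have hCimg' : imgHom η (centralizerIn S R) = centralizerIn S R₃ := by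
    refine Subgroup.eq_of_le_of_card_ge hCimg ?_
    rw [card_imgHom (F.injective_of_mem hη) hCQ]
    exact hRc.2 _ hconjR
  have hR₃c : F.IsFullyCentralized R₃ := ⟨hR₃S, fun X hX => by
    rw [← hCimg', card_imgHom (F.injective_of_mem hη) hCQ]
    exact hRc.2 X (isConj_trans hconjR hX)⟩
  have hR₃C : E.IsCentric R₃ := isCentric_of_F_isConj hinv hRC hconjR (hR₃Q.trans hQ₃T)
  have hCQ₃ : centralizerIn S R₃ ≤ Subgroup.normalizer (Q₃ : Set Ω) := by
    rw [← hCimg']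
    rintro _ ⟨c, hc, rfl⟩
    exact (hηN c).2
  obtain ⟨eQ, heQ, heQv⟩ := exists_iso (Fusion.restrict_mem hη hQN)
    ((range_restrictHom η hQN).trans hηQ)
  obtain ⟨eR, heR, heRv⟩ := exists_iso_restrict hη hRN
  obtain ⟨eX, heX, heXv⟩ := exists_iso (Fusion.restrict_mem hη hXN)
    (Q := R₃ ⊔ centralizerIn S R₃) (by
      rw [range_restrictHom, imgHom_sup η hRN hCQ, hCimg'])
  have hν₃ := congr_mem_of_invariant (strongInvariant_of_invariant hinv) hQT hQ₃T heQ hν
  have hνa₃ : ∀ r : R₃, (MulAut.congr eQ ν ⟨r, hR₃Q r.2⟩ : Ω) = MulAut.congr eR a₀ r := by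
    intro r
    obtain ⟨v, rfl⟩ := eR.surjective r
    rw [congr_apply, show (⟨(eR v : Ω), hR₃Q (eR v).2⟩ : Q₃) = eQ ⟨v, hRQ v.2⟩ from
      Subtype.ext ((heRv v).trans (heQv ⟨v, hRQ v.2⟩).symm), congr_apply, heQv, heRv]
    exact congrArg η (Subtype.ext (hνa v))
  have hcard : Nat.card R < Nat.card Q₃ := by
    rw [← card_eq_of_isConj hQQ₃]
    exact Set.Finite.card_lt_card (Set.toFinite _) (lt_normalizerIn hTp (lt_of_le_of_ne hRT hRT'))
  obtain ⟨ω, hω⟩ := ih (Nat.card T - Nat.card Q₃)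
    (by have := Subgroup.card_le_of_le hQ₃T; omega) hQ₃T hQ₃n
    ((centralizerIn_anti hR₃Q).trans ((centralizerIn_le_of_centric hR₃C).trans hR₃Q)) hν₃ rfl
  obtain ⟨γ₃, hγ₃, hγ₃R, hγ₃C⟩ := exists_goodLift_of_extension hS hF hE hR₃c hR₃C hR₃Q hQ₃T hQ₃n
    hCQ₃ hν₃ hνa₃ (by rwa [MulEquiv.orderOf_eq]) hω
  refine ⟨MulAut.congr eX.symm γ₃, congr_mem_autGroup heX.symm hγ₃, fun r => ?_, fun w hw => ?_⟩
  · have e : γ₃ (eX ⟨r, Subgroup.mem_sup_left r.2⟩) =
        eX ⟨(a₀ r : Ω), Subgroup.mem_sup_left (a₀ r).2⟩ := by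
      refine Subtype.ext ?_
      rw [show eX ⟨(r : Ω), Subgroup.mem_sup_left r.2⟩ =
          ⟨(eR r : Ω), Subgroup.mem_sup_left (eR r).2⟩ from
          Subtype.ext ((heXv _).trans (heRv r).symm), hγ₃R (eR r), congr_apply, heRv, heXv]
      rfl
    show (eX.symm (γ₃ (eX ⟨r, _⟩)) : Ω) = a₀ r
    rw [e, MulEquiv.symm_apply_apply]
  · set v := eX w with hv
    have hvC : (v : Ω) ∈ centralizerIn S R₃ := by
      rw [hv, heXv]
      exact hCimg'.le ⟨_, hw, rfl⟩
    obtain ⟨r, hr, hrv⟩ := hγ₃C v hvC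
    show (w : Ω)⁻¹ * (eX.symm (γ₃ v) : Ω) ∈ R
    have e : eX.symm (γ₃ v) = w * ⟨r, Subgroup.mem_sup_left hr⟩ := by
      rw [MulEquiv.symm_apply_eq, map_mul, ← hv]
      refine Subtype.ext ?_
      rw [Subgroup.coe_mul, heXv ⟨r, Subgroup.mem_sup_left hr⟩]
      show _ = (v : Ω) * η r
      rw [hrv, mul_inv_cancel_left]
    rw [e, Subgroup.coe_mul, inv_mul_cancel_left]
    exact hr

end CfsgLib.FusionNormal
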