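import Cfsg.Agent.PLocal.GlaubermanZJ
import Cfsg.Prelude.Def_PLocal

/-!
A weight on the subgroups of a finite group built from the largest order of an abelian subgroup, the
order of the Thompson subgroup, and the order; and a quadratically acting abelian subgroup of largest
order.
-/

set_option autoImplicit false

universe u

namespace CfsgLib.FusionNormal

open Cfsg CfsgLib.PLocal

variable {Ω : Type u} [Group Ω] {P Q : Subgroup Ω} {p : ℕ}

/-- The largest order of an abelian subgroup. -/
noncomputable def abRank (P : Subgroup Ω) : ℕ :=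
  sSup {n | ∃ A : Subgroup P, IsMulCommutative A ∧ Nat.card A = n}

theorem abRank_bdd (P : Subgroup Ω) [Finite P] :
    BddAbove {n | ∃ A : Subgroup P, IsMulCommutative A ∧ Nat.card A = n} :=
  ⟨Nat.card P, by rintro _ ⟨A, -, rfl⟩; exact Subgroup.card_le_card_group A⟩

theorem card_le_abRank [Finite P] {A : Subgroup Ω} (hAP : A ≤ P) (hA : IsMulCommutative A) :
    Nat.card A ≤ abRank P :=
  le_csSup (abRank_bdd P) ⟨A.subgroupOf P,
    isMulCommutative_of_map P.subtype_injective (by
      rwa [Subgroup.subgroupOf_map_subtype, inf_eq_left.2 hAP]),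
    Nat.card_congr (Subgroup.subgroupOfEquivOfLe hAP).toEquiv⟩

theorem exists_card_eq_abRank (P : Subgroup Ω) [Finite P] :
    ∃ A : Subgroup Ω, A ≤ P ∧ IsMulCommutative A ∧ Nat.card A = abRank P := by
  obtain ⟨A, hA, hAc⟩ := Nat.sSup_mem
    (s := {n | ∃ A : Subgroup P, IsMulCommutative A ∧ Nat.card A = n})
    ⟨_, ⊥, (isElementaryAbelian_bot (p := 1)).1, rfl⟩ (abRank_bdd P)
  exact ⟨A.map P.subtype, Subgroup.map_subtype_le A, isMulCommutative_map hA _,
    (Subgroup.card_map_of_injective P.subtype_injective).trans hAc⟩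

theorem mem_maxAbIn_iff [Finite P] {A : Subgroup Ω} :
    A ∈ maxAbIn P ↔ A ≤ P ∧ IsMulCommutative A ∧ Nat.card A = abRank P := by
  refine ⟨fun ⟨h1, h2, h3⟩ => ⟨h1, h2, le_antisymm (card_le_abRank h1 h2) ?_⟩, fun ⟨h1, h2, h3⟩ =>
    ⟨h1, h2, fun B hB hBc => h3 ▸ card_le_abRank hB hBc⟩⟩
  obtain ⟨B, hB, hBc, hB'⟩ := exists_card_eq_abRank P
  exact hB' ▸ h3 B hB hBc

theorem abRank_mono [Finite Q] (h : P ≤ Q) : abRank P ≤ abRank Q := by
  haveI : Finite P := Finite.of_injective _ (Subgroup.inclusion_injective h)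
  obtain ⟨A, hA, hAc, hA'⟩ := exists_card_eq_abRank P
  exact hA' ▸ card_le_abRank (hA.trans h) hAc

theorem thompson_le_of_abRank_eq [Finite Q] (h : P ≤ Q) (he : abRank P = abRank Q) :
    thompsonSubgroupAOf P ≤ thompsonSubgroupAOf Q := by
  haveI : Finite P := Finite.of_injective _ (Subgroup.inclusion_injective h)
  rw [thompsonSubgroupAOf_eq, thompsonSubgroupAOf_eq]
  refine sSup_le_sSup fun A hA => ?_
  obtain ⟨h1, h2, h3⟩ := mem_maxAbIn_iff.1 hA
  exact mem_maxAbIn_iff.2 ⟨h1.trans h, h2, h3.trans he⟩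

/-- The first part of the weight. -/
noncomputable def abWeight (N : ℕ) (P : Subgroup Ω) : ℕ :=
  abRank P * (N + 1) + Nat.card (thompsonSubgroupAOf P)

theorem card_thompson_le [Finite Q] {N : ℕ} (hN : Nat.card Q ≤ N) :
    Nat.card (thompsonSubgroupAOf Q) ≤ N :=
  (Subgroup.card_le_of_le (thompsonSubgroupAOf_le Q)).trans hN

theorem abWeight_mono [Finite Q] (h : P ≤ Q) {N : ℕ} (hN : Nat.card Q ≤ N) :
    abWeight N P ≤ abWeight N Q := by
  haveI : Finite P := Finite.of_injective _ (Subgroup.inclusion_injective h)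
  rcases (abRank_mono h).lt_or_eq with hlt | he
  · have h1 := card_thompson_le ((Subgroup.card_le_of_le h).trans hN)
    have h2 : (abRank P + 1) * (N + 1) ≤ abRank Q * (N + 1) := Nat.mul_le_mul_right _ hlt
    rw [Nat.add_mul, Nat.one_mul] at h2
    unfold abWeight; omega
  · haveI : Finite (thompsonSubgroupAOf Q) :=
      Finite.of_injective _ (Subgroup.inclusion_injective (thompsonSubgroupAOf_le Q))
    have h1 := Subgroup.card_le_of_le (thompson_le_of_abRank_eq h he)
    unfold abWeight; rw [he]; omega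

/-- The weight increases when an abelian subgroup of largest order leaves `P`. -/
theorem abWeight_lt [Finite Q] (h : P ≤ Q) {N : ℕ} (hN : Nat.card Q ≤ N)
    (hP : abRank P < abRank Q ∨ ¬ thompsonSubgroupAOf Q ≤ P) : abWeight N P < abWeight N Q := by
  haveI : Finite P := Finite.of_injective _ (Subgroup.inclusion_injective h)
  rcases (abRank_mono h).lt_or_eq with hlt | he
  · have h1 := card_thompson_le ((Subgroup.card_le_of_le h).trans hN)
    have h2 : (abRank P + 1) * (N + 1) ≤ abRank Q * (N + 1) := Nat.mul_le_mul_right _ hlt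
    rw [Nat.add_mul, Nat.one_mul] at h2
    unfold abWeight; omega
  · have hne : thompsonSubgroupAOf P ≠ thompsonSubgroupAOf Q := fun e =>
      (hP.resolve_left (by omega)) (e ▸ thompsonSubgroupAOf_le P)
    haveI : Finite (thompsonSubgroupAOf Q) :=
      Finite.of_injective _ (Subgroup.inclusion_injective (thompsonSubgroupAOf_le Q))
    have h1 : Nat.card (thompsonSubgroupAOf P) < Nat.card (thompsonSubgroupAOf Q) :=
      Set.Finite.card_lt_card (Set.toFinite _) (SetLike.coe_ssubset_coe.2
        (lt_of_le_of_ne (thompson_le_of_abRank_eq h he) hne))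
    unfold abWeight; rw [he]; omega

theorem abRank_eq_of_equiv (e : P ≃* Q) : abRank P = abRank Q := by
  unfold abRank
  congr 1
  ext n
  constructor
  · rintro ⟨A, hA, rfl⟩
    exact ⟨A.map e.toMonoidHom, isMulCommutative_map hA _,
      Subgroup.card_map_of_injective e.injective⟩
  · rintro ⟨A, hA, rfl⟩
    exact ⟨A.map e.symm.toMonoidHom, isMulCommutative_map hA _,
      Subgroup.card_map_of_injective e.symm.injective⟩

theorem map_thompsonSubgroupA_equiv (e : P ≃* Q) :
    (thompsonSubgroupA P).map e.toMonoidHom = thompsonSubgroupA Q := by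
  rw [thompsonSubgroupA, (Subgroup.gc_map_comap e.toMonoidHom).l_sSup, thompsonSubgroupA,
    maxAb_eq_maxAbIn_top, maxAb_eq_maxAbIn_top, ← sSup_image, ← map_maxAbIn e.injective,
    ← MonoidHom.range_eq_map, MonoidHom.range_eq_top.2 e.surjective]

theorem abWeight_eq_of_equiv {N : ℕ} (e : P ≃* Q) : abWeight N P = abWeight N Q := by
  unfold abWeight
  rw [abRank_eq_of_equiv e]
  congr 1
  rw [thompsonSubgroupAOf, thompsonSubgroupAOf,
    Subgroup.card_map_of_injective P.subtype_injective,
    Subgroup.card_map_of_injective Q.subtype_injective, ← map_thompsonSubgroupA_equiv e]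
  exact (Subgroup.card_map_of_injective (f := e.toMonoidHom) e.injective).symm

theorem thompson_eq_iff : thompsonSubgroupAOf P = P ↔ thompsonSubgroupA P = ⊤ := by
  constructor
  · intro h
    refine Subgroup.map_injective P.subtype_injective ?_
    rw [← MonoidHom.range_eq_map, Subgroup.range_subtype]
    exact h
  · intro h
    rw [thompsonSubgroupAOf, h, ← MonoidHom.range_eq_map, Subgroup.range_subtype]

theorem thompson_eq_iff_of_equiv (e : P ≃* Q) :
    thompsonSubgroupAOf P = P ↔ thompsonSubgroupAOf Q = Q := by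
  rw [thompson_eq_iff, thompson_eq_iff, ← map_thompsonSubgroupA_equiv e]
  refine ⟨fun h => ?_, fun h => ?_⟩
  · rw [h, ← MonoidHom.range_eq_map, MonoidHom.range_eq_top.2 e.surjective]
  · exact Subgroup.map_injective (f := e.toMonoidHom) e.injective (h.trans (by
      rw [← MonoidHom.range_eq_map, MonoidHom.range_eq_top.2 e.surjective]))

open Classical in
/-- The weight: first `abWeight`, then whether `P = J(P)`, then the order. -/
noncomputable def weight (N : ℕ) (P : Subgroup Ω) : ℕ :=
  (abWeight N P * 2 + if thompsonSubgroupAOf P = P then 1 else 0) * (N + 1) + Nat.card P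

theorem weight_eq_of_equiv {N : ℕ} (e : P ≃* Q) : weight N P = weight N Q := by
  classical
  unfold weight
  rw [abWeight_eq_of_equiv e, if_congr (thompson_eq_iff_of_equiv e) rfl rfl,
    Nat.card_congr e.toEquiv]

theorem weight_lt_of_abWeight_lt {N : ℕ} (hP : Nat.card P ≤ N) (h : abWeight N P < abWeight N Q) :
    weight N P < weight N Q := by
  unfold weight
  split_ifs <;> nlinarith

theorem weight_lt_of_lt [Finite Q] (h : P < Q) {N : ℕ} (hN : Nat.card Q ≤ N)
    (hJ : thompsonSubgroupAOf P ≠ P ∨ abWeight N P < abWeight N Q) :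
    weight N P < weight N Q := by
  have hlt : Nat.card P < Nat.card Q := Set.Finite.card_lt_card (Set.toFinite _) h
  rcases (abWeight_mono h.le hN).lt_or_eq with hw | he
  · exact weight_lt_of_abWeight_lt (hlt.le.trans hN) hw
  · unfold weight
    rw [if_neg (hJ.resolve_right (by omega)), he]
    split_ifs <;> nlinarith

/-- `J(P)` has larger weight than `P`, unless they are equal. -/
theorem weight_thompson [Finite P] {N : ℕ} (hN : Nat.card P ≤ N) (hne : thompsonSubgroupAOf P ≠ P) :
    weight N P < weight N (thompsonSubgroupAOf P) := by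
  set K := thompsonSubgroupAOf P with hK
  have hKP : K ≤ P := thompsonSubgroupAOf_le P
  haveI : Finite K := Finite.of_injective _ (Subgroup.inclusion_injective hKP)
  obtain ⟨A, hA, hAc, hA'⟩ := exists_card_eq_abRank P
  have hrank : abRank K = abRank P := le_antisymm (abRank_mono hKP) (hA' ▸ card_le_abRank
    (le_thompsonSubgroupAOf (mem_maxAbIn_iff.2 ⟨hA, hAc, hA'⟩)) hAc)
  have hJK : thompsonSubgroupAOf K = K := by
    refine le_antisymm (thompsonSubgroupAOf_le K) ?_
    conv_lhs => rw [hK, thompsonSubgroupAOf_eq]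
    refine sSup_le fun B hB => ?_
    obtain ⟨h1, h2, h3⟩ := mem_maxAbIn_iff.1 hB
    exact le_thompsonSubgroupAOf (mem_maxAbIn_iff.2
      ⟨le_thompsonSubgroupAOf hB, h2, h3.trans hrank.symm⟩)
  have hab : abWeight N K = abWeight N P := by
    unfold abWeight; rw [hrank, hJK]
  unfold weight
  rw [if_pos hJK, if_neg hne, hab]
  nlinarith

/-- **An abelian subgroup of largest order acting quadratically on an abelian normal subgroup.** -/
theorem exists_quadratic_maxAb [Finite P] [Fact p.Prime] (hP : IsPGroup p P) {R V : Subgroup Ω}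
    (hVP : V ≤ P) (hPV : P ≤ Subgroup.normalizer (V : Set Ω)) (hV : IsMulCommutative V)
    (hVR : R ≤ Subgroup.centralizer (V : Set Ω)) (hJ : ¬ thompsonSubgroupAOf P ≤ R) :
    ∃ B ∈ maxAbIn P, ¬ B ≤ R ∧ ∀ b ∈ B, ∀ v ∈ V, Commute b (b * v * b⁻¹ * v⁻¹) := by
  classical
  rw [thompsonSubgroupAOf_eq, sSup_le_iff] at hJ
  push Not at hJ
  obtain ⟨A, hA, hAR⟩ := hJ
  rcases em (∀ A ∈ maxAbIn P, A ≤ Subgroup.centralizer (V : Set Ω)) with hall | hsome
  · refine ⟨A, hA, hAR, fun b hb v hv => ?_⟩
    rw [← Subgroup.mem_centralizer_iff.1 (hall A hA hb) v hv, mul_inv_cancel_right, mul_inv_cancel]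
    exact Commute.one_right b
  push Not at hsome
  obtain ⟨A₁, hA₁, hA₁C⟩ := hsome
  -- work inside `P`
  set V' : Subgroup P := V.subgroupOf P with hV'
  haveI hV'n : V'.Normal := Subgroup.normal_subgroupOf_of_le_normalizer hPV
  have hV'c : IsMulCommutative V' := isMulCommutative_of_map P.subtype_injective (by
    rwa [hV', Subgroup.subgroupOf_map_subtype, inf_eq_left.2 hVP])
  have hcent : ∀ B : Subgroup P, B ≤ Subgroup.centralizer (V' : Set P) ↔
      B.map P.subtype ≤ Subgroup.centralizer (V : Set Ω) := by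
    intro B
    constructor
    · rintro h _ ⟨b, hb, rfl⟩
      exact Subgroup.mem_centralizer_iff.2 fun v hv =>
        congrArg Subtype.val (Subgroup.mem_centralizer_iff.1 (h hb) ⟨v, hVP hv⟩ hv)
    · intro h b hb
      exact Subgroup.mem_centralizer_iff.2 fun v hv => Subtype.ext
        (Subgroup.mem_centralizer_iff.1 (h ⟨b, hb, rfl⟩) (v : Ω) hv)
  obtain ⟨A₁', hA₁', rfl⟩ := (image_map_maxAb P).ge hA₁
  obtain ⟨B, ⟨hB, hBC⟩, hmax⟩ := Set.exists_max_image
    {B : Subgroup P | B ∈ maxAbelianSubgroups P ∧ ¬ B ≤ Subgroup.centralizer (V' : Set P)}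
    (fun B => Nat.card ↥(B ⊓ V')) (Set.toFinite _) ⟨A₁', hA₁', fun h => hA₁C ((hcent _).1 h)⟩
  have hBR : ¬ B.map P.subtype ≤ R := fun h => hBC ((hcent B).2 (h.trans hVR))
  have hBmem : B.map P.subtype ∈ maxAbIn P := (image_map_maxAb P).le ⟨B, hB, rfl⟩
  by_cases hVN : V' ≤ Subgroup.normalizer (B : Set P)
  · refine ⟨_, hBmem, hBR, ?_⟩
    rintro _ ⟨b, hb, rfl⟩ v hv
    have h1 : (⟨v, hVP hv⟩ : P) * b⁻¹ * (⟨v, hVP hv⟩ : P)⁻¹ ∈ B :=
      (Subgroup.mem_normalizer_iff.1 (hVN (show (⟨v, hVP hv⟩ : P) ∈ V' from hv)) _).1 (inv_mem hb)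
    have h2 : b * (⟨v, hVP hv⟩ : P) * b⁻¹ * (⟨v, hVP hv⟩ : P)⁻¹ ∈ B := by
      rw [mul_assoc, mul_assoc, ← mul_assoc (⟨v, hVP hv⟩ : P)]
      exact mul_mem hb h1
    exact congrArg (fun z : P => (z : Ω)) (congrArg Subtype.val (hB.1.is_comm.comm ⟨b, hb⟩ ⟨_, h2⟩))
  · exfalso
    obtain ⟨b, hb, hbN, hbA⟩ := exists_repl_element (P := (⊤ : Subgroup P)) (hP.to_subgroup ⊤)
      le_top (Subgroup.normalizer_eq_top V').ge hVN
    have hVV : ⁅V', V'⁆ = ⊥ := Subgroup.commutator_eq_bot_iff_le_centralizer.2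
      (Subgroup.le_centralizer_iff_isMulCommutative.2 hV'c)
    have h := replData_of_pGroup (fun _ => hV'c) (hP.to_subgroup ⊤) hB.1 le_top le_top
      (Subgroup.normalizer_eq_top V').ge (hVV.le.trans bot_le) hb hbN
    set B' := replStar B b with hB'
    have hB'mem : B' ∈ maxAbelianSubgroups P :=
      ⟨h.isMulCommutative_replStar, fun C hC => by rw [h.card_replStar]; exact hB.2 C hC⟩
    have hlt := h.inf_lt hbA
    have hVB : ¬ V' ≤ B' := fun hle => hVN (hle.trans h.replStar_le_normalizer)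
    have hB'C : ¬ B' ≤ Subgroup.centralizer (V' : Set P) := by
      intro hle
      apply hVB
      have hsup : IsMulCommutative ↥(B' ⊔ V') :=
        CfsgLib.PLocal.isMulCommutative_sup h.isMulCommutative_replStar hV'c (fun x hx => hle hx)
      have heq : B' = B' ⊔ V' := Subgroup.eq_of_le_of_card_ge le_sup_left (hB'mem.2 _ hsup)
      exact heq ▸ le_sup_right
    have hcard := hmax B' ⟨hB'mem, hB'C⟩
    exact absurd (Subgroup.eq_of_le_of_card_ge hlt.le hcard) hlt.ne

end CfsgLib.FusionNormal
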