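import Mathlib

/-!
For odd `p`, a cocycle with values in an abelian `p`-group which vanishes on the normalizer of the
subgroup generated by the quadratically acting elements of a Sylow subgroup vanishes; a cocycle
which vanishes on a Sylow subgroup is a coboundary.
-/

set_option autoImplicit false

namespace CfsgLib.FusionNormal

open MulAction

variable {G : Type*} [Group G] {V : Type*} [CommGroup V] [MulDistribMulAction G V] {p : ℕ}

/-- `a` acts on `V` with `[V, a, a] = 1`. -/
def IsQuadraticOn (V : Type*) [CommGroup V] [MulDistribMulAction G V] (a : G) : Prop :=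
  ∀ v : V, a • ((a • v) / v) = (a • v) / v

theorem isQuadraticOn_conj {a : G} (h : IsQuadraticOn V a) (g : G) :
    IsQuadraticOn V (g * a * g⁻¹) := fun v => by
  have h1 := congrArg (g • ·) (h (g⁻¹ • v))
  simpa only [mul_smul, smul_div', smul_inv_smul, inv_smul_smul] using h1

theorem quadratic_smul_pow {a : G} (h : IsQuadraticOn V a) (v : V) (n : ℕ) :
    a ^ n • v = v * ((a • v) / v) ^ n := by
  induction n with
  | zero => simp
  | succ n ih =>
    rw [pow_succ', mul_smul, ih, smul_mul', smul_pow', h v, pow_succ', ← mul_assoc,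
      mul_div_cancel]

/-- A power prime to the exponent can be undone. -/
theorem mem_of_pow_mem_coprime [Fact p.Prime] (hV : IsPGroup p V) {W : Subgroup V} {n : ℕ}
    (hn : ¬ p ∣ n) {v : V} (h : v ^ n ∈ W) : v ∈ W := by
  obtain ⟨j, hj⟩ := IsPGroup.iff_orderOf.1 hV v
  obtain ⟨i, hi⟩ := exists_pow_eq_self_of_coprime (x := v) (n := n) (by
    rw [hj]; exact (((Fact.out : p.Prime).coprime_iff_not_dvd.2 hn).symm).pow_right j)
  exact hi ▸ pow_mem h i

section Cosets

variable {H : Subgroup G} {f : G → V} (hf : ∀ a b, f (a * b) = f a * a • f b)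

include hf

theorem cocycle_one : f 1 = 1 := by simpa using hf 1 1

/-- A cocycle vanishing on `H` as a function on the cosets of `H`. -/
def cosetFun (hH : ∀ h ∈ H, f h = 1) : G ⧸ H → V :=
  Quotient.lift f fun a b hab => by
    have h1 := hf a (a⁻¹ * b)
    rw [mul_inv_cancel_left, hH _ (QuotientGroup.leftRel_apply.1 hab), smul_one, mul_one] at h1
    exact h1.symm

theorem cosetFun_smul (hH : ∀ h ∈ H, f h = 1) (a : G) (x : G ⧸ H) :
    cosetFun hf hH (a • x) = f a * a • cosetFun hf hH x := by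
  induction x using QuotientGroup.induction_on with
  | _ g => exact hf a g

variable [Finite G]

open Classical in
theorem prod_orbit_mem_powRange [Fact p.Prime] [Fintype (G ⧸ H)] (hp : p ≠ 2)
    (hH : ∀ h ∈ H, f h = 1) {k : ℕ}
    (hk : ∀ g, f g ∈ (powMonoidHom (p ^ k) : V →* V).range) {S : Subgroup G} (hS : IsPGroup p S)
    (hSH : S ≤ H) : ∀ M : Subgroup G, M ≤ S → ∀ x : G ⧸ H,
      (∃ q ∈ M, IsQuadraticOn V q ∧ q • x ≠ x) →
        ∏ y ∈ Finset.univ.filter (fun y => y ∈ orbit M x), cosetFun hf hH y ∈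
          (powMonoidHom (p ^ (k + 1)) : V →* V).range := by
  have heq : ∀ s ∈ S, ∀ y, cosetFun hf hH (s • y) = s • cosetFun hf hH y := fun s hs y => by
    rw [cosetFun_smul hf hH, hH s (hSH hs), one_mul]
  intro M
  induction hn : Nat.card M using Nat.strong_induction_on generalizing M with
  | _ n ih =>
  intro hMS x hx
  obtain ⟨q, hqM, hq, hqx⟩ := hx
  have hMp : IsPGroup p M := hS.to_le hMS
  obtain ⟨M₁, hM₁, hst⟩ : ∃ M₁ : Subgroup M, IsCoatom M₁ ∧ stabilizer M x ≤ M₁ :=
    (eq_top_or_exists_le_coatom (stabilizer M x)).resolve_left fun h =>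
      hqx ((h ▸ Subgroup.mem_top (⟨q, hqM⟩ : M) : (⟨q, hqM⟩ : M) ∈ stabilizer M x) :)
  haveI := hMp.isNilpotent
  haveI hM₁n : M₁.Normal := Subgroup.NormalizerCondition.normal_of_coatom M₁
    Group.normalizerCondition_of_isNilpotent hM₁
  set M₁' : Subgroup G := M₁.map M.subtype with hM₁'
  have hM₁S : M₁' ≤ S := (Subgroup.map_subtype_le M₁).trans hMS
  have hlt : Nat.card M₁' < n := by
    rw [← hn, hM₁', Subgroup.card_map_of_injective M.subtype_injective]
    exact lt_of_le_of_ne (Subgroup.card_le_card_group M₁)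
      (fun h => hM₁.1 (Subgroup.eq_top_of_card_eq _ h))
  -- the element moving the orbits of the maximal subgroup
  obtain ⟨a, haM₁, hcase⟩ : ∃ a : M, a ∉ M₁ ∧
      (IsQuadraticOn V (a : G) ∨ ∏ y ∈ Finset.univ.filter (fun y => y ∈ orbit M₁' x),
        cosetFun hf hH y ∈ (powMonoidHom (p ^ (k + 1)) : V →* V).range) := by
    by_cases hcase : ∃ r ∈ M₁', IsQuadraticOn V r ∧ r • x ≠ x
    · obtain ⟨a, ha⟩ : ∃ a : M, a ∉ M₁ := by
        by_contra h
        push Not at h
        exact hM₁.1 (eq_top_iff.2 fun z _ => h z)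
      exact ⟨a, ha, Or.inr (ih _ hlt M₁' rfl hM₁S x hcase)⟩
    · refine ⟨⟨q, hqM⟩, fun h => hcase ⟨q, ⟨⟨q, hqM⟩, h, rfl⟩, hq, hqx⟩, Or.inl hq⟩
  -- the order of `a` modulo the maximal subgroup
  set m := orderOf (QuotientGroup.mk a : M ⧸ M₁) with hm
  obtain ⟨j, hj⟩ : ∃ j, m = p ^ (j + 1) := by
    obtain ⟨j, hj⟩ := IsPGroup.iff_orderOf.1 (hMp.to_quotient M₁) (QuotientGroup.mk a)
    rcases j with _ | j
    · rw [pow_zero, orderOf_eq_one_iff, QuotientGroup.eq_one_iff] at hj
      exact absurd hj haM₁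
    · exact ⟨j, hj⟩
  have hpow : ∀ i : ℕ, a ^ i ∈ M₁ ↔ m ∣ i := fun i => by
    rw [hm, orderOf_dvd_iff_pow_eq_one, ← QuotientGroup.mk_pow, QuotientGroup.eq_one_iff]
  have hm0 : m ≠ 0 := by rw [hj]; exact pow_ne_zero _ (Fact.out : p.Prime).ne_zero
  have hdec : ∀ z : M, ∃ i < m, ∃ w ∈ M₁, z = a ^ i * w := by
    intro z
    have htop : Subgroup.zpowers (QuotientGroup.mk a : M ⧸ M₁) = ⊤ := by
      have h := hM₁.2 ((Subgroup.zpowers (QuotientGroup.mk a : M ⧸ M₁)).comap
        (QuotientGroup.mk' M₁)) (SetLike.lt_iff_le_and_exists.2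
          ⟨(QuotientGroup.ker_mk' M₁).ge.trans (Subgroup.ker_le_comap _ _), a,
            Subgroup.mem_zpowers _, haM₁⟩)
      exact Subgroup.comap_injective (QuotientGroup.mk'_surjective M₁)
        (h.trans (Subgroup.comap_top _).symm)
    have hz : (QuotientGroup.mk z : M ⧸ M₁) ∈ Subgroup.zpowers (QuotientGroup.mk a : M ⧸ M₁) := by
      rw [htop]; exact Subgroup.mem_top _
    rw [mem_zpowers_iff_mem_range_orderOf, Finset.mem_image] at hz
    obtain ⟨i, hi, hiz⟩ := hz
    rw [← QuotientGroup.mk_pow, QuotientGroup.eq] at hiz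
    exact ⟨i, Finset.mem_range.1 hi, _, hiz, by group⟩
  -- decomposition of the orbit
  have hO : Finset.univ.filter (fun y => y ∈ orbit M x) =
      (Finset.range m ×ˢ Finset.univ.filter (fun y => y ∈ orbit M₁' x)).image
        (fun e : ℕ × (G ⧸ H) => (a : G) ^ e.1 • e.2) := by
    ext y
    simp only [Finset.mem_filter, Finset.mem_univ, true_and, Finset.mem_image, Finset.mem_product,
      Finset.mem_range]
    constructor
    · rintro ⟨z, rfl⟩
      obtain ⟨i, hi, w, hw, rfl⟩ := hdec z
      refine ⟨(i, (w : G) • x), ⟨hi, ⟨⟨w, w, hw, rfl⟩, rfl⟩⟩, ?_⟩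
      show (a : G) ^ i • (w : G) • x = ((a ^ i * w : M) : G) • x
      rw [← mul_smul]; norm_cast
    · rintro ⟨⟨i, y'⟩, ⟨-, ⟨⟨_, w, hw, rfl⟩, rfl⟩⟩, rfl⟩
      refine ⟨a ^ i * w, ?_⟩
      show ((a ^ i * w : M) : G) • x = (a : G) ^ i • (w : G) • x
      rw [← mul_smul]; norm_cast
  have hinj : Set.InjOn (fun e : ℕ × (G ⧸ H) => (a : G) ^ e.1 • e.2)
      ((Finset.range m ×ˢ Finset.univ.filter (fun y => y ∈ orbit M₁' x) : Finset _) : Set _) := by
    have key : ∀ i < m, ∀ i' < m, ∀ w ∈ M₁, ∀ w' ∈ M₁,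
        (a : G) ^ i • (w : M) • x = (a : G) ^ i' • (w' : M) • x → i ≤ i' → i = i' := by
      intro i hi i' hi' w hw w' hw' he hle
      have h1 : w⁻¹ * a ^ (i' - i) * w' ∈ M₁ := hst (by
        rw [mem_stabilizer_iff, mul_smul, mul_smul, inv_smul_eq_iff]
        have he' : a ^ i • w • x = a ^ i' • w' • x := he
        rw [← Nat.add_sub_cancel' hle, pow_add, mul_smul] at he'
        exact (MulAction.injective _ he').symm)
      have h2 : a ^ (i' - i) ∈ M₁ := by
        rwa [Subgroup.mul_mem_cancel_right _ hw', Subgroup.mul_mem_cancel_left _ (inv_mem hw)] at h1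
      have h3 := Nat.eq_zero_of_dvd_of_lt ((hpow _).1 h2) (by omega)
      omega
    rintro ⟨i, y⟩ he ⟨i', y'⟩ he' h
    simp only [Finset.coe_product, Set.mem_prod, Finset.coe_range, Set.mem_Iio, Finset.coe_filter,
      Finset.mem_univ, true_and, Set.mem_setOf_eq] at he he'
    obtain ⟨hi, ⟨⟨_, w, hw, rfl⟩, rfl⟩⟩ := he
    obtain ⟨hi', ⟨⟨_, w', hw', rfl⟩, rfl⟩⟩ := he'
    have hii : i = i' := by
      rcases le_total i i' with hle | hle
      · exact key i hi i' hi' w hw w' hw' h hle
      · exact (key i' hi' i hi w' hw' w hw h.symm hle).symm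
    subst hii
    exact Prod.ext rfl (MulAction.injective ((a : G) ^ i) h)
  rw [hO, Finset.prod_image hinj, Finset.prod_product]
  set σ := ∏ y ∈ Finset.univ.filter (fun y => y ∈ orbit M₁' x), cosetFun hf hH y with hσ
  have hstep : ∀ i ∈ Finset.range m,
      ∏ y ∈ Finset.univ.filter (fun y => y ∈ orbit M₁' x), cosetFun hf hH ((a : G) ^ i • y) =
        (a : G) ^ i • σ := fun i _ => by
    rw [hσ, Finset.smul_prod']
    exact Finset.prod_congr rfl fun y _ => heq _ (pow_mem (hMS a.2) i) y
  rw [Finset.prod_congr rfl hstep]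
  rcases hcase with hquad | hσmem
  · obtain ⟨v, hv⟩ : σ ∈ (powMonoidHom (p ^ k) : V →* V).range := by
      refine Subgroup.prod_mem _ fun y _ => ?_
      induction y using QuotientGroup.induction_on with
      | _ g => exact hk g
    rw [powMonoidHom_apply] at hv
    rw [Finset.prod_congr rfl (fun i _ => quadratic_smul_pow hquad σ i), Finset.prod_mul_distrib,
      Finset.prod_const, Finset.card_range, Finset.prod_pow_eq_pow_sum, Finset.sum_range_id]
    have hdvd : ∀ n, p ∣ n → ∀ u : V, (u ^ p ^ k) ^ n ∈ (powMonoidHom (p ^ (k + 1)) : V →* V).range := by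
      rintro n ⟨r, rfl⟩ u
      exact ⟨u ^ r, by rw [powMonoidHom_apply, ← pow_mul, ← pow_mul]; ring_nf⟩
    have hpm : p ∣ m := hj ▸ dvd_pow_self p j.succ_ne_zero
    refine mul_mem (hv ▸ hdvd m hpm v) ?_
    rw [← hv, smul_pow', ← div_pow]
    refine hdvd _ ?_ _
    have h2 : 2 ∣ m - 1 := by
      have hodd : Odd m := hj ▸ ((Fact.out : p.Prime).odd_of_ne_two hp).pow
      obtain ⟨r, hr⟩ := hodd
      exact ⟨r, by omega⟩
    rw [Nat.mul_div_assoc m h2]
    exact hpm.mul_right _
  · refine Subgroup.prod_mem _ fun i _ => ?_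
    obtain ⟨v, hv⟩ := hσmem
    exact ⟨(a : G) ^ i • v, by rw [powMonoidHom_apply, ← smul_pow', ← hv]; rfl⟩

/-- **A cocycle which vanishes on the normalizer of the subgroup generated by the quadratic
elements of a Sylow subgroup vanishes.** -/
theorem cocycle_eq_one [Fact p.Prime] [Finite V] (hV : IsPGroup p V) (hp : p ≠ 2) (P : Sylow p G)
    (hPH : (P : Subgroup G) ≤ H)
    (hN : Subgroup.normalizer ((Subgroup.closure {a : G | a ∈ (P : Subgroup G) ∧
      IsQuadraticOn V a} : Subgroup G) : Set G) ≤ H)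
    (hH : ∀ h ∈ H, f h = 1) (g : G) : f g = 1 := by
  classical
  haveI : Fintype (G ⧸ H) := Fintype.ofFinite _
  -- the orbits of the Sylow subgroup other than the trivial coset move quadratic elements
  have hmove : ∀ x : G ⧸ H, x ≠ ((1 : G) : G ⧸ H) →
      ∃ q ∈ (P : Subgroup G), IsQuadraticOn V q ∧ q • x ≠ x := by
    intro x hx
    by_contra hcon
    push Not at hcon
    induction x using QuotientGroup.induction_on with
    | _ c =>
    set Q := {a : G | a ∈ (P : Subgroup G) ∧ IsQuadraticOn V a} with hQ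
    set J := Subgroup.closure Q with hJ
    have hJH : J.map (MulAut.conj c⁻¹).toMonoidHom ≤ H := by
      rw [hJ, MonoidHom.map_closure, Subgroup.closure_le]
      rintro _ ⟨q, ⟨hqP, hq⟩, rfl⟩
      have h := hcon q hqP hq
      rw [MulAction.Quotient.smul_coe, smul_eq_mul, QuotientGroup.eq] at h
      show c⁻¹ * q * c⁻¹⁻¹ ∈ H
      rw [inv_inv]
      simpa [mul_assoc] using inv_mem h
    have hJp : IsPGroup p J := P.isPGroup'.to_le ((Subgroup.closure_le _).2 fun q hq => hq.1)
    obtain ⟨R, hR⟩ := ((hJp.map (MulAut.conj c⁻¹).toMonoidHom).comap_subtype (K := H)).exists_le_sylow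
    obtain ⟨h, hh⟩ := MulAction.exists_smul_eq H R (P.subtype hPH)
    set d := c * (h : G)⁻¹ with hd
    have hdQ : ∀ q ∈ Q, d⁻¹ * q * d ∈ Q := by
      rintro q hq
      refine ⟨?_, by simpa using isQuadraticOn_conj hq.2 d⁻¹⟩
      have h0 : c⁻¹ * q * c ∈ J.map (MulAut.conj c⁻¹).toMonoidHom :=
        ⟨q, Subgroup.subset_closure hq, by simp⟩
      have h1 : (⟨_, hJH h0⟩ : H) ∈ (R : Subgroup H) := hR (Subgroup.mem_subgroupOf.2 h0)
      have h2 : h * ⟨_, hJH h0⟩ * h⁻¹ ∈ ((h • R : Sylow p H) : Subgroup H) := by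
        rw [Sylow.coe_subgroup_smul]
        exact Subgroup.mem_pointwise_smul_iff_inv_smul_mem.2 (by simpa [MulAut.smul_def, mul_assoc] using h1)
      rw [hh, Sylow.coe_subtype, Subgroup.mem_subgroupOf] at h2
      simpa [hd, mul_assoc] using h2
    have hdN : d⁻¹ ∈ Subgroup.normalizer (J : Set G) := by
      refine Subgroup.mem_normalizer_fintype fun z hz => ?_
      have hle : J ≤ J.comap (MulAut.conj d⁻¹).toMonoidHom := (Subgroup.closure_le _).2 fun q hq =>
        Subgroup.subset_closure (by simpa using hdQ q hq)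
      exact hle hz
    refine hx (QuotientGroup.eq.2 ?_)
    have h3 : d ∈ H := by simpa using inv_mem (hN hdN)
    have h4 := mul_mem h3 h.2
    rw [hd, inv_mul_cancel_right] at h4
    simpa using inv_mem h4
  have hn : ¬ p ∣ Fintype.card (G ⧸ H) := by
    rw [Fintype.card_eq_nat_card, ← Subgroup.index_eq_card]
    exact fun h => P.not_dvd_index (h.trans (Subgroup.index_dvd_of_le hPH))
  have key : ∀ k : ℕ, ∀ b, f b ∈ (powMonoidHom (p ^ k) : V →* V).range := by
    intro k
    induction k with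
    | zero => exact fun b => ⟨f b, by simp⟩
    | succ k ih =>
      set φ := cosetFun hf hH with hφ
      set W := (powMonoidHom (p ^ (k + 1)) : V →* V).range with hW
      have hs : ∏ x, φ x ∈ W := by
        rw [← Finset.prod_fiberwise Finset.univ
          (fun x => Quotient.mk (orbitRel (P : Subgroup G) (G ⧸ H)) x) φ]
        refine Subgroup.prod_mem _ fun ω _ => ?_
        induction ω using Quotient.inductionOn with
        | _ x =>
        have hfil : Finset.univ.filter (fun y => Quotient.mk (orbitRel (P : Subgroup G) (G ⧸ H)) y =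
            Quotient.mk (orbitRel (P : Subgroup G) (G ⧸ H)) x) =
            Finset.univ.filter (fun y => y ∈ orbit (P : Subgroup G) x) :=
          Finset.filter_congr fun y _ => Quotient.eq''.trans orbitRel_apply
        rw [hfil]
        by_cases hx : x = ((1 : G) : G ⧸ H)
        · subst hx
          have hfix : ∀ s : (P : Subgroup G), s • ((1 : G) : G ⧸ H) = ((1 : G) : G ⧸ H) := fun s =>
            QuotientGroup.eq.2 (by simpa using inv_mem (hPH s.2))
          have hfil' : Finset.univ.filter (fun y => y ∈ orbit (P : Subgroup G) ((1 : G) : G ⧸ H)) =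
              {((1 : G) : G ⧸ H)} := by
            ext y
            simp only [Finset.mem_filter, Finset.mem_univ, true_and, Finset.mem_singleton]
            exact ⟨fun ⟨s, hsy⟩ => hsy.symm.trans (hfix s), fun h => h ▸ mem_orbit_self _⟩
          rw [hfil', Finset.prod_singleton]
          show f 1 ∈ W
          rw [cocycle_one hf]
          exact one_mem _
        · exact prod_orbit_mem_powRange hf hp hH ih P.isPGroup' hPH _ le_rfl x (hmove x hx)
      intro b
      refine mem_of_pow_mem_coprime hV hn ?_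
      have h1 : ∏ x, φ x = f b ^ Fintype.card (G ⧸ H) * b • ∏ x, φ x := by
        conv_lhs => rw [← Fintype.prod_bijective (b • ·) (MulAction.bijective b) (fun x => φ (b • x))
          φ (fun x => rfl)]
        rw [Finset.prod_congr rfl fun x _ => cosetFun_smul hf hH b x, Finset.prod_mul_distrib,
          Finset.prod_const, Finset.card_univ, Finset.smul_prod']
      rw [eq_div_of_mul_eq' h1.symm]
      obtain ⟨v, hv⟩ := hs
      exact div_mem ⟨v, hv⟩ ⟨b • v, by rw [powMonoidHom_apply, ← smul_pow', ← hv]; rfl⟩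
  obtain ⟨k, hk⟩ := hV.exists_card_eq
  obtain ⟨v, hv⟩ := key k g
  rw [← hv, powMonoidHom_apply, ← hk, pow_card_eq_one']

/-- **A cocycle which vanishes on a Sylow subgroup is the coboundary of a fixed point of it.** -/
theorem cocycle_eq_coboundary [Fact p.Prime] [Finite V] (hV : IsPGroup p V) (P : Sylow p G)
    (hH : ∀ h ∈ (P : Subgroup G), f h = 1) :
    ∃ z : V, (∀ a ∈ (P : Subgroup G), a • z = z) ∧ ∀ b, f b = z / b • z := by
  classical
  haveI : Fintype (G ⧸ (P : Subgroup G)) := Fintype.ofFinite _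
  set φ := cosetFun hf hH with hφ
  set n := Fintype.card (G ⧸ (P : Subgroup G)) with hn'
  have hn : ¬ p ∣ n := by
    rw [hn', Fintype.card_eq_nat_card, ← Subgroup.index_eq_card]
    exact P.not_dvd_index
  set s := ∏ x, φ x with hs
  have h1 : ∀ b, f b ^ n * b • s = s := fun b => by
    symm
    conv_lhs => rw [hs, ← Fintype.prod_bijective (b • ·) (MulAction.bijective b)
      (fun x => φ (b • x)) φ (fun x => rfl)]
    rw [Finset.prod_congr rfl fun x _ => cosetFun_smul hf hH b x, Finset.prod_mul_distrib,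
      Finset.prod_const, Finset.card_univ, hs, Finset.smul_prod']
  obtain ⟨j, hj⟩ := hV.exists_card_eq
  have hco : n.Coprime (Nat.card V) := by
    rw [hj]; exact (((Fact.out : p.Prime).coprime_iff_not_dvd.2 hn).symm).pow_right j
  obtain ⟨z, hz⟩ := (powCoprime hco.symm).surjective s
  have hz' : z ^ n = s := hz
  refine ⟨z, fun a ha => (powCoprime hco.symm).injective ?_, fun b =>
    (powCoprime hco.symm).injective ?_⟩
  · show (a • z) ^ n = z ^ n
    rw [← smul_pow', hz']
    simpa [hH a ha] using h1 a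
  · show f b ^ n = (z / b • z) ^ n
    rw [div_pow, ← smul_pow', hz']
    exact eq_div_of_mul_eq' (h1 b)

end Cosets

end CfsgLib.FusionNormal
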