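import Cfsg.Agent.FusionNormal.FixCocycle
import Cfsg.Agent.FusionNormal.FixUnique
import Cfsg.Agent.FusionNormal.CocycleControl
import Cfsg.Agent.FusionNormal.AbelianWeight

/-!
For odd `p`, every element of `C_S(T)` is, modulo `Z(T)`, centralized by a normal subsystem over
`T`.
-/

set_option autoImplicit false

universe u

namespace CfsgLib.FusionNormal

open Cfsg Cfsg.FusionSystem CfsgLib.Fusion CfsgLib.PLocal
open scoped Pointwise

variable {Ω : Type u} [Group Ω] {S T Q : Subgroup Ω} {F : FusionSystem S} {E : FusionSystem T}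
  {p : ℕ}

/-- A map of `E` with an extension fixing `y` lies in the fixing system of `⟨y⟩`. -/
theorem mem_fixSystem {y : Ω} (hTS : T ≤ S) (hy : Subgroup.zpowers y ≤ centralizerIn S T)
    {P : Subgroup Ω} {φ : P →* Ω} (hφ : φ ∈ E.Hom P) {ψ : ↥(P ⊔ Subgroup.zpowers y) →* Ω}
    (hψ : ψ ∈ F.Hom (P ⊔ Subgroup.zpowers y))
    (h1 : ∀ x : P, ψ ⟨x, Subgroup.mem_sup_left x.2⟩ = φ x)
    (h2 : ψ ⟨y, Subgroup.mem_sup_right (Subgroup.mem_zpowers y)⟩ = y) :
    φ ∈ (fixSystem F E (Subgroup.zpowers y) hTS hy).Hom P := by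
  refine ⟨hφ, ψ, hψ, fun x => h1 x, fun c => ?_⟩
  obtain ⟨i, hi⟩ := Subgroup.mem_zpowers_iff.1 c.2
  rw [show Subgroup.inclusion le_sup_right c = (⟨y, Subgroup.mem_sup_right
      (Subgroup.mem_zpowers y)⟩ : ↥(P ⊔ Subgroup.zpowers y)) ^ i from
    Subtype.ext (by rw [Subgroup.coe_zpow]; exact hi.symm), map_zpow, h2, hi]

/-- An element centralizing `J(P)` lies in it. -/
theorem mem_thompson_of_centralize {P : Subgroup Ω} [Finite P] {x : Ω} (hx : x ∈ P)
    (h : ∀ v ∈ thompsonSubgroupAOf P, v * x = x * v) : x ∈ thompsonSubgroupAOf P := by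
  obtain ⟨A, hA, hAc, hA'⟩ := exists_card_eq_abRank P
  have hle := le_thompsonSubgroupAOf (mem_maxAbIn_iff.2 ⟨hA, hAc, hA'⟩)
  have hc : IsMulCommutative ↥(A ⊔ Subgroup.zpowers x) :=
    isMulCommutative_sup hAc (isMulCommutative_zpowers x) fun a ha => by
      rw [Subgroup.mem_centralizer_iff]
      rintro _ ⟨i, rfl⟩
      exact (Commute.zpow_right (h a (hle ha) : Commute a x) i).symm.eq
  have hsup : A ⊔ Subgroup.zpowers x ≤ P := sup_le hA (Subgroup.zpowers_le.2 hx)
  haveI : Finite ↥(A ⊔ Subgroup.zpowers x) :=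
    Finite.of_injective _ (Subgroup.inclusion_injective hsup)
  have heq : A = A ⊔ Subgroup.zpowers x :=
    Subgroup.eq_of_le_of_card_ge le_sup_left (hA'.symm ▸ card_le_abRank hsup hc)
  exact hle (heq ▸ Subgroup.mem_sup_right (Subgroup.mem_zpowers x))

/-- An isomorphism carries the Thompson subgroup onto the Thompson subgroup. -/
theorem apply_mem_thompson {P R : Subgroup Ω} (e : P ≃* R) (x : P)
    (hx : (x : Ω) ∈ thompsonSubgroupAOf P) : (e x : Ω) ∈ thompsonSubgroupAOf R := by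
  obtain ⟨v, hv, hvx⟩ := hx
  have h : e v ∈ thompsonSubgroupA R := map_thompsonSubgroupA_equiv e ▸ ⟨v, hv, rfl⟩
  rw [← (Subtype.ext hvx : v = x)]
  exact ⟨e v, h, rfl⟩

theorem normalizer_le_normalizer_thompson (P : Subgroup Ω) [Finite P] :
    Subgroup.normalizer (P : Set Ω) ≤
      Subgroup.normalizer ((thompsonSubgroupAOf P : Subgroup Ω) : Set Ω) := by
  intro g hg
  haveI : Finite (thompsonSubgroupAOf P) :=
    Finite.of_injective _ (Subgroup.inclusion_injective (thompsonSubgroupAOf_le P))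
  exact Subgroup.mem_normalizer_fintype fun x hx =>
    apply_mem_thompson (P.normalizerMonoidHom ⟨g, hg⟩) ⟨x, thompsonSubgroupAOf_le P hx⟩ hx

variable [Finite S] [Fact p.Prime]

omit [Fact p.Prime] in
/-- A subgroup of `T` isomorphic to `J(T)` is `J(T)`. -/
theorem eq_thompson_of_equiv (hTS : T ≤ S) {R : Subgroup Ω} (hRT : R ≤ T)
    (e : thompsonSubgroupAOf T ≃* R) : R = thompsonSubgroupAOf T := by
  haveI := finite_of_le hTS
  set K := thompsonSubgroupAOf T with hK
  haveI := finite_of_le ((thompsonSubgroupAOf_le T).trans hTS : K ≤ S)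
  obtain ⟨A, hA, hAc, hA'⟩ := exists_card_eq_abRank T
  have hrank : abRank K = abRank T := le_antisymm (abRank_mono (thompsonSubgroupAOf_le T))
    (hA' ▸ card_le_abRank (le_thompsonSubgroupAOf (mem_maxAbIn_iff.2 ⟨hA, hAc, hA'⟩)) hAc)
  have hJK : thompsonSubgroupAOf K = K := by
    by_contra hne
    refine hne (le_antisymm (thompsonSubgroupAOf_le K) ?_)
    conv_lhs => rw [hK, thompsonSubgroupAOf_eq]
    refine sSup_le fun B hB => ?_
    obtain ⟨h1, h2, h3⟩ := mem_maxAbIn_iff.1 hB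
    exact le_thompsonSubgroupAOf (mem_maxAbIn_iff.2
      ⟨le_thompsonSubgroupAOf hB, h2, h3.trans hrank.symm⟩)
  have hle : R ≤ K := by
    rw [← (thompson_eq_iff_of_equiv e).1 hJK]
    exact thompson_le_of_abRank_eq hRT ((abRank_eq_of_equiv e).symm.trans hrank)
  exact Subgroup.eq_of_le_of_card_ge hle (Nat.card_congr e.toEquiv).le

/-- Outside `J(T)` the weight grows along normalizers. -/
theorem weight_lt_normalizerIn (hS : IsPGroup p S) (hTS : T ≤ S) {R : Subgroup Ω} (hR : R < T)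
    (hRK : R ≠ thompsonSubgroupAOf T) :
    weight (Nat.card T) R < weight (Nat.card T) (normalizerIn T R) := by
  haveI := finite_of_le hTS
  have hTp : IsPGroup p T := hS.to_le hTS
  set M := normalizerIn T R with hM
  have hMT : M ≤ T := normalizerIn_le T R
  haveI := finite_of_le (hMT.trans hTS)
  have hRM : R < M := lt_normalizerIn hTp hR
  refine weight_lt_of_lt hRM (Subgroup.card_le_of_le hMT) ?_
  by_cases hJ : thompsonSubgroupAOf R = R
  swap
  · exact Or.inl hJ
  refine Or.inr (abWeight_lt hRM.le (Subgroup.card_le_of_le hMT) ?_)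
  by_contra hcon
  push Not at hcon
  obtain ⟨hrank, hle⟩ := hcon
  have hrank' : abRank R = abRank M := le_antisymm (abRank_mono hRM.le) hrank
  have hJM : thompsonSubgroupAOf M = R :=
    le_antisymm hle (hJ.ge.trans (thompson_le_of_abRank_eq hRM.le hrank'))
  rcases hMT.eq_or_lt with hMeq | hMlt
  · exact hRK (by rw [← hJM, hMeq])
  · refine (lt_normalizerIn hTp hMlt).not_ge fun x hx => ⟨hx.1, ?_⟩
    have := normalizer_le_normalizer_thompson M hx.2
    rwa [hJM] at this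

/-- The step through quadratic elements. -/
theorem autGroup_le_of_quadratic (hS : IsPGroup p S) (hF : F.IsSaturated p)
    (hE : E.IsNormalIn F p) (hp : p ≠ 2) {y : Ω} (hTS : T ≤ S) (hy : y ∈ centralizerIn S T)
    (hQ : E.IsFullyNormalized Q) (hcen : centralizerIn T Q ≤ Q) {B : Subgroup Ω}
    (hBN : B ≤ normalizerIn T Q)
    (hBq : ∀ b ∈ B, ∀ v ∈ Q, v ∈ Subgroup.centralizer (Q : Set Ω) →
      Commute b (b * v * b⁻¹ * v⁻¹))
    (IH : ∀ J : Subgroup Ω, Q ≤ J → B ≤ J → J ≤ normalizerIn T Q →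
      E.Hom J ⊆ (fixSystem F E (Subgroup.zpowers y) hTS (Subgroup.zpowers_le.2 hy)).Hom J) :
    E.autGroup Q ≤ (fixSystem F E (Subgroup.zpowers y) hTS (Subgroup.zpowers_le.2 hy)).autGroup Q := by
  classical
  obtain ⟨⟨hEs, -, hinv⟩, -⟩ := id hE
  haveI := finite_of_le hTS
  have hTp : IsPGroup p T := hS.to_le hTS
  have hQT : Q ≤ T := hQ.1
  have hQS : Q ≤ S := hQT.trans hTS
  haveI := finite_of_le hQS
  obtain ⟨⟨-, P, hP⟩, hQr⟩ := automized_receptive hTp hEs hQ
  obtain ⟨τ, hτF, hτR, hτc, hτP, hτu⟩ := exists_fixLift hS hF hE hQ hcen hy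
  set cX : ↥(Q ⊔ Subgroup.zpowers y) := ⟨y, Subgroup.mem_sup_right (Subgroup.mem_zpowers y)⟩ with hcX
  letI : CommGroup (Subgroup.center Q) :=
    { (inferInstance : Group (Subgroup.center Q)) with
      mul_comm := fun a b => Subtype.ext (Subgroup.mem_center_iff.1 b.2 a) }
  letI : MulDistribMulAction (E.autGroup Q) (Subgroup.center Q) :=
    { smul := fun a v => ⟨(a : MulAut Q) v, Subgroup.mem_center_iff.2 fun g => by
        obtain ⟨h, rfl⟩ := (a : MulAut Q).surjective g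
        rw [← map_mul, ← map_mul, Subgroup.mem_center_iff.1 v.2 h]⟩
      one_smul := fun v => Subtype.ext rfl
      mul_smul := fun a b v => Subtype.ext rfl
      smul_mul := fun a u v => Subtype.ext (map_mul (a : MulAut Q) (u : Q) (v : Q))
      smul_one := fun a => Subtype.ext (map_one (a : MulAut Q)) }
  have hsmul : ∀ (a : E.autGroup Q) (v : Subgroup.center Q),
      ((a • v : Subgroup.center Q) : Q) = (a : MulAut Q) v := fun _ _ => rfl
  have hyQ : ∀ q : Q, (q : Ω) * y = y * q := fun q => (mem_centralizerIn.1 hy).2 q (hQT q.2)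
  have hfcen : ∀ a : E.autGroup Q, (⟨y⁻¹ * (τ a cX : Ω), hτc a⟩ : Q) ∈ Subgroup.center Q := by
    intro a
    refine Subgroup.mem_center_iff.2 fun g => ?_
    obtain ⟨h, rfl⟩ := (a : MulAut Q).surjective g
    refine Subtype.ext ?_
    show ((a : MulAut Q) h : Ω) * (y⁻¹ * (τ a cX : Ω)) = y⁻¹ * (τ a cX : Ω) * ((a : MulAut Q) h : Ω)
    have h1 : (⟨h, Subgroup.mem_sup_left h.2⟩ : ↥(Q ⊔ Subgroup.zpowers y)) * cX =
        cX * ⟨h, Subgroup.mem_sup_left h.2⟩ := Subtype.ext (hyQ h)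
    have h2 := congrArg (fun z => (τ a z : Ω)) h1
    simp only [map_mul, Subgroup.coe_mul, hτR] at h2
    rw [← mul_assoc, show ((a : MulAut Q) h : Ω) * y⁻¹ = y⁻¹ * ((a : MulAut Q) h : Ω) from
      (Commute.inv_right (hyQ _ : Commute ((a : MulAut Q) h : Ω) y)).eq, mul_assoc, h2, mul_assoc]
  let f : E.autGroup Q → Subgroup.center Q := fun a => ⟨_, hfcen a⟩
  have hfv : ∀ a, (τ a cX : Ω) = y * ((f a : Q) : Ω) := fun a => (mul_inv_cancel_left y _).symm
  have hf : ∀ a b, f (a * b) = f a * a • f b := fun a b => by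
    refine Subtype.ext (Subtype.ext (mul_left_cancel (a := y) ?_))
    rw [← hfv, map_mul, MulAut.mul_apply, Subgroup.coe_mul, Subgroup.coe_mul, hsmul,
      show τ b cX = cX * ⟨((f b : Q) : Ω), Subgroup.mem_sup_left (f b : Q).2⟩ from
        Subtype.ext (hfv b), map_mul, Subgroup.coe_mul, hfv, hτR, mul_assoc]
  -- the quadratic elements of the Sylow subgroup
  set Qd : Set (E.autGroup Q) := {a | a ∈ (P : Subgroup (E.autGroup Q)) ∧
    IsQuadraticOn (Subgroup.center Q) a} with hQd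
  set J₀ := Subgroup.closure Qd with hJ₀
  have hJ₀P : J₀ ≤ (P : Subgroup (E.autGroup Q)) := (Subgroup.closure_le _).2 fun a ha => ha.1
  set H := Subgroup.normalizer (J₀ : Set (E.autGroup Q)) with hH
  have hPH : (P : Subgroup (E.autGroup Q)) ≤ H := fun s hs => by
    refine Subgroup.mem_normalizer_fintype fun x hx => ?_
    have hle : J₀ ≤ J₀.comap (MulAut.conj s).toMonoidHom := (Subgroup.closure_le _).2 fun q hq =>
      Subgroup.subset_closure ⟨mul_mem (mul_mem hs hq.1) (inv_mem hs), isQuadraticOn_conj hq.2 s⟩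
    exact hle hx
  set J : Subgroup Ω := T ⊓ ((J₀.map (E.autGroup Q).subtype).comap Q.normalizerMonoidHom).map
    (Subgroup.normalizer (Q : Set Ω)).subtype with hJ
  have hJmem : ∀ t ∈ T, ∀ htN : t ∈ Subgroup.normalizer (Q : Set Ω),
      (∀ v ∈ Q, v ∈ Subgroup.centralizer (Q : Set Ω) → Commute t (t * v * t⁻¹ * v⁻¹)) → t ∈ J := by
    intro t ht htN hq
    set a : E.autGroup Q := ⟨Q.normalizerMonoidHom ⟨t, htN⟩,
      autInducedBy_le_autGroup hQT (le_autInducedBy_apply (K := T) ⟨t, ht⟩ htN)⟩ with ha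
    refine ⟨ht, ⟨t, htN⟩, ⟨a, Subgroup.subset_closure ⟨?_, fun v => ?_⟩, rfl⟩, rfl⟩
    · rw [hP]
      exact le_autInducedBy_apply (K := T) ⟨t, ht⟩ htN
    · refine Subtype.ext (Subtype.ext ?_)
      set x := t * ((v : Q) : Ω) * t⁻¹ * ((v : Q) : Ω)⁻¹ with hx
      have h1 : Commute t x := hq _ (v : Q).2 (Subgroup.mem_centralizer_iff.2 fun g hg =>
        congrArg Subtype.val (Subgroup.mem_center_iff.1 v.2 ⟨g, hg⟩))
      have hd : ((((a • v) / v : Subgroup.center Q) : Q) : Ω) = x := by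
        rw [div_eq_mul_inv, Subgroup.coe_mul, Subgroup.coe_mul, hx]
        rfl
      show t * ((((a • v) / v : Subgroup.center Q) : Q) : Ω) * t⁻¹ = _
      rw [hd, h1.eq, mul_inv_cancel_right]
  have hQJ : Q ≤ J := fun q hq => hJmem q (hQT hq) (Subgroup.le_normalizer hq) fun v _ hv => by
    rw [Subgroup.mem_centralizer_iff.1 hv q hq, mul_inv_cancel_right, mul_inv_cancel]
    exact Commute.one_right q
  have hBJ : B ≤ J := fun b hb => hJmem b (hBN hb).1 (hBN hb).2 (hBq b hb)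
  have hJN : J ≤ normalizerIn T Q := fun t ht => ⟨ht.1, Subgroup.map_subtype_le _ ht.2⟩
  have hIH := IH J hQJ hBJ hJN
  let Fixd : Subgroup (E.autGroup Q) :=
    { carrier := {a | τ a cX = cX}
      one_mem' := by
        show τ 1 cX = cX
        rw [map_one, MulAut.one_apply]
      mul_mem' := fun {a b} (ha : τ a cX = cX) (hb : τ b cX = cX) => by
        show τ (a * b) cX = cX
        rw [map_mul, MulAut.mul_apply, hb, ha]
      inv_mem' := fun {a} (ha : τ a cX = cX) => by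
        show τ a⁻¹ cX = cX
        apply (τ a).injective
        rw [map_inv, MulAut.apply_inv_self, ha] }
  have hHfix : H ≤ Fixd := by
    suffices h : Fixd.subgroupOf H = ⊤ from fun a ha =>
      Subgroup.mem_subgroupOf.1 (show (⟨a, ha⟩ : H) ∈ Fixd.subgroupOf H from h ▸ Subgroup.mem_top _)
    refine eq_top_of_sylow_le (p := p) (P.subtype hPH) ?_ fun a ha => ?_
    · rw [Sylow.coe_subtype]
      intro z hz
      exact Subgroup.mem_subgroupOf.2
        (Subtype.ext (hτP _ (Subgroup.mem_subgroupOf.1 ((le_of_eq hP) (Subgroup.mem_subgroupOf.1 hz)))))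
    · set b : E.autGroup Q := (a : E.autGroup Q) with hb
      have hJe : J ≤ extender T Q (Q.subtype.comp (b : MulAut Q).toMonoidHom) := by
        rintro t ⟨htT, ⟨n, hn, rfl⟩⟩
        obtain ⟨j, hj, hjv⟩ := hn
        refine mem_extender_of_congr ⟨htT, n.2⟩ (α := Q.normalizerMonoidHom n) (fun _ => rfl) ?_
        rw [congr_self_eq, ← hjv]
        exact Subgroup.mem_subgroupOf.1
          ((le_of_eq hP) (hJ₀P ((Subgroup.mem_normalizer_iff.1 a.2 j).1 hj)))
      obtain ⟨ψ, hψ, hψv⟩ := exists_extension hQr ((mem_autGroup_iff hQT).1 b.2) hJe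
      obtain ⟨-, θ, hθ, hθ1, hθ2⟩ := hIH hψ
      refine Subgroup.mem_subgroupOf.2 (Subtype.ext (hτu b (by rwa [hb, orderOf_submonoid])
        (restrictHom θ (sup_le_sup_right hQJ _)) (Fusion.restrict_mem hθ _) (fun r => ?_) ?_))
      · exact (hθ1 ⟨r, hQJ r.2⟩).trans (hψv r (hQJ r.2))
      · exact hθ2 ⟨y, Subgroup.mem_zpowers y⟩
  have hHf : ∀ h ∈ H, f h = 1 := fun h hh => Subtype.ext (Subtype.ext (by
    show y⁻¹ * (τ h cX : Ω) = 1
    rw [show τ h cX = cX from hHfix hh, inv_mul_cancel]))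
  have hzero := cocycle_eq_one hf (V := Subgroup.center Q)
    ((hS.to_le hQS).to_subgroup _) hp P hPH le_rfl hHf
  intro a ha
  refine (mem_autGroup_iff hQT).2 (mem_fixSystem hTS _ ((mem_autGroup_iff hQT).1 ha)
    ((mem_autGroup_iff (sup_le hQS ((Subgroup.zpowers_le.2 hy).trans (centralizerIn_le S T)))).1
      (hτF ⟨a, ha⟩)) (fun x => hτR ⟨a, ha⟩ x) ?_)
  show (τ ⟨a, ha⟩ cX : Ω) = y
  rw [hfv, hzero]
  simp

/-- The step through `J(Q)`. -/
theorem autGroup_le_of_thompson (hS : IsPGroup p S) (hF : F.IsSaturated p)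
    (hE : E.IsNormalIn F p) {y : Ω} (hTS : T ≤ S) (hy : y ∈ centralizerIn S T)
    (hQ : E.IsFullyNormalized Q) (hK : E.IsFullyNormalized (thompsonSubgroupAOf Q))
    (hcen : centralizerIn T (thompsonSubgroupAOf Q) ≤ thompsonSubgroupAOf Q)
    (IH : E.Hom (thompsonSubgroupAOf Q) ⊆
      (fixSystem F E (Subgroup.zpowers y) hTS (Subgroup.zpowers_le.2 hy)).Hom (thompsonSubgroupAOf Q)) :
    E.autGroup Q ≤ (fixSystem F E (Subgroup.zpowers y) hTS (Subgroup.zpowers_le.2 hy)).autGroup Q := by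
  classical
  obtain ⟨⟨hEs, -, hinv⟩, -⟩ := id hE
  have hsc := hinv.2.1
  haveI := finite_of_le hTS
  have hTp : IsPGroup p T := hS.to_le hTS
  have hQT : Q ≤ T := hQ.1
  have hQS : Q ≤ S := hQT.trans hTS
  haveI := finite_of_le hQS
  set Fx := fixSystem F E (Subgroup.zpowers y) hTS (Subgroup.zpowers_le.2 hy) with hFx
  obtain ⟨⟨-, P, hP⟩, -⟩ := automized_receptive hTp hEs hQ
  set K := thompsonSubgroupAOf Q with hKdef
  have hKQ : K ≤ Q := thompsonSubgroupAOf_le Q
  have hKT : K ≤ T := hKQ.trans hQT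
  have hKS : K ≤ S := hKT.trans hTS
  haveI := finite_of_le hKS
  suffices h : (Fx.autGroup Q).subgroupOf (E.autGroup Q) = ⊤ from fun a ha =>
    Subgroup.mem_subgroupOf.1 (show (⟨a, ha⟩ : E.autGroup Q) ∈ _ from h ▸ Subgroup.mem_top _)
  refine eq_top_of_sylow_le (p := p) P ?_ fun a hap => ?_
  · intro z hz
    rw [hP] at hz
    exact Subgroup.mem_subgroupOf.2 (autInducedBy_le_autGroup hQT (Subgroup.mem_subgroupOf.1 hz))
  set α : MulAut Q := (a : MulAut Q) with hα
  have hαE : α ∈ E.autGroup Q := a.2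
  have hαp : (orderOf α).Coprime p := by rwa [hα, orderOf_submonoid]
  have hαK : ∀ x : Q, (x : Ω) ∈ K → (α x : Ω) ∈ K := fun x hx => apply_mem_thompson α x hx
  obtain ⟨αK, hαKE, hαKv⟩ := exists_aut_restrict (F := E) ((mem_autGroup_iff hQT).1 hαE) hKQ
    (fun x hx => hαK ⟨x, hKQ hx⟩ hx)
  have hαKn : ∀ (i : ℕ) (k : K), ((αK ^ i) k : Ω) = (α ^ i) ⟨k, hKQ k.2⟩ := by
    intro i
    induction i with
    | zero => exact fun k => rfl
    | succ i ih =>
      intro k
      rw [pow_succ, pow_succ, MulAut.mul_apply, MulAut.mul_apply, ih]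
      exact congrArg (fun z => ((α ^ i) z : Ω)) (Subtype.ext (hαKv k))
  have hαKp : (orderOf αK).Coprime p := by
    refine Nat.Coprime.coprime_dvd_left (orderOf_dvd_of_pow_eq_one (MulEquiv.ext fun k => Subtype.ext ?_)) hαp
    rw [hαKn, pow_orderOf_eq_one]
    rfl
  obtain ⟨-, θ, hθ, hθ1, hθ2⟩ := IH ((mem_autGroup_iff hKT).1 hαKE)
  have hθy : θ ⟨y, Subgroup.mem_sup_right (Subgroup.mem_zpowers y)⟩ = y :=
    hθ2 ⟨y, Subgroup.mem_zpowers y⟩
  -- transport to a fully normalized subgroup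
  obtain ⟨Kn, hKKn, hKn⟩ := exists_fullyNormalized (F := F) hKS
  obtain ⟨hKna, hKnr⟩ := automized_receptive hS hF hKn
  obtain ⟨η, hη, hηN, hηK⟩ := exists_map_normalizerIn hS hKna hKnr hKKn
  have hKN : K ≤ normalizerIn S K := le_normalizerIn hKS
  have hyK : y ∈ centralizerIn S K := centralizerIn_anti hKT hy
  have hQnK : Q ≤ Subgroup.normalizer (K : Set Ω) :=
    Subgroup.le_normalizer.trans (normalizer_le_normalizer_thompson Q)
  have hQN : Q ≤ normalizerIn S K := le_inf hQS hQnK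
  have hyN : Subgroup.zpowers y ≤ normalizerIn S K :=
    (Subgroup.zpowers_le.2 hyK).trans (centralizerIn_le_normalizerIn S K)
  have hXN : Q ⊔ Subgroup.zpowers y ≤ normalizerIn S K := sup_le hQN hyN
  set y' := η ⟨y, hyN (Subgroup.mem_zpowers y)⟩ with hy'
  have hKnS : Kn ≤ S := hKn.1
  have hKnc := fullyCentralized_of_normalized hS hF hKn
  have hy'C : y' ∈ centralizerIn S Kn := by
    refine mem_centralizerIn.2 ⟨apply_mem hη _, ?_⟩
    rw [← hηK]
    rintro _ ⟨x, hx, rfl⟩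
    rw [hy', ← map_mul, ← map_mul]
    exact congrArg η (Subtype.ext ((mem_centralizerIn.1 hyK).2 x hx))
  set Q₂ := imgHom η Q with hQ₂
  have hQ₂T : Q₂ ≤ T := by
    rintro _ ⟨x, hx, rfl⟩; exact stronglyClosed_apply hsc hη (hQT hx)
  have hQ₂S : Q₂ ≤ S := hQ₂T.trans hTS
  haveI := finite_of_le hQ₂S
  have hKnQ₂ : Kn ≤ Q₂ := by rw [← hηK]; exact imgHom_mono _ hKQ
  have hKnT : Kn ≤ T := hKnQ₂.trans hQ₂T
  have hQ₂n : Q₂ ≤ Subgroup.normalizer (Kn : Set Ω) := by
    rintro _ ⟨x, -, rfl⟩; exact (hηN x).2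
  have hKC : E.IsCentric K :=
    isCentric_of_fullyCentralized hTp hEs (fullyCentralized_of_normalized hTp hEs hK) hcen
  have hcenn : centralizerIn T Kn ≤ Kn := centralizerIn_le_of_isConj hinv hKC hKKn
  have hKnC : E.IsCentric Kn := isCentric_of_F_isConj hinv hKC hKKn hKnT
  obtain ⟨eK, heK, heKv⟩ :=
    exists_iso (Fusion.restrict_mem hη hKN) ((range_restrictHom η hKN).trans hηK)
  obtain ⟨eQ, heQ, heQv⟩ := exists_iso_restrict hη hQN
  obtain ⟨eX, heX, heXv⟩ := exists_iso (Fusion.restrict_mem hη hXN) (Q := Q₂ ⊔ Subgroup.zpowers y')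
    (by rw [range_restrictHom, imgHom_sup η hQN hyN, imgHom_zpowers η (hyN (Subgroup.mem_zpowers y))])
  have hKyN : K ⊔ Subgroup.zpowers y ≤ normalizerIn S K := sup_le hKN hyN
  obtain ⟨eY, heY, heYv⟩ := exists_iso (Fusion.restrict_mem hη hKyN) (Q := Kn ⊔ Subgroup.zpowers y')
    (by rw [range_restrictHom, imgHom_sup η hKN hyN, hηK, imgHom_zpowers η (hyN (Subgroup.mem_zpowers y))])
  set α₂ := MulAut.congr eQ α with hα₂
  have hα₂E : α₂ ∈ E.autGroup Q₂ :=
    congr_mem_of_invariant (strongInvariant_of_invariant hinv) hQT hQ₂T heQ hαE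
  have hα₂p : (orderOf α₂).Coprime p := by rwa [hα₂, MulEquiv.orderOf_eq]
  set an := MulAut.congr eK αK with han
  have hanE : an ∈ E.autGroup Kn :=
    congr_mem_of_invariant (strongInvariant_of_invariant hinv) hKT hKnT heK hαKE
  have hanp : (orderOf an).Coprime p := by rwa [han, MulEquiv.orderOf_eq]
  have han₂ : ∀ k : Kn, (α₂ ⟨k, hKnQ₂ k.2⟩ : Ω) = an k := by
    intro k
    obtain ⟨v, rfl⟩ := eK.surjective k
    rw [show (⟨(eK v : Ω), hKnQ₂ (eK v).2⟩ : Q₂) = eQ ⟨v, hKQ v.2⟩ from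
      Subtype.ext ((heKv v).trans (heQv ⟨v, hKQ v.2⟩).symm), hα₂, han, congr_apply, congr_apply,
      heQv, heKv]
    exact congrArg η (Subtype.ext (hαKv v).symm)
  have hW : Kn ⊔ centralizerIn S Kn ≤ S := sup_le hKnS (centralizerIn_le S Kn)
  haveI := finite_of_le hW
  haveI := finite_of_le hKnS
  set X := Kn ⊔ centralizerIn S Kn with hX
  obtain ⟨γ₀, hγ₀⟩ := exists_goodLift hS hF hE hKnT hKn hcenn hanE
  obtain ⟨j, hj, hj1⟩ := exists_pow_coprime (p := p) γ₀ hanp
  have hanj : an ^ j = an := by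
    have h1 : an ^ j = an ^ 1 := pow_eq_pow_iff_modEq.2 hj1
    rwa [pow_one] at h1
  set γ := γ₀ ^ j with hγdef
  have hγ : IsGoodLift F Kn an γ := hanj ▸ hγ₀.pow hKnS j
  -- `γ` fixes `y'`
  have hKyS : K ⊔ Subgroup.zpowers y ≤ S := hKyN.trans (normalizerIn_le S K)
  haveI := finite_of_le hKyS
  obtain ⟨Θ, hΘ, hΘv⟩ := exists_aut_restrict hθ le_rfl fun x hx =>
    forall_mem_sup θ le_sup_left le_sup_right
      (fun z hz => Subgroup.mem_sup_left (by
        rw [show θ ⟨z, _⟩ = (αK ⟨z, hz⟩ : Ω) from hθ1 ⟨z, hz⟩]; exact Subtype.mem _))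
      (fun z hz => Subgroup.mem_sup_right (by
        rw [show θ ⟨z, _⟩ = z from hθ2 ⟨z, hz⟩]; exact hz)) hx hx
  have hΘ'S : Kn ⊔ Subgroup.zpowers y' ≤ S := sup_le hKnS (Subgroup.zpowers_le.2 hy'C.1)
  have hγy : (γ ⟨y', Subgroup.mem_sup_right hy'C⟩ : Ω) = y' := by
    refine goodLift_fix_of_fixed hS hF hKnc hγ hj hy'C
      ((mem_autGroup_iff hΘ'S).1 (congr_mem_autGroup heY hΘ)) (fun k => ?_) ?_
    · obtain ⟨v, rfl⟩ := eK.surjective k
      show (MulAut.congr eY Θ ⟨(eK v : Ω), _⟩ : Ω) = an (eK v)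
      rw [show (⟨(eK v : Ω), Subgroup.mem_sup_left (eK v).2⟩ : ↥(Kn ⊔ Subgroup.zpowers y')) =
        eY ⟨v, Subgroup.mem_sup_left v.2⟩ from
        Subtype.ext ((heKv v).trans (heYv ⟨v, Subgroup.mem_sup_left v.2⟩).symm), han, congr_apply,
        congr_apply, heYv, heKv]
      exact congrArg η (Subtype.ext ((hΘv _).trans (hθ1 v)))
    · show (MulAut.congr eY Θ ⟨y', _⟩ : Ω) = y'
      rw [show (⟨y', Subgroup.mem_sup_right (Subgroup.mem_zpowers y')⟩ : ↥(Kn ⊔ Subgroup.zpowers y')) =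
        eY ⟨y, Subgroup.mem_sup_right (Subgroup.mem_zpowers y)⟩ from
        Subtype.ext (heYv ⟨y, Subgroup.mem_sup_right (Subgroup.mem_zpowers y)⟩).symm, congr_apply, heYv]
      exact congrArg η (Subtype.ext ((hΘv _).trans hθy))
  -- `γ` extends to `Q₂`
  have hXn : ∀ r ∈ Q₂, r ∈ Subgroup.normalizer (X : Set Ω) := fun r hr =>
    Subgroup.mem_normalizer_fintype fun w hw =>
      forall_mem_sup (conjHom X r) le_sup_left le_sup_right
        (fun v hv => Subgroup.mem_sup_left ((Subgroup.mem_normalizer_iff.1 (hQ₂n hr) v).1 hv))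
        (fun v hv => Subgroup.mem_sup_right (mem_centralizerIn.2
          ⟨S.mul_mem (S.mul_mem (hQ₂S hr) hv.1) (S.inv_mem (hQ₂S hr)), fun k hk => by
            have h1 := (mem_centralizerIn.1 hv).2 _
              ((Subgroup.mem_normalizer_iff''.1 (hQ₂n hr) k).1 hk)
            calc k * (r * v * r⁻¹) = r * ((r⁻¹ * k * r) * v) * r⁻¹ := by group
              _ = r * (v * (r⁻¹ * k * r)) * r⁻¹ := by rw [h1]
              _ = r * v * r⁻¹ * k := by group⟩)) hw hw
  have hcr : ∀ (r : Ω) (hr : r ∈ Q₂), IsGoodLift F Kn (Kn.normalizerMonoidHom ⟨r, hQ₂n hr⟩)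
      (X.normalizerMonoidHom ⟨r, hXn r hr⟩) := fun r hr =>
    ⟨autInducedBy_le_autGroup hW (le_autInducedBy_apply (K := S) ⟨r, hQ₂S hr⟩ (hXn r hr)),
      fun k => rfl, fun w hw => hcenn (mem_centralizerIn.2 ⟨by
        show (w : Ω)⁻¹ * (r * (w : Ω) * r⁻¹) ∈ T
        rw [← mul_assoc, ← mul_assoc]
        refine T.mul_mem ?_ (T.inv_mem (hQ₂T hr))
        exact (Subgroup.mem_normalizer_iff''.1 (stronglyClosed_le_normalizer hsc hw.1) r).1 (hQ₂T hr),
        fun k hk => (mem_centralizerIn.1 ((centralizerIn S Kn).mul_mem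
          ((centralizerIn S Kn).inv_mem hw) (mem_centralizerIn.2
            ⟨S.mul_mem (S.mul_mem (hQ₂S hr) hw.1) (S.inv_mem (hQ₂S hr)), fun k' hk' => by
              have h1 := (mem_centralizerIn.1 hw).2 _
                ((Subgroup.mem_normalizer_iff''.1 (hQ₂n hr) k').1 hk')
              calc k' * (r * (w : Ω) * r⁻¹) = r * ((r⁻¹ * k' * r) * w) * r⁻¹ := by group
                _ = r * ((w : Ω) * (r⁻¹ * k' * r)) * r⁻¹ := by rw [h1]
                _ = r * (w : Ω) * r⁻¹ * k' := by group⟩))).2 k hk⟩)⟩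
  have hinvg : ∀ {b : MulAut Kn} {g : MulAut X}, IsGoodLift F Kn b g → IsGoodLift F Kn b⁻¹ g⁻¹ := by
    intro b g hg
    set N := orderOf g * orderOf b with hN
    have hN0 : 0 < N := Nat.mul_pos (orderOf_pos g) (orderOf_pos b)
    have eg : g⁻¹ = g ^ (N - 1) := inv_eq_of_mul_eq_one_right (by
      rw [← pow_succ', Nat.sub_add_cancel hN0, hN, pow_mul, pow_orderOf_eq_one, one_pow])
    have eb : b⁻¹ = b ^ (N - 1) := inv_eq_of_mul_eq_one_right (by
      rw [← pow_succ', Nat.sub_add_cancel hN0, hN, mul_comm, pow_mul, pow_orderOf_eq_one, one_pow])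
    rw [eg, eb]
    exact hg.pow hKnS _
  have hext : Q₂ ≤ extender S X (X.subtype.comp γ.toMonoidHom) := by
    intro r hr
    set r' : Ω := (α₂ ⟨r, hr⟩ : Ω) with hr'
    have hr'Q : r' ∈ Q₂ := (α₂ ⟨r, hr⟩).2
    have h1 := ((hγ.mul hKnS (hcr r hr)).mul hKnS (hinvg hγ)).mul hKnS (hinvg (hcr r' hr'Q))
    have hb : an * Kn.normalizerMonoidHom ⟨r, hQ₂n hr⟩ * an⁻¹ *
        (Kn.normalizerMonoidHom ⟨r', hQ₂n hr'Q⟩)⁻¹ = 1 := by
      rw [mul_inv_eq_one]
      refine MulEquiv.ext fun k => Subtype.ext ?_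
      obtain ⟨v, rfl⟩ := an.surjective k
      rw [MulAut.mul_apply, MulAut.mul_apply, MulAut.inv_apply_self, ← han₂]
      show ((α₂ ⟨r * (v : Ω) * r⁻¹, _⟩ : Q₂) : Ω) = r' * (an v : Ω) * r'⁻¹
      rw [show (⟨r * (v : Ω) * r⁻¹, _⟩ : Q₂) = ⟨r, hr⟩ * ⟨v, hKnQ₂ v.2⟩ * ⟨r, hr⟩⁻¹ from rfl,
        map_mul, map_mul, map_inv, ← han₂, hr']
      rfl
    rw [hb] at h1
    obtain ⟨d, hd, hdv⟩ := exists_conj_of_translation hS hF hKnc h1
    refine mem_extender_iff.2 ⟨hQ₂S hr, hXn r hr, d * r', S.mul_mem hd.1 (hQ₂S hr'Q), fun x hx => ?_⟩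
    have hdX : d ∈ Subgroup.normalizer (X : Set Ω) :=
      Subgroup.le_normalizer (Subgroup.mem_sup_right hd)
    have h2 : γ * X.normalizerMonoidHom ⟨r, hXn r hr⟩ * γ⁻¹ =
        X.normalizerMonoidHom ⟨d, hdX⟩ * X.normalizerMonoidHom ⟨r', hXn r' hr'Q⟩ := by
      exact mul_inv_eq_iff_eq_mul.1 (MulEquiv.ext fun w => Subtype.ext (hdv w))
    have h3 := congrArg (fun g : MulAut X => (g (γ x) : Ω)) h2
    simp only [MulAut.mul_apply, MulAut.inv_apply_self] at h3
    show (γ ⟨r * x * r⁻¹, hx⟩ : Ω) = d * r' * (γ x : Ω) * (d * r')⁻¹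
    refine h3.trans ?_
    show d * (r' * (γ x : Ω) * r'⁻¹) * d⁻¹ = _
    group
  have hXr := receptive_of_fullyCentralized hS hF
    (FusionSub.isFullyCentralized_of_centric (isCentric_sup_centralizerIn hKnc) fun _ => subset_rfl)
  obtain ⟨ψ, hψ, hψv⟩ := exists_extension hXr ((mem_autGroup_iff hW).1 hγ.1)
    (sup_le (le_extender hW fun x => hW (γ x).2) hext : X ⊔ Q₂ ≤ _)
  have hψX : ∀ (x : Ω) (hx : x ∈ X), ψ ⟨x, Subgroup.mem_sup_left hx⟩ = (γ ⟨x, hx⟩ : Ω) :=
    fun x hx => hψv ⟨x, hx⟩ (Subgroup.mem_sup_left hx)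
  have hψQ : ∀ (r : Ω) (hr : r ∈ Q₂), ψ ⟨r, Subgroup.mem_sup_right hr⟩ ∈ Q₂ := by
    intro r hr
    set r' : Ω := (α₂ ⟨r, hr⟩ : Ω) with hr'
    set q := ψ ⟨r, Subgroup.mem_sup_right hr⟩ with hq
    have hu : r'⁻¹ * q ∈ centralizerIn T Kn := by
      refine mem_centralizerIn.2 ⟨T.mul_mem (T.inv_mem (hQ₂T (α₂ ⟨r, hr⟩).2))
        (stronglyClosed_apply hsc hψ (hQ₂T hr)), fun k hk => ?_⟩
      obtain ⟨v, hv⟩ := an.surjective ⟨k, hk⟩
      have hk' : k = ψ ⟨v, Subgroup.mem_sup_left (Subgroup.mem_sup_left v.2)⟩ := by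
        rw [hψX _ (Subgroup.mem_sup_left v.2), hγ.2.1 v, hv]
      have hmem : r * (v : Ω) * r⁻¹ ∈ Kn := (Subgroup.mem_normalizer_iff.1 (hQ₂n hr) v).1 v.2
      have h1 : q * k * q⁻¹ = r' * k * r'⁻¹ := by
        have h2 : q * k * q⁻¹ = (an ⟨_, hmem⟩ : Ω) := by
          rw [hk', hq, ← map_inv, ← map_mul, ← map_mul]
          exact (hψX _ (Subgroup.mem_sup_left hmem)).trans (hγ.2.1 ⟨_, hmem⟩)
        rw [h2, ← han₂, show (⟨r * (v : Ω) * r⁻¹, hKnQ₂ hmem⟩ : Q₂) =
          ⟨r, hr⟩ * ⟨v, hKnQ₂ v.2⟩ * ⟨r, hr⟩⁻¹ from rfl, map_mul, map_mul, map_inv,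
          Subgroup.coe_mul, Subgroup.coe_mul, Subgroup.coe_inv, han₂, hv]
      calc k * (r'⁻¹ * q) = r'⁻¹ * (r' * k * r'⁻¹) * q := by group
        _ = r'⁻¹ * (q * k * q⁻¹) * q := by rw [h1]
        _ = r'⁻¹ * q * k := by group
    have h := Q₂.mul_mem (α₂ ⟨r, hr⟩).2 (hKnQ₂ (hcenn hu))
    rwa [mul_inv_cancel_left] at h
  have hQyX : Q₂ ⊔ Subgroup.zpowers y' ≤ X ⊔ Q₂ :=
    sup_le le_sup_right (((Subgroup.zpowers_le.2 hy'C).trans le_sup_right).trans le_sup_left)
  have hψy : ∀ h, ψ ⟨y', h⟩ = y' := fun h => (hψX y' (Subgroup.mem_sup_right hy'C)).trans hγy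
  obtain ⟨Ψ, hΨ, hΨv⟩ := exists_aut_restrict hψ hQyX fun x hx =>
    forall_mem_sup ψ (le_sup_left.trans hQyX) (le_sup_right.trans hQyX)
      (fun z hz => Subgroup.mem_sup_left (hψQ z hz))
      (fun z hz => by
        obtain ⟨i, rfl⟩ := Subgroup.mem_zpowers_iff.1 hz
        rw [show (⟨y' ^ i, hQyX (Subgroup.mem_sup_right hz)⟩ : ↥(X ⊔ Q₂)) =
          ⟨y', hQyX (Subgroup.mem_sup_right (Subgroup.mem_zpowers y'))⟩ ^ i from
          Subtype.ext (by rw [Subgroup.coe_zpow]), map_zpow, hψy]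
        exact Subgroup.mem_sup_right (zpow_mem (Subgroup.mem_zpowers y') i)) (hQyX hx) hx
  have hQyS : Q₂ ⊔ Subgroup.zpowers y' ≤ S := sup_le hQ₂S (Subgroup.zpowers_le.2 hy'C.1)
  haveI := finite_of_le hQyS
  obtain ⟨i₀, hi, hi1⟩ := exists_pow_coprime (p := p) Ψ hα₂p
  have hα₂i : α₂ ^ i₀ = α₂ := by
    have h1 : α₂ ^ i₀ = α₂ ^ 1 := pow_eq_pow_iff_modEq.2 hi1
    rwa [pow_one] at h1
  set cY : ↥(Q₂ ⊔ Subgroup.zpowers y') :=
    ⟨y', Subgroup.mem_sup_right (Subgroup.mem_zpowers y')⟩ with hcY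
  have hΨc : ∀ n : ℕ, (Ψ ^ n) cY = cY := by
    intro n
    induction n with
    | zero => rfl
    | succ n ih => rw [pow_succ', MulAut.mul_apply, ih]; exact Subtype.ext ((hΨv _).trans (hψy _))
  have hΨQ : ∀ n : ℕ, ∀ v : ↥(Q₂ ⊔ Subgroup.zpowers y'), (v : Ω) ∈ Q₂ → (((Ψ ^ n) v) : Ω) ∈ Q₂ := by
    intro n
    induction n with
    | zero => exact fun v hv => hv
    | succ n ih =>
      intro v hv
      rw [pow_succ, MulAut.mul_apply]
      refine ih _ ?_
      rw [hΨv]
      exact hψQ v hv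
  have hΨK : ∀ n : ℕ, ∀ k : Kn, ((Ψ ^ n) ⟨k, Subgroup.mem_sup_left (hKnQ₂ k.2)⟩ : Ω) =
      (α₂ ^ n) ⟨k, hKnQ₂ k.2⟩ := by
    intro n
    induction n with
    | zero => exact fun k => rfl
    | succ n ih =>
      intro k
      have e1 : Ψ ⟨k, Subgroup.mem_sup_left (hKnQ₂ k.2)⟩ =
          ⟨(an k : Ω), Subgroup.mem_sup_left (hKnQ₂ (an k).2)⟩ :=
        Subtype.ext ((hΨv _).trans ((hψX _ (Subgroup.mem_sup_left k.2)).trans (hγ.2.1 k)))
      have e2 : α₂ ⟨k, hKnQ₂ k.2⟩ = ⟨(an k : Ω), hKnQ₂ (an k).2⟩ := Subtype.ext (han₂ k)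
      rw [pow_succ, pow_succ, MulAut.mul_apply, MulAut.mul_apply, e1, e2]
      exact ih (an k)
  obtain ⟨β, hβ, hβv⟩ := exists_aut_restrict
    ((mem_autGroup_iff hQyS).1 (pow_mem hΨ i₀)) (le_sup_left : Q₂ ≤ Q₂ ⊔ Subgroup.zpowers y')
    (fun x hx => hΨQ i₀ ⟨x, _⟩ hx)
  have hβp : (orderOf β).Coprime p := by
    refine Nat.Coprime.coprime_dvd_left (orderOf_dvd_of_pow_eq_one (MulEquiv.ext fun v => ?_)) hi
    have hpw : ∀ (n : ℕ) (v : Q₂), ((β ^ n) v : Ω) = ((Ψ ^ i₀) ^ n) ⟨v, Subgroup.mem_sup_left v.2⟩ := by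
      intro n
      induction n with
      | zero => exact fun v => rfl
      | succ n ih =>
        intro v
        rw [pow_succ, pow_succ, MulAut.mul_apply, MulAut.mul_apply, ih]
        exact congrArg (fun z => (((Ψ ^ i₀) ^ n) z : Ω)) (Subtype.ext (hβv v))
    refine Subtype.ext ?_
    rw [hpw, pow_orderOf_eq_one]
    rfl
  have hag : ∀ x : Q₂, (x : Ω) ∈ Kn → β x = α₂ x := fun x hx => Subtype.ext (by
    rw [hβv, ← hα₂i]
    exact hΨK i₀ ⟨x, hx⟩)
  have hβE := mem_autGroup_of_agree hS hinv hQ₂T hQ₂n hKnQ₂ hcenn hα₂E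
    (fun x hx => by
      rw [show x = ⟨((⟨x, hx⟩ : Kn) : Ω), hKnQ₂ hx⟩ from rfl, han₂]; exact Subtype.mem _)
    hα₂p hβ hβp hag
  obtain ⟨z, hz, hzC, hzv⟩ := exists_center_conj_of_agree hTp hEs hKnQ₂ hKnC
    ((mem_autGroup_iff hQ₂T).1 hβE) ((mem_autGroup_iff hQ₂T).1 hα₂E)
    (fun x hx => congrArg Subtype.val (hag x hx))
  have hzn : (z : Ω) ∈ Subgroup.normalizer ((Q₂ ⊔ Subgroup.zpowers y' : Subgroup Ω) : Set Ω) :=
    Subgroup.le_normalizer (Subgroup.mem_sup_left z.2)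
  set cz := (Q₂ ⊔ Subgroup.zpowers y').normalizerMonoidHom ⟨z, hzn⟩ with hcz
  set Ξ := Ψ ^ i₀ * cz with hΞ
  have hΞF : Ξ ∈ F.autGroup (Q₂ ⊔ Subgroup.zpowers y') := mul_mem (pow_mem hΨ i₀)
    (autInducedBy_le_autGroup hQyS (le_autInducedBy_apply (K := S) ⟨z, hQ₂S z.2⟩ hzn))
  have hXS : Q ⊔ Subgroup.zpowers y ≤ S := hXN.trans (normalizerIn_le S K)
  refine Subgroup.mem_subgroupOf.2 ((mem_autGroup_iff hQT).2 (mem_fixSystem hTS _
    ((mem_autGroup_iff hQT).1 hαE) ((mem_autGroup_iff hXS).1 (congr_mem_autGroup heX.symm hΞF))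
    (fun x => ?_) ?_))
  · show (eX.symm (Ξ (eX ⟨x, _⟩)) : Ω) = (α x : Ω)
    have e1 : eX ⟨x, Subgroup.mem_sup_left x.2⟩ = ⟨(eQ x : Ω), Subgroup.mem_sup_left (eQ x).2⟩ :=
      Subtype.ext ((heXv _).trans (heQv x).symm)
    have e2 : Ξ ⟨(eQ x : Ω), Subgroup.mem_sup_left (eQ x).2⟩ =
        eX ⟨(α x : Ω), Subgroup.mem_sup_left (α x).2⟩ := by
      refine Subtype.ext ?_
      rw [heXv]
      show ((Ψ ^ i₀) (cz ⟨(eQ x : Ω), _⟩) : Ω) = _
      rw [show cz ⟨(eQ x : Ω), Subgroup.mem_sup_left (eQ x).2⟩ =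
        ⟨((z * eQ x * z⁻¹ : Q₂) : Ω), Subgroup.mem_sup_left (Subtype.mem _)⟩ from rfl]
      refine (hβv _).symm.trans ((hzv (eQ x)).symm.trans ?_)
      show (α₂ (eQ x) : Ω) = _
      rw [hα₂, congr_apply, heQv]
      rfl
    rw [e1, e2, MulEquiv.symm_apply_apply]
  · show (eX.symm (Ξ (eX ⟨y, _⟩)) : Ω) = y
    have e1 : eX ⟨y, Subgroup.mem_sup_right (Subgroup.mem_zpowers y)⟩ = cY :=
      Subtype.ext (heXv _)
    have e2 : Ξ cY = cY := by
      rw [hΞ, MulAut.mul_apply, show cz cY = cY from Subtype.ext (by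
        show (z : Ω) * y' * (z : Ω)⁻¹ = y'
        rw [(mem_centralizerIn.1 hy'C).2 z hz, mul_inv_cancel_right]), hΨc]
    rw [e1, e2, ← e1, MulEquiv.symm_apply_apply]

/-- **An element fixed by `Aut_E(J(T))` is fixed by `E`.** -/
theorem le_fixSystem_of_thompson (hS : IsPGroup p S) (hF : F.IsSaturated p)
    (hE : E.IsNormalIn F p) (hp : p ≠ 2) {y : Ω} (hTS : T ≤ S) (hy : y ∈ centralizerIn S T)
    (hbase : E.autGroup (thompsonSubgroupAOf T) ≤
      (fixSystem F E (Subgroup.zpowers y) hTS (Subgroup.zpowers_le.2 hy)).autGroup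
        (thompsonSubgroupAOf T)) :
    E ≤ fixSystem F E (Subgroup.zpowers y) hTS (Subgroup.zpowers_le.2 hy) := by
  classical
  obtain ⟨⟨hEs, -, hinv⟩, -⟩ := id hE
  haveI := finite_of_le hTS
  have hTp : IsPGroup p T := hS.to_le hTS
  set Fx := fixSystem F E (Subgroup.zpowers y) hTS (Subgroup.zpowers_le.2 hy) with hFx
  set K₀ := thompsonSubgroupAOf T with hK₀
  set w := fun R : Subgroup Ω => weight (Nat.card T) R with hw
  obtain ⟨M, hM⟩ := ((Set.toFinite {R : Subgroup T | True}).image fun R => w (R.map T.subtype)).bddAbove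
  intro P
  induction hd : M - w P using Nat.strong_induction_on generalizing P with
  | _ d ih =>
  intro φ hφ
  have hPT : P ≤ T := le_left hφ
  have hbd : ∀ R : Subgroup Ω, R ≤ T → w R ≤ M := fun R hR =>
    hM ⟨R.subgroupOf T, trivial, by simp only [Subgroup.subgroupOf_map_subtype, inf_eq_left.2 hR]⟩
  have IH : ∀ R : Subgroup Ω, w P < w R → E.Hom R ⊆ Fx.Hom R := by
    intro R hR ψ hψ
    have := hbd R (le_left hψ)
    exact ih (M - w R) (by omega) R rfl hψ
  -- automorphisms of fully normalized subgroups of the same weight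
  have hstep : ∀ Q : Subgroup Ω, E.IsFullyNormalized Q → w P = w Q →
      E.autGroup Q ≤ Fx.autGroup Q := by
    intro Q hQ hPQ
    have hQT : Q ≤ T := hQ.1
    haveI := finite_of_le (hQT.trans hTS)
    by_cases hQK : Q = K₀
    · rw [hQK]; exact hbase
    by_cases hcen : centralizerIn T Q ≤ Q
    swap
    · -- not centric
      intro α hα
      set Q' := Q ⊔ centralizerIn T Q with hQ'
      have hQ'T : Q' ≤ T := sup_le hQT (centralizerIn_le T Q)
      haveI := finite_of_le (hQ'T.trans hTS)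
      obtain ⟨x, hx, hxQ⟩ := SetLike.not_le_iff_exists.1 hcen
      obtain ⟨A, hA, hAc, hA'⟩ := exists_card_eq_abRank Q
      have hc : IsMulCommutative ↥(A ⊔ Subgroup.zpowers x) :=
        isMulCommutative_sup hAc (isMulCommutative_zpowers x) fun a ha => by
          rw [Subgroup.mem_centralizer_iff]
          rintro _ ⟨i, rfl⟩
          exact (Commute.zpow_right ((mem_centralizerIn.1 hx).2 a (hA ha) : Commute a x) i).symm.eq
      have hlt : A < A ⊔ Subgroup.zpowers x := lt_of_le_of_ne le_sup_left fun e =>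
        hxQ (hA (e ▸ Subgroup.mem_sup_right (Subgroup.mem_zpowers x)))
      have hsup : A ⊔ Subgroup.zpowers x ≤ Q' := sup_le (hA.trans le_sup_left)
        (Subgroup.zpowers_le.2 (Subgroup.mem_sup_right hx))
      haveI := finite_of_le (hsup.trans (hQ'T.trans hTS))
      have hrank : abRank Q < abRank Q' := hA' ▸ lt_of_lt_of_le
        (Set.Finite.card_lt_card (Set.toFinite _) (SetLike.coe_ssubset_coe.2 hlt))
        (card_le_abRank hsup hc)
      have hwlt : w P < w Q' := hPQ ▸ weight_lt_of_abWeight_lt (Subgroup.card_le_of_le hQT)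
        (abWeight_lt le_sup_left (Subgroup.card_le_of_le hQ'T) (Or.inl hrank))
      obtain ⟨-, hQr⟩ := automized_receptive hTp hEs hQ
      obtain ⟨ψ, hψ, hψv⟩ := exists_extension hQr ((mem_autGroup_iff hQT).1 hα)
        (sup_le (le_extender hQT fun v => hQT (α v).2) (centralizerIn_le_extender _) :
          Q' ≤ _)
      exact mem_autGroup_of_le_of_eq hQT (Fusion.restrict_mem (IH Q' hwlt hψ) le_sup_left)
        fun v => (hψv v _).symm
    have hNT : normalizerIn T Q ≤ T := normalizerIn_le T Q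
    haveI := finite_of_le (hNT.trans hTS)
    have hQN : Q ≤ normalizerIn T Q := le_normalizerIn hQT
    by_cases hJ : thompsonSubgroupAOf Q = Q
    · -- `Q = J(Q)`
      have hne : ¬ thompsonSubgroupAOf (normalizerIn T Q) ≤ Q := by
        intro hle
        rcases hQT.eq_or_lt with rfl | hlt
        · exact hQK hJ.symm
        have h1 := weight_lt_normalizerIn hS hTS hlt hQK
        obtain ⟨A, hA, hAc, hA'⟩ := exists_card_eq_abRank (normalizerIn T Q)
        have hrk : abRank Q = abRank (normalizerIn T Q) := le_antisymm (abRank_mono hQN)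
          (hA' ▸ card_le_abRank ((le_thompsonSubgroupAOf (mem_maxAbIn_iff.2 ⟨hA, hAc, hA'⟩)).trans hle) hAc)
        have hJN : thompsonSubgroupAOf (normalizerIn T Q) = Q :=
          le_antisymm hle (hJ.ge.trans (thompson_le_of_abRank_eq hQN hrk))
        rcases hNT.eq_or_lt with hNeq | hNlt
        · exact hQK (by rw [hK₀, ← hJN, hNeq])
        · refine (lt_normalizerIn hTp hNlt).not_ge fun v hv => ⟨hv.1, ?_⟩
          have := normalizer_le_normalizer_thompson (normalizerIn T Q) hv.2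
          rwa [hJN] at this
      have hVN : normalizerIn T Q ≤
          Subgroup.normalizer ((Q ⊓ Subgroup.centralizer (Q : Set Ω) : Subgroup Ω) : Set Ω) := by
        intro g hg
        haveI := finite_of_le ((inf_le_left : Q ⊓ Subgroup.centralizer (Q : Set Ω) ≤ Q).trans (hQT.trans hTS))
        refine Subgroup.mem_normalizer_fintype fun v hv => ⟨(Subgroup.mem_normalizer_iff.1 hg.2 v).1 hv.1,
          Subgroup.mem_centralizer_iff.2 fun q hq => ?_⟩
        have h1 := Subgroup.mem_centralizer_iff.1 hv.2 _ ((Subgroup.mem_normalizer_iff''.1 hg.2 q).1 hq)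
        calc q * (g * v * g⁻¹) = g * ((g⁻¹ * q * g) * v) * g⁻¹ := by group
          _ = g * (v * (g⁻¹ * q * g)) * g⁻¹ := by rw [h1]
          _ = g * v * g⁻¹ * q := by group
      obtain ⟨B, hB, hBQ, hBq⟩ := exists_quadratic_maxAb (p := p) (R := Q)
        (hTp.to_le hNT) ((inf_le_left : Q ⊓ Subgroup.centralizer (Q : Set Ω) ≤ Q).trans hQN) hVN
        ⟨⟨fun a b => Subtype.ext (Subgroup.mem_centralizer_iff.1 b.2.2 a a.2.1)⟩⟩
        (fun q hq => Subgroup.mem_centralizer_iff.2 fun v hv =>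
          (Subgroup.mem_centralizer_iff.1 hv.2 q hq).symm) hne
      refine autGroup_le_of_quadratic hS hF hE hp hTS hy hQ hcen hB.1
        (fun b hb v hv hvC => hBq b hb v ⟨hv, hvC⟩) fun J hQJ hBJ hJN => IH J ?_
      haveI := finite_of_le (hJN.trans (hNT.trans hTS))
      rw [hPQ]
      refine weight_lt_of_abWeight_lt (Subgroup.card_le_of_le hQT)
        (abWeight_lt hQJ (Subgroup.card_le_of_le (hJN.trans hNT)) ?_)
      by_cases hrk : abRank Q < abRank J
      · exact Or.inl hrk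
      refine Or.inr fun hle => hBQ ((le_thompsonSubgroupAOf (mem_maxAbIn_iff.2 ⟨hBJ, hB.2.1, ?_⟩)).trans hle)
      exact le_antisymm (card_le_abRank hBJ hB.2.1)
        ((abRank_mono hJN).trans (mem_maxAbIn_iff.1 hB).2.2.ge)
    · -- `Q ≠ J(Q)`: move `J(Q)` to a fully normalized subgroup
      set K := thompsonSubgroupAOf Q with hK
      have hKQ : K ≤ Q := thompsonSubgroupAOf_le Q
      have hKT : K ≤ T := hKQ.trans hQT
      haveI := finite_of_le (hKT.trans hTS)
      suffices main : ∀ R : Subgroup Ω, E.IsFullyNormalized R → w P = w R →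
          thompsonSubgroupAOf R ≠ R → centralizerIn T R ≤ R →
          E.IsFullyNormalized (thompsonSubgroupAOf R) → E.autGroup R ≤ Fx.autGroup R by
        rcases hQT.eq_or_lt with rfl | hlt
        · refine main Q hQ hPQ hJ hcen ⟨hKQ, fun R' _ => ?_⟩
          haveI := finite_of_le ((normalizerIn_le Q R').trans hTS)
          haveI := finite_of_le ((normalizerIn_le Q K).trans hTS)
          refine le_trans (Subgroup.card_le_of_le (normalizerIn_le Q R')) (Subgroup.card_le_of_le ?_)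
          exact fun v hv => ⟨hv, normalizer_le_normalizer_thompson Q (Subgroup.le_normalizer hv)⟩
        obtain ⟨K', hKK', hK'⟩ := exists_fullyNormalized (F := E) hKT
        obtain ⟨hK'a, hK'r⟩ := automized_receptive hTp hEs hK'
        obtain ⟨ψ, hψ, -, hψK⟩ := exists_map_normalizerIn hTp hK'a hK'r hKK'
        have hNQK : normalizerIn T Q ≤ normalizerIn T K := fun v hv =>
          ⟨hv.1, normalizer_le_normalizer_thompson Q hv.2⟩
        have hNKT : normalizerIn T K ≤ T := normalizerIn_le T K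
        haveI := finite_of_le (hNKT.trans hTS)
        have hQlt : Q < normalizerIn T K := lt_of_lt_of_le (lt_normalizerIn hTp hlt) hNQK
        have hψFx := IH _ (hPQ ▸ weight_lt_of_lt hQlt (Subgroup.card_le_of_le hNKT) (Or.inl hJ)) hψ
        have hQle : Q ≤ normalizerIn T K := hQlt.le
        obtain ⟨e, he, hev⟩ := exists_iso_restrict (F := Fx) hψFx hQle
        have heE : IsIso E e := Fusion.mem_congr (Fusion.restrict_mem hψ hQle) hev
        have hRfn : E.IsFullyNormalized (imgHom ψ Q) := by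
          refine ⟨imgHom_le hψ Q, fun R' hR' => ?_⟩
          refine (hQ.2 R' (isConj_trans heE.isConj hR')).trans ?_
          haveI := finite_of_le ((normalizerIn_le T (imgHom ψ Q)).trans hTS)
          refine Nat.card_le_card_of_injective (fun v : normalizerIn T Q =>
            (⟨ψ ⟨v, hNQK v.2⟩, apply_mem hψ _,
              map_mem_normalizer hQle (ψ := ψ) (g := ⟨v, hNQK v.2⟩) v.2.2⟩ : normalizerIn T (imgHom ψ Q)))
            fun a b h => Subtype.ext (congrArg Subtype.val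
              (E.injective_of_mem hψ (congrArg Subtype.val h : ψ _ = ψ _)) :)
        have hRK : thompsonSubgroupAOf (imgHom ψ Q) = K' := by
          rw [← hψK]
          refine le_antisymm (fun v hv => ?_) ?_
          · obtain ⟨u, rfl⟩ : ∃ u : Q, (e u : Ω) = v :=
              ⟨e.symm ⟨v, thompsonSubgroupAOf_le (imgHom ψ Q) hv⟩, by rw [MulEquiv.apply_symm_apply]⟩
            have h1 := apply_mem_thompson e.symm (e u) hv
            rw [MulEquiv.symm_apply_apply] at h1
            exact ⟨⟨u, hQle u.2⟩, h1, (hev u).symm⟩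
          · rintro _ ⟨u, hu, rfl⟩
            rw [← hev ⟨u, hKQ hu⟩]
            exact apply_mem_thompson e ⟨u, hKQ hu⟩ hu
        have hcenR : centralizerIn T (imgHom ψ Q) ≤ (imgHom ψ Q) :=
          (isCentric_of_fullyCentralized hTp hEs (fullyCentralized_of_normalized hTp hEs hQ) hcen).2 (imgHom ψ Q) heE.isConj
        have hmain := main (imgHom ψ Q) hRfn (hPQ.trans (weight_eq_of_equiv e))
          (fun h => hJ ((thompson_eq_iff_of_equiv e).2 h)) hcenR (hRK ▸ hK')
        intro α hα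
        exact (congr_mem_autGroup_iff he).1 (hmain (congr_mem_autGroup heE hα))
      intro R hR hPR hJR hcR hKR
      have hRT : R ≤ T := hR.1
      haveI := finite_of_le (hRT.trans hTS)
      set L := thompsonSubgroupAOf R with hL
      have hLR : L ≤ R := thompsonSubgroupAOf_le R
      by_cases hcL : centralizerIn T L ≤ R
      · refine autGroup_le_of_thompson hS hF hE hTS hy hR hKR ?_
          (IH _ (hPR ▸ weight_thompson (Subgroup.card_le_of_le hRT) hJR))
        exact fun v hv => mem_thompson_of_centralize (hcL hv) fun u hu =>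
          (mem_centralizerIn.1 hv).2 u hu
      · -- quadratic elements centralizing `J(R)`
        set C := centralizerIn T L with hC
        have hRnC : R ≤ Subgroup.normalizer (C : Set Ω) := by
          intro g hg
          haveI := finite_of_le ((centralizerIn_le T L).trans hTS : C ≤ S)
          have hgL := normalizer_le_normalizer_thompson R (Subgroup.le_normalizer hg)
          refine Subgroup.mem_normalizer_fintype fun v hv => mem_centralizerIn.2
            ⟨T.mul_mem (T.mul_mem (hRT hg) hv.1) (T.inv_mem (hRT hg)), fun q hq => ?_⟩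
          have h1 := (mem_centralizerIn.1 hv).2 _ ((Subgroup.mem_normalizer_iff''.1 hgL q).1 hq)
          calc q * (g * v * g⁻¹) = g * ((g⁻¹ * q * g) * v) * g⁻¹ := by group
            _ = g * (v * (g⁻¹ * q * g)) * g⁻¹ := by rw [h1]
            _ = g * v * g⁻¹ * q := by group
        have hlt : R < R ⊔ C := lt_of_le_of_ne le_sup_left fun e => hcL (e ▸ le_sup_right)
        have hRCT : R ⊔ C ≤ T := sup_le hRT (centralizerIn_le T L)
        haveI := finite_of_le (hRCT.trans hTS)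
        obtain ⟨m, hm, hmR⟩ := SetLike.exists_of_lt (lt_normalizerIn (hTp.to_le hRCT) hlt)
        have hm' : m ∈ (R : Set Ω) * (C : Set Ω) := by
          rw [← Subgroup.coe_mul_of_left_le_normalizer_right R C hRnC]; exact hm.1
        obtain ⟨r, hr, x, hx, rfl⟩ := hm'
        have hxN : x ∈ normalizerIn T R := ⟨hx.1, by
          have := Subgroup.mul_mem _ (Subgroup.inv_mem _ (Subgroup.le_normalizer hr)) hm.2
          rwa [inv_mul_cancel_left] at this⟩
        have hxR : x ∉ R := fun h => hmR (R.mul_mem hr h)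
        have hZL : ∀ v ∈ R, v ∈ Subgroup.centralizer (R : Set Ω) → v ∈ L := fun v hv hvC =>
          mem_thompson_of_centralize hv fun u hu => Subgroup.mem_centralizer_iff.1 hvC u (hLR hu)
        refine autGroup_le_of_quadratic hS hF hE hp hTS hy hR hcR (B := Subgroup.zpowers x)
          (Subgroup.zpowers_le.2 hxN) (fun b hb v hv hvC => ?_) fun J hRJ hBJ hJN => IH J ?_
        · obtain ⟨i, rfl⟩ := Subgroup.mem_zpowers_iff.1 hb
          have h1 : Commute (x ^ i) v :=
            (Commute.zpow_left ((mem_centralizerIn.1 hx).2 v (hZL v hv hvC) : Commute v x).symm i)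
          rw [h1.eq, mul_inv_cancel_right, mul_inv_cancel]
          exact Commute.one_right _
        · haveI := finite_of_le (hJN.trans ((normalizerIn_le T R).trans hTS))
          rw [hPR]
          exact weight_lt_of_lt (lt_of_le_of_ne hRJ fun e => hxR (e ▸ hBJ (Subgroup.mem_zpowers x)))
            (Subgroup.card_le_of_le (hJN.trans (normalizerIn_le T R))) (Or.inl hJR)
  -- conjugation into a fully normalized subgroup
  have hK₀T : K₀ ≤ T := thompsonSubgroupAOf_le T
  by_cases hPK : P = K₀ ∨ P = T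
  · have hPn : E.IsFullyNormalized P := by
      rcases hPK with rfl | rfl
      · refine ⟨hK₀T, fun R' _ => ?_⟩
        haveI := finite_of_le ((normalizerIn_le T K₀).trans hTS)
        refine le_trans (Subgroup.card_le_of_le (normalizerIn_le T R')) (Subgroup.card_le_of_le ?_)
        exact fun v hv => ⟨hv, normalizer_le_normalizer_thompson T (Subgroup.le_normalizer hv)⟩
      · exact isFullyNormalized_self
    have hr : φ.range = P := by
      obtain ⟨e, -, -⟩ := exists_iso_range hφ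
      rcases hPK with rfl | rfl
      · exact eq_thompson_of_equiv hTS (range_le hφ) e
      · exact eq_S_of_isConj ⟨φ, hφ, rfl⟩
    obtain ⟨α, hα, hαφ⟩ := exists_iso hφ hr
    exact Fusion.mem_congr
      ((mem_autGroup_iff hPT).1 (hstep P hPn rfl ((mem_autGroup_iff hPT).2 hα)))
      fun x => (hαφ x).symm
  push Not at hPK
  obtain ⟨Q, hPQ, hQ⟩ := exists_fullyNormalized (F := E) hPT
  obtain ⟨hQa, hQr⟩ := automized_receptive hTp hEs hQ
  obtain ⟨e, he, heφ⟩ := exists_iso_range hφ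
  have hlt : P < T := lt_of_le_of_ne hPT hPK.2
  have key : ∀ R, E.IsConj R Q → E.IsConj P R → ∃ e : R ≃* Q, IsIso E e ∧ IsIso Fx e := by
    intro R hRQ hPR
    have hR := le_of_isConj_left hRQ
    obtain ⟨f, hf⟩ := isConj_iff.1 hPR
    obtain ⟨χ, hχ, -, himg⟩ := exists_map_normalizerIn hTp hQa hQr hRQ
    have hle := le_normalizerIn hR
    have hRT' : R < T := lt_of_le_of_ne hR fun h => by
      subst h
      haveI := finite_of_le hTS
      exact hlt.ne (Subgroup.eq_of_le_of_card_ge hPT (Nat.card_congr f.toEquiv).ge)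
    have hRK : R ≠ K₀ := fun h => hPK.1 (eq_thompson_of_equiv hTS hPT (f.trans (MulEquiv.subgroupCongr h)).symm)
    have hw' : w P < w (normalizerIn T R) := by
      show weight _ P < _
      rw [weight_eq_of_equiv f]
      exact weight_lt_normalizerIn hS hTS hRT' hRK
    obtain ⟨g, hg, hgχ⟩ :=
      exists_iso (Fusion.restrict_mem hχ hle) ((range_restrictHom χ hle).trans himg)
    exact ⟨g, hg, Fusion.mem_congr (Fusion.restrict_mem (IH _ hw' hχ) hle) hgχ⟩
  obtain ⟨χ, hχE, hχF⟩ := key P hPQ (isConj_refl hPT)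
  obtain ⟨χ', hχE', hχF'⟩ := key φ.range (isConj_trans (isConj_symm he.isConj) hPQ) he.isConj
  have hα : IsIso E (χ.symm.trans (e.trans χ')) := hχE.symm.trans (he.trans hχE')
  have hαE := (mem_autGroup_iff hQ.1).1
    (hstep Q hQ (weight_eq_of_equiv χ) ((mem_autGroup_iff hQ.1).2 hα))
  refine Fusion.mem_congr (hχF.trans (hαE.trans hχF'.symm)) fun x => ?_
  simp [← heφ x]

/-- **For odd `p`, every element of `C_S(T)` times some element of `Z(T)` is fixed by `E`.** -/
theorem exists_fixed_mul (hS : IsPGroup p S) (hF : F.IsSaturated p) (hE : E.IsNormalIn F p)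
    (hp : p ≠ 2) {c : Ω} (hc : c ∈ centralizerIn S T) :
    ∃ z ∈ T, c * z ∈ centralizerIn S T ∧
      ∀ P : Subgroup Ω, E.Hom P ⊆ F.centralizerHom (Subgroup.zpowers (c * z)) P := by
  classical
  obtain ⟨⟨hEs, -, hinv⟩, -⟩ := id hE
  have hTS : T ≤ S := hinv.2.1.1
  haveI := finite_of_le hTS
  have hTp : IsPGroup p T := hS.to_le hTS
  set K := thompsonSubgroupAOf T with hK
  have hKT : K ≤ T := thompsonSubgroupAOf_le T
  haveI := finite_of_le (hKT.trans hTS)
  have hKn : T ≤ Subgroup.normalizer (K : Set Ω) :=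
    Subgroup.le_normalizer.trans (normalizer_le_normalizer_thompson T)
  have hKfn : E.IsFullyNormalized K := ⟨hKT, fun R' _ => by
    haveI := finite_of_le ((normalizerIn_le T K).trans hTS)
    exact le_trans (Subgroup.card_le_of_le (normalizerIn_le T R'))
      (Subgroup.card_le_of_le fun v hv => ⟨hv, hKn hv⟩)⟩
  have hcen : centralizerIn T K ≤ K := fun v hv =>
    mem_thompson_of_centralize hv.1 fun u hu => (mem_centralizerIn.1 hv).2 u hu
  obtain ⟨⟨-, P, hP⟩, -⟩ := automized_receptive hTp hEs hKfn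
  obtain ⟨τ, hτF, hτR, hτc, hτP, -⟩ := exists_fixLift hS hF hE hKfn hcen hc
  set cX : ↥(K ⊔ Subgroup.zpowers c) := ⟨c, Subgroup.mem_sup_right (Subgroup.mem_zpowers c)⟩ with hcX
  letI : CommGroup (Subgroup.center K) :=
    { (inferInstance : Group (Subgroup.center K)) with
      mul_comm := fun a b => Subtype.ext (Subgroup.mem_center_iff.1 b.2 a) }
  letI : MulDistribMulAction (E.autGroup K) (Subgroup.center K) :=
    { smul := fun a v => ⟨(a : MulAut K) v, Subgroup.mem_center_iff.2 fun g => by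
        obtain ⟨h, rfl⟩ := (a : MulAut K).surjective g
        rw [← map_mul, ← map_mul, Subgroup.mem_center_iff.1 v.2 h]⟩
      one_smul := fun v => Subtype.ext rfl
      mul_smul := fun a b v => Subtype.ext rfl
      smul_mul := fun a u v => Subtype.ext (map_mul (a : MulAut K) (u : K) (v : K))
      smul_one := fun a => Subtype.ext (map_one (a : MulAut K)) }
  have hsmul : ∀ (a : E.autGroup K) (v : Subgroup.center K),
      ((a • v : Subgroup.center K) : K) = (a : MulAut K) v := fun _ _ => rfl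
  have hcK : ∀ q : K, (q : Ω) * c = c * q := fun q => (mem_centralizerIn.1 hc).2 q (hKT q.2)
  have hfcen : ∀ a : E.autGroup K, (⟨c⁻¹ * (τ a cX : Ω), hτc a⟩ : K) ∈ Subgroup.center K := by
    intro a
    refine Subgroup.mem_center_iff.2 fun g => ?_
    obtain ⟨h, rfl⟩ := (a : MulAut K).surjective g
    refine Subtype.ext ?_
    show ((a : MulAut K) h : Ω) * (c⁻¹ * (τ a cX : Ω)) = c⁻¹ * (τ a cX : Ω) * ((a : MulAut K) h : Ω)
    have h1 : (⟨h, Subgroup.mem_sup_left h.2⟩ : ↥(K ⊔ Subgroup.zpowers c)) * cX =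
        cX * ⟨h, Subgroup.mem_sup_left h.2⟩ := Subtype.ext (hcK h)
    have h2 := congrArg (fun z => (τ a z : Ω)) h1
    simp only [map_mul, Subgroup.coe_mul, hτR] at h2
    rw [← mul_assoc, show ((a : MulAut K) h : Ω) * c⁻¹ = c⁻¹ * ((a : MulAut K) h : Ω) from
      (Commute.inv_right (hcK _ : Commute ((a : MulAut K) h : Ω) c)).eq, mul_assoc, h2, mul_assoc]
  let f : E.autGroup K → Subgroup.center K := fun a => ⟨_, hfcen a⟩
  have hfv : ∀ a, (τ a cX : Ω) = c * ((f a : K) : Ω) := fun a => (mul_inv_cancel_left c _).symm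
  have hf : ∀ a b, f (a * b) = f a * a • f b := fun a b => by
    refine Subtype.ext (Subtype.ext (mul_left_cancel (a := c) ?_))
    rw [← hfv, map_mul, MulAut.mul_apply, Subgroup.coe_mul, Subgroup.coe_mul, hsmul,
      show τ b cX = cX * ⟨((f b : K) : Ω), Subgroup.mem_sup_left (f b : K).2⟩ from
        Subtype.ext (hfv b), map_mul, Subgroup.coe_mul, hfv, hτR, mul_assoc]
  have hfP : ∀ a ∈ (P : Subgroup (E.autGroup K)), f a = 1 := fun a ha =>
    Subtype.ext (Subtype.ext (by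
      show c⁻¹ * (τ a cX : Ω) = 1
      rw [hτP a (Subgroup.mem_subgroupOf.1 ((le_of_eq hP) ha)), inv_mul_cancel]))
  obtain ⟨z, hzP, hzf⟩ := cocycle_eq_coboundary hf (V := Subgroup.center K)
    ((hS.to_le (hKT.trans hTS)).to_subgroup _) P hfP
  set zΩ : Ω := ((z : K) : Ω) with hzΩ
  have hzT : zΩ ∈ T := hKT (z : K).2
  have hzc : ∀ t ∈ T, t * zΩ = zΩ * t := by
    intro t ht
    have ha : (⟨K.normalizerMonoidHom ⟨t, hKn ht⟩,
        autInducedBy_le_autGroup hKT (le_autInducedBy_apply (K := T) ⟨t, ht⟩ (hKn ht))⟩ :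
          E.autGroup K) ∈ (P : Subgroup (E.autGroup K)) := by
      rw [hP]; exact le_autInducedBy_apply (K := T) ⟨t, ht⟩ (hKn ht)
    have h1 : t * zΩ * t⁻¹ = zΩ := congrArg (fun v : Subgroup.center K => ((v : K) : Ω)) (hzP _ ha)
    exact mul_inv_eq_iff_eq_mul.1 h1
  have hy : c * zΩ ∈ centralizerIn S T :=
    (centralizerIn S T).mul_mem hc (mem_centralizerIn.2 ⟨hTS hzT, hzc⟩)
  refine ⟨zΩ, hzT, hy, ?_⟩
  set y := c * zΩ with hydef
  have hle : K ⊔ Subgroup.zpowers y ≤ K ⊔ Subgroup.zpowers c := sup_le le_sup_left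
    (Subgroup.zpowers_le.2 (Subgroup.mul_mem _ (Subgroup.mem_sup_right (Subgroup.mem_zpowers c))
      (Subgroup.mem_sup_left (z : K).2)))
  have hcS : K ⊔ Subgroup.zpowers c ≤ S :=
    sup_le (hKT.trans hTS) (Subgroup.zpowers_le.2 hc.1)
  have hbase : E.autGroup K ≤
      (fixSystem F E (Subgroup.zpowers y) hTS (Subgroup.zpowers_le.2 hy)).autGroup K := by
    intro a ha
    refine (mem_autGroup_iff hKT).2 (mem_fixSystem hTS _ ((mem_autGroup_iff hKT).1 ha)
      (Fusion.restrict_mem ((mem_autGroup_iff hcS).1 (hτF ⟨a, ha⟩)) hle)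
      (fun x => hτR ⟨a, ha⟩ x) ?_)
    show (τ ⟨a, ha⟩ (Subgroup.inclusion hle ⟨y, _⟩) : Ω) = y
    rw [show Subgroup.inclusion hle ⟨y, Subgroup.mem_sup_right (Subgroup.mem_zpowers y)⟩ =
      cX * ⟨zΩ, Subgroup.mem_sup_left (z : K).2⟩ from rfl, map_mul, Subgroup.coe_mul, hfv, hτR,
      hydef, mul_assoc]
    congr 1
    have h2 : f ⟨a, ha⟩ * (⟨a, ha⟩ : E.autGroup K) • z = z := by rw [hzf, div_mul_cancel]
    exact congrArg (fun v : Subgroup.center K => ((v : K) : Ω)) h2
  have hall := le_fixSystem_of_thompson hS hF hE hp hTS hy hbase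
  intro Q φ hφ
  obtain ⟨-, ψ, hψ, h1, h2⟩ := hall Q hφ
  refine ⟨hinv.1 Q hφ, fun v hv => ?_, fun v => ?_, ψ, hψ, h1, h2⟩
  · exact centralizerIn_anti le_rfl (mem_centralizerIn.2 ⟨hTS (le_left hφ hv), fun u hu =>
      ((mem_centralizerIn.1 (Subgroup.zpowers_le.2 hy hu)).2 v (le_left hφ hv)).symm⟩)
  · exact mem_centralizerIn.2 ⟨hTS (apply_mem hφ v), fun u hu =>
      ((mem_centralizerIn.1 (Subgroup.zpowers_le.2 hy hu)).2 _ (apply_mem hφ v)).symm⟩

end CfsgLib.FusionNormal
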