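import Cfsg.Agent.FusionNormal.GoodSection

/-!
For `c` centralizing `T` and a centric fully normalized `R`, the automorphisms in `E` of `R` lift
canonically to `R⟨c⟩`.
-/

set_option autoImplicit false

universe u

namespace CfsgLib.FusionNormal

open Cfsg Cfsg.FusionSystem CfsgLib.Fusion

variable {Ω : Type u} [Group Ω] {S T R : Subgroup Ω} {F : FusionSystem S} {E : FusionSystem T}
  {p : ℕ} [Finite S] [Fact p.Prime]

/-- An element of `C_S(T)` centralizes every subgroup of `T`. -/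
theorem mem_centralizerIn_of_le {c : Ω} (hRT : R ≤ T) (hc : c ∈ centralizerIn S T) :
    c ∈ centralizerIn S R :=
  centralizerIn_anti hRT hc

/-- The canonical lifts to `R⟨c⟩`. -/
theorem exists_fixLift (hS : IsPGroup p S) (hF : F.IsSaturated p) (hE : E.IsNormalIn F p)
    (hR : E.IsFullyNormalized R) (hcen : centralizerIn T R ≤ R) {c : Ω}
    (hc : c ∈ centralizerIn S T) :
    ∃ τ : E.autGroup R →* MulAut ↥(R ⊔ Subgroup.zpowers c),
      (∀ a, τ a ∈ F.autGroup (R ⊔ Subgroup.zpowers c)) ∧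
      (∀ (a : E.autGroup R) (r : R),
        (τ a ⟨r, Subgroup.mem_sup_left r.2⟩ : Ω) = ((a : MulAut R) r : Ω)) ∧
      (∀ a : E.autGroup R, c⁻¹ * (τ a ⟨c, Subgroup.mem_sup_right (Subgroup.mem_zpowers c)⟩ : Ω) ∈ R) ∧
      (∀ a : E.autGroup R, (a : MulAut R) ∈ autInducedBy T R →
        (τ a ⟨c, Subgroup.mem_sup_right (Subgroup.mem_zpowers c)⟩ : Ω) = c) ∧
      ∀ a : E.autGroup R, (orderOf a).Coprime p →
        ∀ θ ∈ F.Hom (R ⊔ Subgroup.zpowers c),
          (∀ r : R, θ ⟨r, Subgroup.mem_sup_left r.2⟩ = ((a : MulAut R) r : Ω)) →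
          θ ⟨c, Subgroup.mem_sup_right (Subgroup.mem_zpowers c)⟩ = c →
            (τ a ⟨c, Subgroup.mem_sup_right (Subgroup.mem_zpowers c)⟩ : Ω) = c := by
  classical
  obtain ⟨⟨hEs, -, hinv⟩, -⟩ := id hE
  have hsc := hinv.2.1
  have hTS : T ≤ S := hsc.1
  haveI := finite_of_le hTS
  have hTp : IsPGroup p T := hS.to_le hTS
  have hRT : R ≤ T := hR.1
  have hRS : R ≤ S := hRT.trans hTS
  have hcR : c ∈ centralizerIn S R := centralizerIn_anti hRT hc
  obtain ⟨Rn, hRRn, hRn⟩ := exists_fullyNormalized (F := F) hRS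
  obtain ⟨hRna, hRnr⟩ := automized_receptive hS hF hRn
  obtain ⟨η, hη, hηN, hηR⟩ := exists_map_normalizerIn hS hRna hRnr hRRn
  have hRN : R ≤ normalizerIn S R := le_normalizerIn hRS
  have hcN : c ∈ normalizerIn S R := centralizerIn_le_normalizerIn S R hcR
  have hXN : R ⊔ Subgroup.zpowers c ≤ normalizerIn S R := sup_le hRN (Subgroup.zpowers_le.2 hcN)
  have hXS : R ⊔ Subgroup.zpowers c ≤ S := hXN.trans (normalizerIn_le S R)
  set c' := η ⟨c, hcN⟩ with hc'
  have hc'S : c' ∈ S := apply_mem hη _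
  have hRnS : Rn ≤ S := hRn.1
  have hRnT : Rn ≤ T := by
    rw [← hηR]; rintro _ ⟨x, hx, rfl⟩; exact stronglyClosed_apply hsc hη (hRT hx)
  have hc'C : c' ∈ centralizerIn S Rn := by
    refine mem_centralizerIn.2 ⟨hc'S, ?_⟩
    rw [← hηR]
    rintro _ ⟨x, hx, rfl⟩
    rw [hc', ← map_mul, ← map_mul]
    exact congrArg η (Subtype.ext ((mem_centralizerIn.1 hcR).2 x hx))
  have hRC : E.IsCentric R :=
    isCentric_of_fullyCentralized hTp hEs (fullyCentralized_of_normalized hTp hEs hR) hcen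
  have hcenn : centralizerIn T Rn ≤ Rn := centralizerIn_le_of_isConj hinv hRC hRRn
  obtain ⟨σ, hσ, hσT⟩ := exists_goodSection hS hF hE hRnT hRn hcenn
  obtain ⟨eR, heR, heRv⟩ :=
    exists_iso (Fusion.restrict_mem hη hRN) ((range_restrictHom η hRN).trans hηR)
  set X' := Rn ⊔ Subgroup.zpowers c' with hX'
  have hX'S : X' ≤ S := sup_le hRnS (Subgroup.zpowers_le.2 hc'S)
  haveI := finite_of_le hX'S
  obtain ⟨eC, heC, heCv⟩ := exists_iso (Fusion.restrict_mem hη hXN) (Q := X') (by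
    rw [range_restrictHom, imgHom_sup η hRN (Subgroup.zpowers_le.2 hcN), hηR,
      imgHom_zpowers η hcN])
  have hX'X : X' ≤ Rn ⊔ centralizerIn S Rn :=
    sup_le_sup_left (Subgroup.zpowers_le.2 hc'C) _
  have hW : Rn ⊔ centralizerIn S Rn ≤ S := sup_le hRnS (centralizerIn_le S Rn)
  haveI := finite_of_le hW
  let an : E.autGroup R →* E.autGroup Rn := MonoidHom.mk'
    (fun a => ⟨MulAut.congr eR a,
      congr_mem_of_invariant (strongInvariant_of_invariant hinv) hRT hRnT heR a.2⟩)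
    fun a b => Subtype.ext (map_mul (MulAut.congr eR) (a : MulAut R) (b : MulAut R))
  have hG : ∀ a : E.autGroup Rn, ∃ g ∈ F.autGroup X', ∀ x : X',
      (g x : Ω) = σ a ⟨x, hX'X x.2⟩ := fun a => by
    obtain ⟨g, hg, hgv⟩ := exists_aut_restrict ((mem_autGroup_iff hW).1 (hσ a).1) hX'X fun x hx =>
      forall_mem_sup ((Rn ⊔ centralizerIn S Rn).subtype.comp (σ a).toMonoidHom)
        le_sup_left ((Subgroup.zpowers_le.2 hc'C).trans le_sup_right)
        (fun y hy => Subgroup.mem_sup_left ((hσ a).mem_left _ hy))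
        (fun y hy => by
          have h1 := (hσ a).2.2 ⟨y, Subgroup.mem_sup_right (Subgroup.zpowers_le.2 hc'C hy)⟩
            (Subgroup.zpowers_le.2 hc'C hy)
          have h2 : y * (y⁻¹ * (σ a ⟨y, Subgroup.mem_sup_right (Subgroup.zpowers_le.2 hc'C hy)⟩ : Ω)) ∈
              X' := X'.mul_mem (Subgroup.mem_sup_right hy) (Subgroup.mem_sup_left h1)
          rwa [mul_inv_cancel_left] at h2) (hX'X hx) hx
    exact ⟨g, hg, hgv⟩
  choose G hGF hGv using hG
  let τ : E.autGroup R →* MulAut ↥(R ⊔ Subgroup.zpowers c) := MonoidHom.mk'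
    (fun a => MulAut.congr eC.symm (G (an a))) fun a b => by
      rw [← map_mul (MulAut.congr eC.symm)]
      refine congrArg (MulAut.congr eC.symm) (MulEquiv.ext fun x => Subtype.ext ?_)
      rw [map_mul an, hGv, map_mul σ, MulAut.mul_apply, MulAut.mul_apply, hGv]
      exact congrArg (fun z => ((σ (an a)) z : Ω)) (Subtype.ext (hGv _ x).symm)
  have hτ : ∀ a x, (eC (τ a x) : Ω) = (G (an a) (eC x) : Ω) := fun a x => by
    show (eC (eC.symm (G (an a) (eC x))) : Ω) = _
    rw [MulEquiv.apply_symm_apply]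
  have hη1 : ∀ {x y : ↥(R ⊔ Subgroup.zpowers c)}, (eC x : Ω) = (eC y : Ω) → x = y :=
    fun h => eC.injective (Subtype.ext h)
  have hτR : ∀ (a : E.autGroup R) (r : R),
      τ a ⟨r, Subgroup.mem_sup_left r.2⟩ =
        ⟨((a : MulAut R) r : Ω), Subgroup.mem_sup_left (Subtype.mem _)⟩ := by
    intro a r
    apply hη1
    rw [hτ, hGv]
    have e1 : (⟨(eC ⟨r, Subgroup.mem_sup_left r.2⟩ : Ω),
        hX'X (eC _).2⟩ : ↥(Rn ⊔ centralizerIn S Rn)) =
        ⟨(eR r : Ω), Subgroup.mem_sup_left (eR r).2⟩ :=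
      Subtype.ext ((heCv _).trans (heRv r).symm)
    rw [e1, (hσ (an a)).2.1 (eR r)]
    show (MulAut.congr eR (a : MulAut R) (eR r) : Ω) = _
    rw [congr_apply, heRv, heCv]
    rfl
  set cX : ↥(R ⊔ Subgroup.zpowers c) := ⟨c, Subgroup.mem_sup_right (Subgroup.mem_zpowers c)⟩ with hcX
  have hec : (eC cX : Ω) = c' := heCv cX
  refine ⟨τ, fun a => congr_mem_autGroup heC.symm (hGF _), fun a r => congrArg Subtype.val (hτR a r),
    fun a => ?_, fun a ha => ?_, fun a hap θ hθ hθr hθc => ?_⟩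
  · have h1 := (hσ (an a)).2.2 ⟨(eC cX : Ω), hX'X (eC cX).2⟩ (show (eC cX : Ω) ∈ _ by rw [hec]; exact hc'C)
    rw [← hGv, ← hτ] at h1
    obtain ⟨r, hr⟩ := eR.surjective ⟨_, h1⟩
    have h2 : cX⁻¹ * τ a cX = ⟨r, Subgroup.mem_sup_left r.2⟩ := hη1 (by
      rw [map_mul, map_inv, Subgroup.coe_mul, Subgroup.coe_inv, heCv ⟨r, _⟩]
      exact (congrArg Subtype.val hr).symm.trans (heRv r))
    have h3 := congrArg Subtype.val h2
    rw [Subgroup.coe_mul, Subgroup.coe_inv] at h3
    rw [h3]; exact r.2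
  · obtain ⟨t, ht, htN, htv⟩ := mem_autInducedBy_iff.1 ha
    have htS : t ∈ normalizerIn S R := ⟨hTS ht, htN⟩
    set t' := η ⟨t, htS⟩ with ht'
    have ht'T : t' ∈ T := stronglyClosed_apply hsc hη ht
    have h1 := hσT t' ht'T (hηN _).2 (an a) fun y => by
      obtain ⟨r, rfl⟩ := eR.surjective y
      show (MulAut.congr eR (a : MulAut R) (eR r) : Ω) = _
      rw [congr_apply, heRv, heRv, ht', ← map_inv]
      show η _ = η _ * η (Subgroup.inclusion hRN r) * η _
      rw [← map_mul, ← map_mul]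
      exact congrArg η (Subtype.ext (htv r))
    refine congrArg Subtype.val (hη1 (x := τ a cX) (y := cX) ?_)
    rw [hτ, hGv, h1]
    show t' * (eC cX : Ω) * t'⁻¹ = _
    rw [hec, hc', ht', ← map_inv, ← map_mul, ← map_mul]
    refine congrArg η (Subtype.ext ?_)
    show t * c * t⁻¹ = c
    rw [(mem_centralizerIn.1 hc).2 t ht, mul_inv_cancel_right]
  · -- uniqueness for elements of order prime to `p`
    obtain ⟨D, hD⟩ := exists_isCentralizerSystem F hRnS
    haveI := finite_of_le hXS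
    obtain ⟨Θ, hΘ, hΘv⟩ := exists_aut_restrict hθ le_rfl fun x hx =>
      forall_mem_sup θ le_sup_left le_sup_right
        (fun y hy => Subgroup.mem_sup_left (by rw [hθr ⟨y, hy⟩]; exact Subtype.mem _))
        (fun y hy => by
          obtain ⟨i, rfl⟩ := Subgroup.mem_zpowers_iff.1 hy
          rw [show (⟨c ^ i, Subgroup.mem_sup_right hy⟩ : ↥(R ⊔ Subgroup.zpowers c)) = cX ^ i from
            Subtype.ext (by rw [Subgroup.coe_zpow]), map_zpow, hθc]
          exact Subgroup.mem_sup_right (zpow_mem (Subgroup.mem_zpowers c) i)) hx hx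
    have hΘr : ∀ r : R, Θ ⟨r, Subgroup.mem_sup_left r.2⟩ =
        ⟨((a : MulAut R) r : Ω), Subgroup.mem_sup_left (Subtype.mem _)⟩ :=
      fun r => Subtype.ext ((hΘv _).trans (hθr r))
    have hΘc : Θ cX = cX := Subtype.ext ((hΘv _).trans hθc)
    set δ := MulAut.congr eC (τ a * Θ⁻¹) with hδ
    have hδF : δ ∈ F.autGroup X' :=
      congr_mem_autGroup heC (mul_mem (congr_mem_autGroup heC.symm (hGF _)) (inv_mem hΘ))
    have hδv : ∀ x, δ (eC x) = eC (τ a (Θ⁻¹ x)) := fun x => by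
      rw [hδ, congr_apply]; rfl
    have hδR : ∀ y : Rn, δ ⟨y, Subgroup.mem_sup_left y.2⟩ = ⟨y, Subgroup.mem_sup_left y.2⟩ := by
      intro y
      obtain ⟨r, rfl⟩ := eR.surjective y
      obtain ⟨r', hr'⟩ := (a : MulAut R).surjective r
      rw [show (⟨(eR r : Ω), Subgroup.mem_sup_left (eR r).2⟩ : X') =
        eC ⟨r, Subgroup.mem_sup_left r.2⟩ from Subtype.ext ((heRv r).trans (heCv ⟨r, Subgroup.mem_sup_left r.2⟩).symm), hδv]
      have e1 : Θ⁻¹ ⟨r, Subgroup.mem_sup_left r.2⟩ = ⟨r', Subgroup.mem_sup_left r'.2⟩ := by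
        apply Θ.injective
        rw [MulAut.apply_inv_self, hΘr]
        exact Subtype.ext (congrArg Subtype.val hr').symm
      rw [e1, hτR, hr']
    have hδc : δ (eC cX) = G (an a) (eC cX) := by
      rw [hδv, show Θ⁻¹ cX = cX by conv_lhs => rw [← hΘc, MulAut.inv_apply_self]]
      exact Subtype.ext (hτ a cX)
    set u := c'⁻¹ * (G (an a) (eC cX) : Ω) with hu
    set wC : ↥(Rn ⊔ centralizerIn S Rn) := ⟨(eC cX : Ω), hX'X (eC cX).2⟩ with hwC
    have hwCC : (wC : Ω) ∈ centralizerIn S Rn := by rw [hwC]; exact hec ▸ hc'C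
    have hGmem : (G (an a) (eC cX) : Ω) ∈ centralizerIn S Rn := by
      rw [hGv]
      exact apply_mem_centralizerIn hRnS (hσ _).mem_left wC hwCC
    have hδI := (mem_autGroup_iff hX'S).1 hδF
    have hle : Subgroup.zpowers c' ≤ centralizerIn S Rn := Subgroup.zpowers_le.2 hc'C
    have hfoc : u ∈ D.focalSubgroup := by
      refine Subgroup.subset_closure ⟨Subgroup.zpowers c',
        restrictHom (X'.subtype.comp δ.toMonoidHom) le_sup_right, ⟨c', Subgroup.mem_zpowers c'⟩, ?_, ?_⟩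
      · rw [hD]
        refine ⟨Fusion.restrict_mem hδI _, hle, fun x => ?_,
          restrictHom (X'.subtype.comp δ.toMonoidHom) (sup_le le_sup_right le_sup_left),
          Fusion.restrict_mem hδI _, fun x => rfl, fun y => congrArg Subtype.val (hδR y)⟩
        obtain ⟨i, hi⟩ := Subgroup.mem_zpowers_iff.1 x.2
        show (δ ⟨(x : Ω), _⟩ : Ω) ∈ _
        rw [show (⟨(x : Ω), Subgroup.mem_sup_right x.2⟩ : X') = eC cX ^ i from
          Subtype.ext (by rw [Subgroup.coe_zpow, hec, hi]), map_zpow, hδc, Subgroup.coe_zpow]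
        exact zpow_mem hGmem i
      · show u = c'⁻¹ * (δ ⟨c', _⟩ : Ω)
        rw [show (⟨c', Subgroup.mem_sup_right (Subgroup.mem_zpowers c')⟩ : X') = eC cX from
          Subtype.ext hec.symm, hδc]
    set g := σ (an a) with hg
    have hgp : (orderOf g).Coprime p := by
      refine Nat.Coprime.coprime_dvd_left ((orderOf_map_dvd σ (an a)).trans (orderOf_map_dvd an a)) hap
    set uW : ↥(Rn ⊔ centralizerIn S Rn) := wC⁻¹ * g wC with huW
    have huv : (uW : Ω) = u := by
      rw [huW, Subgroup.coe_mul, Subgroup.coe_inv, hu, hGv, ← hg]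
      exact congrArg (fun z : Ω => z⁻¹ * (g wC : Ω)) hec
    have hfix : g uW = uW := aut_fixes_focal hS hF (fullyCentralized_of_normalized hS hF hRn) hD
      (hσ _).1 hgp (hσ _).mem_left
      (fun w hw => ⟨apply_mem_centralizerIn hRnS (hσ _).mem_left w hw, (hσ _).2.2 w hw⟩) uW
      (huv.symm ▸ hfoc)
    have hit : ∀ i : ℕ, (g ^ i) wC = wC * uW ^ i := by
      intro i
      induction i with
      | zero => simp
      | succ i ih =>
        rw [pow_succ', MulAut.mul_apply, ih, map_mul, map_pow, hfix, pow_succ', ← mul_assoc,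
          show g wC = wC * uW by rw [huW, mul_inv_cancel_left]]
    have h5 := hit (orderOf g)
    rw [pow_orderOf_eq_one, MulAut.one_apply, left_eq_mul] at h5
    obtain ⟨k, hk⟩ := IsPGroup.iff_orderOf.1 (hS.to_le hW) uW
    have h6 : uW = 1 := orderOf_eq_one_iff.1 (Nat.eq_one_of_dvd_coprimes (hgp.pow_right k)
      (orderOf_dvd_of_pow_eq_one h5) (dvd_of_eq hk))
    have h7 : g wC = wC := by
      have h8 := inv_mul_eq_one.1 (huW ▸ h6)
      exact h8.symm
    refine congrArg Subtype.val (hη1 (x := τ a cX) (y := cX) ?_)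
    rw [hτ, hGv]
    exact congrArg Subtype.val h7

end CfsgLib.FusionNormal
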