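import Cfsg.Agent.Fusion.Alperin
import Cfsg.Agent.Fusion.NormalizerSaturated
import Cfsg.Agent.FusionEssential.Basic
import Cfsg.Agent.Transfer.Residual
import Cfsg.Agent.Fusion.CentralizerSubsystem

/-!
An automorphism of `R C_S(R)` of order prime to `p` preserving `R` and trivial on `C_S(R)` modulo
`R` fixes the focal subgroup of the centralizer system of `R`.
-/

set_option autoImplicit false

universe u

namespace CfsgLib.FusionNormal

open Cfsg Cfsg.FusionSystem CfsgLib.Fusion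
open scoped commutatorElement

variable {Ω : Type u} [Group Ω] {S R : Subgroup Ω} {F : FusionSystem S} {p : ℕ}

/-- A subgroup containing a Sylow subgroup and every element of order prime to `p` is the whole
group. -/
theorem eq_top_of_sylow_le {G : Type*} [Group G] [Finite G] [Fact p.Prime] (P : Sylow p G)
    {H : Subgroup G} (hP : (P : Subgroup G) ≤ H) (h : ∀ g : G, (orderOf g).Coprime p → g ∈ H) :
    H = ⊤ := top_le_iff.1 <| (CfsgLib.Transfer.sylow_sup_pResidual (p := p) P).ge.trans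
  (sup_le hP ((Subgroup.closure_le _).2 fun g hg => h g hg))

/-- An automorphism of order `n` with a power of order prime to `p` having the same restriction. -/
theorem exists_pow_coprime {G : Type*} [Group G] [Finite G] [hp : Fact p.Prime] (g : G) {m : ℕ}
    (hm : m.Coprime p) : ∃ j : ℕ, (orderOf (g ^ j)).Coprime p ∧ j ≡ 1 [MOD m] := by
  set n := orderOf g with hn
  have hn0 : n ≠ 0 := (orderOf_pos g).ne'
  set q := p ^ n.factorization p with hq
  have hqd : q ∣ n := Nat.ordProj_dvd n p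
  have hcop : q.Coprime m := (Nat.Coprime.pow_left _ hm.symm)
  obtain ⟨i, hi⟩ := Nat.exists_mul_mod_eq_of_coprime 1 hcop
    (show m ≠ 0 from fun e => hp.out.ne_one (by rw [e, Nat.coprime_zero_left] at hm; exact hm))
  refine ⟨q * i, ?_, hi.2⟩
  rw [pow_mul]
  refine Nat.Coprime.coprime_dvd_left (orderOf_pow_dvd (x := g ^ q) i) ?_
  rw [orderOf_pow_of_dvd (pow_ne_zero _ hp.out.ne_zero) hqd]
  exact (hp.out.coprime_iff_not_dvd.2 (Nat.not_dvd_ordCompl hp.out hn0)).symm

variable [Finite S] [Fact p.Prime]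

/-- An automorphism of `R C_S(R)` of order prime to `p` preserving `R` and trivial on `C_S(R)`
modulo `R` fixes the focal subgroup of the centralizer system of `R`. -/
theorem aut_fixes_focal (hS : IsPGroup p S) (hF : F.IsSaturated p) (hRc : F.IsFullyCentralized R)
    {D : FusionSystem (centralizerIn S R)} (hD : F.IsCentralizerSystem R D)
    {β : MulAut ↥(R ⊔ centralizerIn S R)} (hβ : β ∈ F.autGroup (R ⊔ centralizerIn S R))
    (hcop : (orderOf β).Coprime p)
    (hR : ∀ w : ↥(R ⊔ centralizerIn S R), (w : Ω) ∈ R → (β w : Ω) ∈ R)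
    (hC : ∀ w : ↥(R ⊔ centralizerIn S R), (w : Ω) ∈ centralizerIn S R →
      (β w : Ω) ∈ centralizerIn S R ∧ (w : Ω)⁻¹ * (β w : Ω) ∈ R)
    (w : ↥(R ⊔ centralizerIn S R)) (hw : (w : Ω) ∈ D.focalSubgroup) : β w = w := by
  classical
  have hCS : (centralizerIn S R) ≤ S := centralizerIn_le S R
  have hRS : R ≤ S := hRc.1
  have hWS : R ⊔ (centralizerIn S R) ≤ S := sup_le hRS hCS
  haveI := finite_of_le hWS
  haveI := finite_of_le hCS
  have hCp : IsPGroup p (centralizerIn S R) := hS.to_le hCS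
  have hDs : D.IsSaturated p := isSaturated_centralizerSystem hS hF hRc hD
  have hcomm : ∀ r ∈ R, ∀ c ∈ (centralizerIn S R), c * r = r * c := fun r hr c hc =>
    ((mem_centralizerIn.1 hc).2 r hr).symm
  -- the deviation
  let inC : (centralizerIn S R) → ↥(R ⊔ (centralizerIn S R)) := fun c => ⟨c, Subgroup.mem_sup_right c.2⟩
  let zc : (centralizerIn S R) →* (centralizerIn S R) :=
    MonoidHom.mk' (fun c => ⟨(c : Ω)⁻¹ * (β (inC c) : Ω),
      (centralizerIn S R).mul_mem ((centralizerIn S R).inv_mem c.2) (hC (inC c) c.2).1⟩) fun a b => Subtype.ext (by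
        show ((a : Ω) * b)⁻¹ * (β (inC (a * b)) : Ω) =
          (a : Ω)⁻¹ * (β (inC a) : Ω) * ((b : Ω)⁻¹ * (β (inC b) : Ω))
        rw [show inC (a * b) = inC a * inC b from rfl, map_mul, Subgroup.coe_mul, mul_inv_rev]
        have h1 := hcomm _ (hC (inC a) a.2).2 _ ((centralizerIn S R).inv_mem b.2)
        calc _ = (b : Ω)⁻¹ * ((a : Ω)⁻¹ * (β (inC a) : Ω)) * (β (inC b) : Ω) := by
              simp only [mul_assoc]
          _ = _ := by rw [h1, mul_assoc])
  have hzR : ∀ c : (centralizerIn S R), ((zc c : (centralizerIn S R)) : Ω) ∈ R := fun c => (hC (inC c) c.2).2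
  have hzcomm : ∀ a b : (centralizerIn S R), Commute (zc a) (zc b) := fun a b =>
    Subtype.ext (hcomm _ (hzR b) _ (zc a).2)
  have hzfix : ∀ c : (centralizerIn S R), zc c = 1 ↔ β (inC c) = inC c := fun c => by
    rw [← Subtype.coe_inj, ← Subtype.coe_inj (a := β (inC c))]
    show (c : Ω)⁻¹ * (β (inC c) : Ω) = 1 ↔ _
    rw [inv_mul_eq_one, eq_comm]
  -- the maps respecting the deviation
  let G : FusionSystem (centralizerIn S R) :=
    { Hom := fun P => {φ | φ ∈ D.Hom P ∧ ∀ (u : P) (h1 : (u : Ω) ∈ (centralizerIn S R)) (h2 : φ u ∈ (centralizerIn S R)),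
        zc ⟨φ u, h2⟩ = zc ⟨u, h1⟩}
      le_of_mem := fun h => D.le_of_mem h.1
      injective_of_mem := fun h => D.injective_of_mem h.1
      conj_mem := fun {P g} hP hg => ⟨D.conj_mem hP hg, fun u h1 h2 => by
        rw [show (⟨conjHom P g u, h2⟩ : (centralizerIn S R)) = ⟨g, hg⟩ * ⟨u, h1⟩ * ⟨g, hg⟩⁻¹ from rfl, map_mul, map_mul,
          map_inv, (hzcomm _ _).eq, mul_inv_cancel_right]⟩
      comp_mem := fun {P Q φ ψ} hφ hψ h => ⟨D.comp_mem hφ.1 hψ.1 h, fun u h1 h2 => by
        rw [← hφ.2 u h1 (apply_mem hφ.1 u)]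
        exact hψ.2 ⟨φ u, h u⟩ (apply_mem hφ.1 u) h2⟩
      inv_mem := fun {P φ} hφ => by
        obtain ⟨ψ, hψ, hv⟩ := D.inv_mem hφ.1
        refine ⟨ψ, ⟨hψ, ?_⟩, hv⟩
        rintro ⟨_, u, rfl⟩ h1 h2
        have e : (⟨ψ ⟨φ u, u, rfl⟩, h2⟩ : (centralizerIn S R)) = ⟨u, le_left hφ.1 u.2⟩ := Subtype.ext (hv u)
        rw [e]
        exact (hφ.2 u _ h1).symm }
  have hle : D ≤ G := by
    refine le_of_essential_step hCp hDs fun U hU hU' _ γ hγ => ?_
    have hUC : U ≤ (centralizerIn S R) := hU.1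
    haveI := finite_of_le hUC
    have hUS : U ≤ S := hUC.trans hCS
    have hUR : ∀ x ∈ (centralizerIn S R), x ∈ R → x ∈ U := fun x hxC hxR =>
      centralizerIn_le_of_centric (hU'.elim (fun e => by rw [e]; exact isCentric_self) fun h => h.1)
        (mem_centralizerIn.2 ⟨hxC, fun u hu => (hcomm x hxR u (hUC hu))⟩)
    -- extensions fixing `R`
    have hext : ∀ δ ∈ D.autGroup U, ∃ ψ ∈ F.Hom (U ⊔ R),
        (∀ x : U, ψ (Subgroup.inclusion le_sup_left x) = (δ x : Ω)) ∧
        ∀ r : R, ψ (Subgroup.inclusion le_sup_right r) = r := by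
      intro δ hδ
      have h : U.subtype.comp δ.toMonoidHom ∈ D.Hom U := (mem_autGroup_iff hUC).1 hδ
      rw [hD U] at h
      exact h.2.2.2
    have hfix : ∀ δ ∈ D.autGroup U, ∀ u : U, (u : Ω) ∈ R → δ u = u := by
      intro δ hδ u hu
      obtain ⟨ψ, -, h1, h2⟩ := hext δ hδ
      exact Subtype.ext ((h1 u).symm.trans (h2 ⟨u, hu⟩))
    -- the automorphisms trivial modulo `R`
    let N : Subgroup (D.autGroup U) :=
      { carrier := {δ | ∀ u : U, (u : Ω)⁻¹ * (((δ : MulAut U) u : U) : Ω) ∈ R}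
        one_mem' := fun u => by simp
        mul_mem' := fun {a b} ha hb u => by
          have h := R.mul_mem (hb u) (ha ((b : MulAut U) u))
          simpa [mul_assoc] using h
        inv_mem' := fun {a} ha u => by
          have h := R.inv_mem (ha ((a : MulAut U)⁻¹ u))
          simpa using h }
    have hNn : N.Normal := ⟨fun a ha g u => by
      set v : U := (g : MulAut U)⁻¹ u with hv
      have h1 := hfix g g.2 (v⁻¹ * (a : MulAut U) v) (ha v)
      have h2 : u⁻¹ * ((g * a * g⁻¹ : D.autGroup U) : MulAut U) u =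
          (g : MulAut U) (v⁻¹ * (a : MulAut U) v) := by
        rw [map_mul, map_inv, hv]
        simp
      have h3 := ha v
      show (((u⁻¹ * ((g * a * g⁻¹ : D.autGroup U) : MulAut U) u : U)) : Ω) ∈ R
      rw [h2, h1]
      exact h3⟩
    have hNp : IsPGroup p N := by
      obtain ⟨k, hk⟩ := (hCp.to_le hUC).exists_card_eq
      intro δ
      refine ⟨k, Subtype.ext (Subtype.ext (MulEquiv.ext fun u => ?_))⟩
      set a : U := u⁻¹ * ((δ : D.autGroup U) : MulAut U) u with ha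
      have haR : (a : Ω) ∈ R := δ.2 u
      have hafix := hfix _ (δ : D.autGroup U).2 a haR
      have hpow : ∀ i : ℕ, (((δ : D.autGroup U) : MulAut U) ^ i) u = u * a ^ i := by
        intro i
        induction i with
        | zero => simp
        | succ i ih =>
          rw [pow_succ', MulAut.mul_apply, ih, map_mul, map_pow, hafix, pow_succ', ← mul_assoc u a,
            show u * a = ((δ : D.autGroup U) : MulAut U) u by rw [ha, mul_inv_cancel_left]]
      show (((δ : D.autGroup U) : MulAut U) ^ (p ^ k)) u = u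
      rw [hpow, ← hk, pow_card_eq_one', mul_one]
    have hNI : N.map (D.autGroup U).subtype ≤ Inn U := by
      rcases hU' with rfl | hess
      · obtain ⟨⟨-, P, hP⟩, -⟩ := automized_receptive hCp hDs (isFullyNormalized_self (F := D))
        haveI := hNn
        have h2 := P.is_maximal' (hNp.to_sup_of_normal_left P.isPGroup'
          : IsPGroup p ↥(N ⊔ (P : Subgroup _))) le_sup_right
        rintro _ ⟨δ, hδ, rfl⟩
        have h3 : δ ∈ (P : Subgroup (D.autGroup (centralizerIn S R))) := h2 ▸ Subgroup.mem_sup_left hδ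
        rw [hP] at h3
        rw [Inn_eq]
        exact Subgroup.mem_subgroupOf.1 h3
      · exact CfsgLib.FusionEssential.map_le_Inn hess hNn hNp
    -- the commutator with `β`
    refine (mem_autGroup_iff hUC).2 ⟨(mem_autGroup_iff hUC).1 hγ, fun u h1 h2 => ?_⟩
    have hVS : U ⊔ R ≤ S := sup_le hUS hRS
    have hVW : U ⊔ R ≤ R ⊔ (centralizerIn S R) := sup_le (hUC.trans le_sup_right) le_sup_left
    haveI := finite_of_le hVS
    obtain ⟨ψ, hψ, hψU, hψR⟩ := hext γ hγ
    have hβI : IsIso F β := (mem_autGroup_iff hWS).1 hβ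
    have hβU : ∀ x (hx : x ∈ U), (β ⟨x, Subgroup.mem_sup_right (hUC hx)⟩ : Ω) ∈ U := fun x hx => by
      have e : (β ⟨x, Subgroup.mem_sup_right (hUC hx)⟩ : Ω) = x * (zc ⟨x, hUC hx⟩ : (centralizerIn S R)) :=
        (mul_inv_cancel_left x _).symm
      rw [e]
      exact U.mul_mem hx (hUR _ (zc _).2 (hzR _))
    obtain ⟨b, hb, hbv⟩ := exists_aut_restrict (φ := (R ⊔ (centralizerIn S R)).subtype.comp β.toMonoidHom) hβI hVW
      fun x hx => forall_mem_sup _ (le_sup_left.trans hVW) (le_sup_right.trans hVW)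
        (fun y hy => Subgroup.mem_sup_left (hβU y hy))
        (fun y hy => Subgroup.mem_sup_right (hR _ hy)) (hVW hx) hx
    obtain ⟨g, hg, hgv⟩ := exists_aut_restrict (φ := ψ) hψ le_rfl
      fun x hx => forall_mem_sup _ le_sup_left le_sup_right
        (fun y hy => Subgroup.mem_sup_left ((hψU ⟨y, hy⟩).symm ▸ (γ ⟨y, hy⟩).2))
        (fun y hy => Subgroup.mem_sup_right ((hψR ⟨y, hy⟩).symm ▸ hy)) hx hx
    have hbR : ∀ v : ↥(U ⊔ R), (v : Ω) ∈ R → (b v : Ω) ∈ R := fun v hv => by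
      rw [hbv]; exact hR _ hv
    have hbU : ∀ v : ↥(U ⊔ R), (v : Ω) ∈ U → (b v : Ω) ∈ U := fun v hv => by
      rw [hbv]; exact hβU _ hv
    have hgR : ∀ v : ↥(U ⊔ R), (v : Ω) ∈ R → g v = v := fun v hv =>
      Subtype.ext ((hgv v).trans (hψR ⟨v, hv⟩))
    have hgU : ∀ v : ↥(U ⊔ R), ∀ hv : (v : Ω) ∈ U, (g v : Ω) = (γ ⟨v, hv⟩ : Ω) := fun v hv =>
      (hgv v).trans (hψU ⟨v, hv⟩)
    set θ : MulAut ↥(U ⊔ R) := b * g * b⁻¹ * g⁻¹ with hθdef
    have hθ : θ ∈ F.autGroup (U ⊔ R) := mul_mem (mul_mem (mul_mem hb hg) (inv_mem hb)) (inv_mem hg)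
    have hθI : IsIso F θ := (mem_autGroup_iff hVS).1 hθ
    -- inverses preserve the pieces
    have hpres : ∀ (f : MulAut ↥(U ⊔ R)) (A : Subgroup Ω), (∀ v : ↥(U ⊔ R), (v : Ω) ∈ A → (f v : Ω) ∈ A) →
        ∀ v : ↥(U ⊔ R), (v : Ω) ∈ A → ((f⁻¹ v : ↥(U ⊔ R)) : Ω) ∈ A := by
      intro f A hf v hv
      have hn : ∀ n : ℕ, ∀ v : ↥(U ⊔ R), (v : Ω) ∈ A → (((f ^ n) v : ↥(U ⊔ R)) : Ω) ∈ A := by
        intro n
        induction n with
        | zero => exact fun v hv => hv
        | succ n ih => exact fun v hv => by rw [pow_succ, MulAut.mul_apply]; exact ih _ (hf v hv)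
      obtain ⟨n, hn'⟩ : ∃ n : ℕ, f⁻¹ = f ^ n :=
        ⟨orderOf f - 1, inv_eq_of_mul_eq_one_right (by
          rw [← pow_succ', Nat.sub_add_cancel (orderOf_pos f), pow_orderOf_eq_one])⟩
      rw [hn']
      exact hn n v hv
    have hθR : ∀ v : ↥(U ⊔ R), (v : Ω) ∈ R → θ v = v := fun v hv => by
      have h1 : g⁻¹ v = v := by
        conv_lhs => rw [← hgR v hv]
        exact MulAut.inv_apply_self ..
      rw [hθdef, MulAut.mul_apply, MulAut.mul_apply, MulAut.mul_apply, h1,
        hgR _ (hpres b R hbR v hv), MulAut.apply_inv_self]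
    obtain ⟨θ₀, hθ₀F, hθ₀v⟩ := exists_aut_restrict (φ := (U ⊔ R).subtype.comp θ.toMonoidHom) hθI
      (le_sup_left : U ≤ U ⊔ R) fun x hx => by
        have hgU' : ∀ v : ↥(U ⊔ R), (v : Ω) ∈ U → (g v : Ω) ∈ U := fun v hv => (hgU v hv).symm ▸ (γ _).2
        show (θ ⟨x, _⟩ : Ω) ∈ U
        rw [hθdef, MulAut.mul_apply, MulAut.mul_apply, MulAut.mul_apply]
        exact hbU _ (hgU' _ (hpres b U hbU _ (hpres g U hgU' _ hx)))
    have hθ₀D : θ₀ ∈ D.autGroup U := by
      refine (mem_autGroup_iff hUC).2 ?_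
      show U.subtype.comp θ₀.toMonoidHom ∈ D.Hom U
      rw [hD U]
      exact ⟨(mem_autGroup_iff hUS).1 hθ₀F, hUC, fun x => hUC (θ₀ x).2, _, hθI,
        fun x => (hθ₀v x).symm, fun r => congrArg Subtype.val (hθR ⟨r, _⟩ r.2)⟩
    set x : U := u with hx
    set y : U := γ u with hy
    set xC : (centralizerIn S R) := ⟨x, hUC x.2⟩ with hxC
    set yC : (centralizerIn S R) := ⟨y, hUC y.2⟩ with hyC
    set xV : ↥(U ⊔ R) := Subgroup.inclusion le_sup_left x with hxV
    set yV : ↥(U ⊔ R) := Subgroup.inclusion le_sup_left y with hyV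
    have hgx : g xV = yV := Subtype.ext (hgU xV x.2)
    have hgy : g⁻¹ yV = xV := by rw [← hgx, MulAut.inv_apply_self]
    have hbx : ∀ (w : U), (b (Subgroup.inclusion le_sup_left w) : Ω) =
        w * (zc ⟨w, hUC w.2⟩ : (centralizerIn S R)) := fun w => by
      rw [hbv]
      exact (mul_inv_cancel_left (w : Ω) _).symm
    have hkey : ((θ₀ y : U) : Ω) = y * ((zc yC : (centralizerIn S R)) : Ω) * ((zc xC : (centralizerIn S R)) : Ω)⁻¹ := by
      set a : ↥(U ⊔ R) := (b xV)⁻¹ * xV with ha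
      have haR : (a : Ω) ∈ R := by
        show (b xV : Ω)⁻¹ * (xV : Ω) ∈ R
        rw [hbx x]
        show ((x : Ω) * (zc xC : (centralizerIn S R)))⁻¹ * (x : Ω) ∈ R
        rw [mul_inv_rev, mul_assoc, inv_mul_cancel, mul_one]
        exact R.inv_mem (hzR _)
      have h3 : g (b⁻¹ xV) = yV * b⁻¹ a := by
        have e : b⁻¹ xV = xV * b⁻¹ a := by
          rw [ha, map_mul, map_inv, MulAut.inv_apply_self, mul_inv_cancel_left]
        rw [e, map_mul, hgx, hgR _ (hpres b R hbR a haR)]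
      rw [hθ₀v]
      show (θ yV : Ω) = _
      rw [hθdef, MulAut.mul_apply, hgy, MulAut.mul_apply, MulAut.mul_apply, h3, map_mul,
        MulAut.apply_inv_self, Subgroup.coe_mul, hbx y]
      show (y : Ω) * (zc yC : (centralizerIn S R)) * ((b xV : Ω)⁻¹ * (x : Ω)) = _
      rw [hbx x, mul_inv_rev, mul_assoc ((zc _ : (centralizerIn S R)) : Ω)⁻¹, inv_mul_cancel, mul_one]
    have hθN : (⟨θ₀, hθ₀D⟩ : D.autGroup U) ∈ N := fun v => by
      -- `θ₀` is trivial modulo `R` on all of `U`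
      obtain ⟨v', rfl⟩ : ∃ v', γ v' = v := ⟨_, γ.apply_symm_apply v⟩
      set vV : ↥(U ⊔ R) := Subgroup.inclusion le_sup_left v'
      set a : ↥(U ⊔ R) := (b vV)⁻¹ * vV with ha
      have haR : (a : Ω) ∈ R := by
        show (b vV : Ω)⁻¹ * (v' : Ω) ∈ R
        rw [hbx v', mul_inv_rev, mul_assoc, inv_mul_cancel, mul_one]
        exact R.inv_mem (hzR _)
      have hgv' : g vV = Subgroup.inclusion le_sup_left (γ v') := Subtype.ext (hgU vV v'.2)
      have h3 : g (b⁻¹ vV) = Subgroup.inclusion le_sup_left (γ v') * b⁻¹ a := by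
        have e : b⁻¹ vV = vV * b⁻¹ a := by
          rw [ha, map_mul, map_inv, MulAut.inv_apply_self, mul_inv_cancel_left]
        rw [e, map_mul, hgv', hgR _ (hpres b R hbR a haR)]
      show (γ v' : Ω)⁻¹ * ((θ₀ (γ v') : U) : Ω) ∈ R
      rw [hθ₀v]
      show (γ v' : Ω)⁻¹ * (θ (Subgroup.inclusion le_sup_left (γ v')) : Ω) ∈ R
      rw [hθdef, MulAut.mul_apply, ← hgv', MulAut.inv_apply_self, MulAut.mul_apply,
        MulAut.mul_apply, h3, map_mul, MulAut.apply_inv_self, Subgroup.coe_mul, hbx (γ v'),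
        ← mul_assoc, inv_mul_cancel_left]
      exact R.mul_mem (hzR _) haR
    have hθI' : θ₀ ∈ Inn U := hNI ⟨⟨θ₀, hθ₀D⟩, hθN, rfl⟩
    rw [Inn_eq] at hθI'
    obtain ⟨u₀, hu₀, -, hu₀v⟩ := mem_autInducedBy_iff.1 hθI'
    -- so the difference is a commutator, which `β` fixes
    set c : (centralizerIn S R) := zc yC * (zc xC)⁻¹ with hc
    have hc1 : zc c = 1 := by
      have hce : c = yC⁻¹ * ⟨u₀, hUC hu₀⟩ * yC * ⟨u₀, hUC hu₀⟩⁻¹ := by
        refine Subtype.ext ?_
        show ((zc yC : (centralizerIn S R)) : Ω) * ((zc xC : (centralizerIn S R)) : Ω)⁻¹ = (y : Ω)⁻¹ * u₀ * y * u₀⁻¹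
        have h4 := hu₀v y
        rw [hkey] at h4
        rw [mul_assoc ((y : Ω)⁻¹) u₀, mul_assoc ((y : Ω)⁻¹), ← h4, mul_assoc (y : Ω),
          inv_mul_cancel_left]
      rw [hce]
      simp only [map_mul, map_inv]
      rw [mul_assoc (zc yC)⁻¹, (hzcomm ⟨u₀, hUC hu₀⟩ yC).eq, inv_mul_cancel_left, mul_inv_cancel]
    have hcb : β (inC c) = inC c := (hzfix c).1 hc1
    set v : (centralizerIn S R) := xC⁻¹ * yC with hv
    have hzv : zc v = c := by
      rw [hv, map_mul, map_inv, hc]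
      exact ((hzcomm yC xC).inv_right).eq.symm
    have hbv : β (inC v) = inC v * inC c := Subtype.ext (by
      show (β (inC v) : Ω) = (v : Ω) * (c : Ω)
      rw [← hzv]
      exact (mul_inv_cancel_left (v : Ω) _).symm)
    have hpw : ∀ i : ℕ, (β ^ i) (inC v) = inC v * inC c ^ i := by
      intro i
      induction i with
      | zero => simp
      | succ i ih => rw [pow_succ', MulAut.mul_apply, ih, map_mul, hbv, map_pow, hcb, pow_succ',
          mul_assoc]
    have h5 := hpw (orderOf β)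
    rw [pow_orderOf_eq_one, MulAut.one_apply, left_eq_mul] at h5
    have h6 : c ^ orderOf β = 1 := Subtype.ext (by simpa [inC] using congrArg Subtype.val h5)
    obtain ⟨k, hk⟩ := IsPGroup.iff_orderOf.1 hCp c
    have h7 : orderOf c = 1 := Nat.eq_one_of_dvd_coprimes (hcop.pow_right k)
      (orderOf_dvd_of_pow_eq_one h6) (dvd_of_eq hk)
    rw [orderOf_eq_one_iff, hc, mul_inv_eq_one] at h7
    exact h7
  -- conclusion
  let K : Subgroup Ω := zc.ker.map (centralizerIn S R).subtype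
  have hfoc : D.focalSubgroup ≤ K := by
    refine (Subgroup.closure_le _).2 ?_
    rintro _ ⟨P, φ, u, hφ, rfl⟩
    refine ⟨⟨u, le_left hφ u.2⟩⁻¹ * ⟨φ u, apply_mem hφ u⟩, ?_, rfl⟩
    rw [SetLike.mem_coe, MonoidHom.mem_ker, map_mul, map_inv, inv_mul_eq_one]
    exact ((hle P hφ).2 u _ _).symm
  obtain ⟨c, hc, hcw⟩ := hfoc hw
  have := (hzfix c).1 hc
  rwa [show inC c = w from Subtype.ext hcw] at this

end CfsgLib.FusionNormal
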